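import Cfsg.Agent.Lib.Offender.Model
import Cfsg.Agent.S0600
import Cfsg.Agent.S0601
import Cfsg.Agent.S0604
import Cfsg.Agent.S0606
import Cfsg.Agent.S0608

/-!
Failure of Thompson factorization in p-solvable groups.
-/

set_option autoImplicit false
open Subgroup
open scoped commutatorElement MatrixGroups

namespace Cfsg.Agent.Lib.Offender

open Cfsg Cfsg.Agent.Lib.Thompson

variable {G : Type*} [Group G] [Finite G] {p : ℕ} [hp : Fact p.Prime]

/-- The subgroup generated by the `Ω₁(Z(S))`. -/
abbrev omegaSup (p : ℕ) (G : Type*) [Group G] : Subgroup G :=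
  ⨆ S : Sylow p G, omegaOne p ((S : Subgroup G) ⊓ centralizer ((S : Subgroup G) : Set G))

theorem le_centralizer_of_pGroup_mod (V : Subgroup G) [V.Normal]
    (hO : pCore p (G ⧸ centralizer (V : Set G)) = ⊥) (D : Subgroup G) (hD : D.Normal)
    (hC : IsPGroup p (D.map (QuotientGroup.mk' (centralizer (V : Set G))))) : D ≤ centralizer (V : Set G) := by
  have hDn : (D.map (QuotientGroup.mk' (centralizer (V : Set G)))).Normal :=
    hD.map _ (QuotientGroup.mk'_surjective _)
  have h := (Hall.le_pCore hC).trans hO.le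
  rw [le_bot_iff, Subgroup.map_eq_bot_iff, QuotientGroup.ker_mk'] at h
  exact h

theorem isPGroup_map_of_relIndex (V : Subgroup G) [V.Normal] {J D : Subgroup G} {k : ℕ} (hDJ : D ≤ J)
    (hk : (J ⊓ centralizer (V : Set G)).relIndex D = p ^ k) :
    IsPGroup p (D.map (QuotientGroup.mk' (centralizer (V : Set G)))) := by
  have hk' : (centralizer (V : Set G)).relIndex D = p ^ k := by
    rw [← inf_relIndex_right, show centralizer (V : Set G) ⊓ D = (J ⊓ centralizer (V : Set G)) ⊓ D by
      rw [inf_comm J, inf_assoc, inf_eq_right.mpr hDJ], inf_relIndex_right]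
    exact hk
  refine IsPGroup.of_card (n := k) ?_
  rw [← hk', relIndex, subgroupOf]
  have h1 := index_ker ((QuotientGroup.mk' (centralizer (V : Set G))).comp D.subtype)
  rw [← MonoidHom.comap_ker, QuotientGroup.ker_mk', MonoidHom.range_comp, range_subtype] at h1
  exact h1.symm

/-- `O_p(G/C(V)) = 1` for `V` generated by the `Ω₁(Z(S))`. -/
theorem omegaSup_spec (hsep : IsPSolvable p G) (hO : pPrimeCore p G = ⊥) :
    (omegaSup p G).Normal ∧ IsElementaryAbelian p (omegaSup p G) ∧
      ∀ _ : (omegaSup p G).Normal, pCore p (G ⧸ centralizer ((omegaSup p G : Subgroup G) : Set G)) = ⊥ := by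
  obtain ⟨hn, he, hD⟩ := S0601.result (LocalFusion.centralizer_pCore_le_of_isPSolvable hsep hO)
  refine ⟨hn, he, fun _ => ?_⟩
  set π := QuotientGroup.mk' (centralizer ((omegaSup p G : Subgroup G) : Set G))
  obtain ⟨n, hn'⟩ := IsPGroup.iff_card.mp (Hall.isPGroup_pCore
    (G := G ⧸ centralizer ((omegaSup p G : Subgroup G) : Set G)) p)
  have hle : centralizer ((omegaSup p G : Subgroup G) : Set G) ≤ (pCore p _).comap π := fun g hg => by
    rw [mem_comap, show π g = 1 from (QuotientGroup.eq_one_iff g).mpr hg]; exact one_mem _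
  have h := hD ((pCore p _).comap π) ((Hall.pCore_normal p).comap π) hle ⟨n, by
    have h1 := relIndex_comap (⊥ : Subgroup _) π ((pCore p _).comap π)
    rw [MonoidHom.comap_bot, QuotientGroup.ker_mk', map_comap_eq_self_of_surjective
      (QuotientGroup.mk'_surjective _), relIndex_bot_left, hn'] at h1
    exact h1⟩
  rw [← map_comap_eq_self_of_surjective (QuotientGroup.mk'_surjective _) (pCore p _), h]
  rw [Subgroup.map_eq_bot_iff, QuotientGroup.ker_mk']

/-- The setting attached to the Thompson subgroup. -/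
theorem thompson_setting (hsep : IsPSolvable p G) (V : Subgroup G) [V.Normal] (hV : IsElementaryAbelian p V)
    (hO : pCore p (G ⧸ centralizer (V : Set G)) = ⊥) :
    ∃ K, Setting p (iV V).range ((thompsonSubgroup p G).map (prj V)) K ∧
      (prj V).range ≤ normalizer (K : Set (Mdl V)) ∧
      (thompsonSubgroup p G).map (prj V) = ⨆ A : {A : Subgroup (Mdl V) // A ≤ (thompsonSubgroup p G).map (prj V) ∧
        IsBestOffenderOn p (iV V).range A}, (A : Subgroup (Mdl V)) := by
  haveI : (thompsonSubgroup p G).Characteristic := thompsonSubgroup_characteristic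
  refine exists_setting V hV _ (GenStruct.PHall.isPSolvable_subgroup hsep _) ?_ ?_
  · exact le_antisymm (sSup_le_sSup fun A hA => ⟨le_sSup hA, S0606.result V hV A hA⟩)
      (sSup_le fun A hA => hA.1)
  · rintro D hD hDJ ⟨k, hk⟩ -
    exact le_centralizer_of_pGroup_mod V hO D hD (isPGroup_map_of_relIndex V hDJ hk)

/-- An automorphism of the setting permutes the factors. -/
theorem fac_conj {V H K : Subgroup G} (s : Setting p V H K) {a g : G} (t : Trans p V H a)
    (hgV : g ∈ normalizer (V : Set G)) (hgH : g ∈ normalizer (H : Set G)) (hgK : g ∈ normalizer (K : Set G)) :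
    Trans p V H (g * a * g⁻¹) ∧ ∀ x, x ∈ fac K a → g * x * g⁻¹ ∈ fac K (g * a * g⁻¹) := by
  have hKeq : ∀ x, x ∈ K → g * x * g⁻¹ ∈ K := fun x hx => (mem_normalizer_iff.mp hgK x).mp hx
  refine ⟨⟨(mem_normalizer_iff.mp hgH a).mp t.mem,
    by rw [conj_pow, t.pow, mul_one, mul_inv_cancel], fun e => t.ne (by rwa [mul_inv_eq_one, mul_eq_left] at e),
    ?_⟩, fun x hx => ?_⟩
  · have hV : V.map (MulAut.conj g).toMonoidHom = V := by
      ext x
      rw [mem_map_equiv, MulAut.conj_symm_apply]
      simpa using (mem_normalizer_iff.mp (inv_mem hgV) x).symm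
    have hF : (fixV V (zpowers a)).map (MulAut.conj g).toMonoidHom = fixV V (zpowers (g * a * g⁻¹)) := by
      ext x
      rw [mem_map_equiv, MulAut.conj_symm_apply, mem_fix_zpowers, mem_fix_zpowers]
      constructor
      · rintro ⟨h1, h2⟩
        refine ⟨?_, ?_⟩
        · simpa [mul_assoc] using (mem_normalizer_iff.mp hgV _).mp h1
        · simpa [mul_assoc] using conj_commute (h := g) h2
      · rintro ⟨h1, h2⟩
        refine ⟨?_, ?_⟩
        · simpa [mul_assoc] using (mem_normalizer_iff.mp (inv_mem hgV) _).mp h1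
        · simpa [mul_assoc] using conj_commute (h := g⁻¹) h2
    rw [← hF]
    conv_lhs => arg 2; rw [← hV]
    rw [relIndex_map_map_of_injective _ _ (MulAut.conj g).injective]
    exact t.idx
  · have hle : fac K a ≤ (fac K (g * a * g⁻¹)).comap (MulAut.conj g).toMonoidHom := by
      refine sup_le (commutator_le.mpr fun k hk y hy => ?_) (zpowers_le.mpr (mem_fac K _))
      show g * ⁅k, y⁆ * g⁻¹ ∈ fac K (g * a * g⁻¹)
      rw [show g * ⁅k, y⁆ * g⁻¹ = ⁅g * k * g⁻¹, g * y * g⁻¹⁆ by simp only [commutatorElement_def]; group]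
      refine mem_sup_left (commutator_mem_commutator (hKeq k hk) ?_)
      obtain ⟨i, rfl⟩ := hy
      exact ⟨i, conj_zpow⟩
    exact hle hx

theorem centralizes_omega_of_mem {x : G} {X : Subgroup G} (hX : x ∈ omegaOne p X)
    (hab : X ≤ centralizer (X : Set G)) : x ^ p = 1 ∧ x ∈ X := by
  have he : IsElementaryAbelian p (omegaOne p X) :=
    isElementaryAbelian_closure (fun a ha b hb => mem_centralizer_iff.mp (hab hb.1) a ha.1) fun a ha => ha.2
  exact ⟨he.2 x hX, ((closure_le X).mpr fun a ha => ha.1) hX⟩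

/-- S0619. -/
theorem omega_commutator_le (hsep : IsPSolvable p G) (V : Subgroup G) [V.Normal]
    (hV : IsElementaryAbelian p V) (hO : pCore p (G ⧸ centralizer (V : Set G)) = ⊥) :
    ⁅omegaOne p (centerThompsonOf p (centralizer (V : Set G))), thompsonSubgroup p G⁆ ≤ V := by
  obtain ⟨K, s, -, -⟩ := thompson_setting hsep V hV hO
  set C := centralizer (V : Set G)
  set X := omegaOne p (centerThompsonOf p C)
  have hab : centerThompsonOf p C ≤ centralizer (centerThompsonOf p C : Set G) :=
    inf_le_right.trans (centralizer_le inf_le_left)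
  have hJ : thompsonSubgroup p G ≤ (centralizer ((X.map (QuotientGroup.mk' V)) : Set (G ⧸ V))).comap
      (QuotientGroup.mk' V) := by
    refine sSup_le fun A hA a ha => ?_
    have hAH : A.map (prj V) ≤ (thompsonSubgroup p G).map (prj V) := map_mono (le_sSup hA)
    have heq := ((s.best_iff hAH).mp (best_model V (S0606.result V hV A hA))).2
    rw [card_fixV_model, ← Nat.card_congr (MonoidHom.ofInjective (SemidirectProduct.inl_injective (φ := act V))).toEquiv] at heq
    have hA' := card_map_prj V A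
    set A₀ := (A ⊓ C) ⊔ V
    have hcomm : ∀ x ∈ A ⊓ C, ∀ v ∈ V, x * v = v * x := fun x hx v hv => (mem_centralizer_iff.mp hx.2 v hv).symm
    have he : IsElementaryAbelian p A₀ :=
      isElementaryAbelian_sup (isElementaryAbelian_le hA.1 inf_le_left) hV hcomm
    have hcard : Nat.card A ≤ Nat.card A₀ := by
      have h1 := Coprime.card_sup_mul_card_inf_of_le_normalizer (A := A ⊓ C) (N := V) (fun x hx =>
        centralizer_le_normalizer _ hx.2)
      have h2 : Nat.card ((A ⊓ C) ⊓ V : Subgroup G) ≤ Nat.card (fixV V A) := by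
        refine card_le_of_le fun x hx => mem_fixV.mpr ⟨hx.2, fun a ha => ?_⟩
        exact commute_of_elementary hA.1 ha hx.1.1
      refine Nat.le_of_mul_le_mul_right (c := Nat.card (fixV V A)) ?_ Nat.card_pos
      calc Nat.card A * Nat.card (fixV V A) = Nat.card (A ⊓ C : Subgroup G) * Nat.card V := by
            rw [← heq, ← hA']; ring
        _ = Nat.card A₀ * Nat.card ((A ⊓ C) ⊓ V : Subgroup G) := h1.symm
        _ ≤ _ := Nat.mul_le_mul_left _ h2
    have hA₀ : A₀ ∈ maxElementaryAbelianSubgroups p G := ⟨he, fun B hB => (hA.2 B hB).trans hcard⟩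
    have hA₀C : A₀ ≤ C := sup_le inf_le_right (le_centralizer_iff_isMulCommutative.mpr hV.1)
    rw [mem_comap]
    refine mem_centralizer_iff.mpr ?_
    rintro _ ⟨x, hx, rfl⟩
    obtain ⟨hxp, hxZ⟩ := centralizes_omega_of_mem hx hab
    have hx0 : x ∈ A₀ := mem_maxElementary_of_commute hA₀ (fun y hy => mem_centralizer_iff.mp hxZ.2 y (by
      rw [SetLike.mem_coe, thompsonSubgroupOf_eq hA₀ hA₀C]
      exact (le_sSup (show A₀ ∈ {B | B ∈ maxElementaryAbelianSubgroups p G ∧ B ≤ C} from ⟨hA₀, hA₀C⟩)) hy)) hxp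
    rw [← SetLike.mem_coe, Subgroup.mul_normal] at hx0
    obtain ⟨y, hy, v, hv, rfl⟩ := hx0
    rw [map_mul, show QuotientGroup.mk' V v = 1 from (QuotientGroup.eq_one_iff v).mpr hv, mul_one,
      ← map_mul, ← map_mul, commute_of_elementary hA.1 hy.1 ha]
  refine commutator_le.mpr fun x hx g hg => ?_
  refine (QuotientGroup.eq_one_iff _).mp ?_
  rw [show ((⁅x, g⁆ : G) : G ⧸ V) = ⁅QuotientGroup.mk' V x, QuotientGroup.mk' V g⁆ from
    map_commutatorElement (QuotientGroup.mk' V) x g, commutatorElement_eq_one_iff_commute]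
  exact mem_centralizer_iff.mp (mem_comap.mp (hJ hg)) _ (mem_map_of_mem _ hx)

/-- If the factorization fails, `J(G)` contains a transvection in the model. -/
theorem exists_trans (hsep : IsPSolvable p G) (hO : pPrimeCore p G = ⊥) (hnf : ¬ IsThompsonFactorizable p G)
    [(omegaSup p G).Normal] :
    ∃ K a, Setting p (iV (omegaSup p G)).range ((thompsonSubgroup p G).map (prj (omegaSup p G))) K ∧
      Trans p (iV (omegaSup p G)).range ((thompsonSubgroup p G).map (prj (omegaSup p G))) a ∧
      (thompsonSubgroup p G).map (prj (omegaSup p G)) ≤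
        normalizer ((fac K a : Subgroup (Mdl (omegaSup p G))) : Set (Mdl (omegaSup p G))) := by
  obtain ⟨-, he, hc⟩ := omegaSup_spec hsep hO
  obtain ⟨K, s, -, hgen⟩ := thompson_setting hsep (omegaSup p G) he (hc inferInstance)
  set H := (thompsonSubgroup p G).map (prj (omegaSup p G))
  obtain ⟨A, hA⟩ : ∃ A, IsMin p (iV (omegaSup p G)).range H A := by
    by_contra h
    push Not at h
    refine hnf ((S0608.result hO).mpr fun g hg => (prj_eq_one_iff (omegaSup p G)).mp (mem_bot.mp ?_))
    exact s.le_of_trans hgen (fun A hA => absurd hA (h A)) (mem_map_of_mem _ hg)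
  obtain ⟨a, -, t⟩ := s.min_trans hA
  exact ⟨K, a, s, t, t.H_normalizes_fac s hgen⟩

/-- S0618. -/
theorem not_factorizable_structure (hsep : IsPSolvable p G) (hO : pPrimeCore p G = ⊥)
    (hnf : ¬ IsThompsonFactorizable p G) :
    (p = 2 ∨ p = 3) ∧ ∃ E : Subgroup G, centralizer ((omegaSup p G : Subgroup G) : Set G) ≤ E ∧
      E ≤ thompsonSubgroup p G ⊔ centralizer ((omegaSup p G : Subgroup G) : Set G) ∧
      thompsonSubgroup p G ⊔ centralizer ((omegaSup p G : Subgroup G) : Set G) ≤ normalizer (E : Set G) ∧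
      ∃ _ : ((centralizer ((omegaSup p G : Subgroup G) : Set G)).subgroupOf E).Normal,
        Nonempty ((↥E ⧸ (centralizer ((omegaSup p G : Subgroup G) : Set G)).subgroupOf E) ≃* SL(2, ZMod p)) := by
  haveI := (omegaSup_spec hsep hO).1
  obtain ⟨K, a, s, t, hN⟩ := exists_trans hsep hO hnf
  set π := prj (omegaSup p G)
  set F := fac K a
  set E := F.comap π
  have hFH : F ≤ (thompsonSubgroup p G).map π := t.fac_le s
  have hCE : centralizer ((omegaSup p G : Subgroup G) : Set G) ≤ E := fun g hg => by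
    rw [mem_comap, (prj_eq_one_iff _).mpr hg]; exact one_mem _
  refine ⟨t.fac_pcases s, E, hCE, ?_, ?_, inferInstance, ?_⟩
  · intro g hg
    obtain ⟨j, hj, e⟩ := hFH hg
    rw [show g = j * (j⁻¹ * g) by group]
    refine mul_mem (mem_sup_left hj) (mem_sup_right ((prj_eq_one_iff _).mp ?_))
    rw [map_mul, map_inv, e, inv_mul_cancel]
  · refine sup_le ?_ (hCE.trans le_normalizer)
    intro g hg
    exact mem_normalizer_iff.mpr fun x => by
      simp only [mem_comap, E]
      rw [map_mul, map_mul, map_inv]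
      exact mem_normalizer_iff.mp (hN (mem_map_of_mem π hg)) (π x)
  · obtain ⟨e⟩ := t.fac_iso s
    let f : E →* F := (π.comp E.subtype).codRestrict F fun x => x.2
    have hf : Function.Surjective f := by
      rintro ⟨y, hy⟩
      obtain ⟨j, -, rfl⟩ := hFH hy
      exact ⟨⟨j, hy⟩, rfl⟩
    have hker : f.ker = (centralizer ((omegaSup p G : Subgroup G) : Set G)).subgroupOf E := by
      ext x
      rw [MonoidHom.mem_ker, mem_subgroupOf, ← prj_eq_one_iff, Subtype.ext_iff]
      rfl
    exact ⟨(QuotientGroup.quotientMulEquivOfEq hker.symm).trans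
      ((QuotientGroup.quotientKerEquivOfSurjective f hf).trans e)⟩

/-- A failure for `p = 3` gives a non-abelian 2-subgroup. -/
theorem exists_nonabelian_two (hsep : IsPSolvable p G) (hO : pPrimeCore p G = ⊥)
    (hnf : ¬ IsThompsonFactorizable p G) :
    p = 2 ∨ (p = 3 ∧ ∃ T : Sylow 2 G, ¬ IsMulCommutative T) := by
  haveI := (omegaSup_spec hsep hO).1
  obtain ⟨K, a, s, t, -⟩ := exists_trans hsep hO hnf
  rcases t.commutator_pgroup s with ⟨h, -⟩ | ⟨h, h2, hna⟩
  · exact Or.inl h
  refine Or.inr ⟨h, ?_⟩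
  haveI : Fact (Nat.Prime 2) := ⟨Nat.prime_two⟩
  set π := prj (omegaSup p G)
  set Q := ⁅K, zpowers a⁆
  have hQ : Q ≤ π.range := ((le_sup_left : Q ≤ fac K a).trans (t.fac_le s)).trans (map_le_range _ _)
  let f : Q.comap π →* Q := (π.comp (Q.comap π).subtype).codRestrict Q fun x => x.2
  have hf : Function.Surjective f := by
    rintro ⟨y, hy⟩
    obtain ⟨g, rfl⟩ := hQ hy
    exact ⟨⟨g, hy⟩, rfl⟩
  obtain ⟨P⟩ := (inferInstance : Nonempty (Sylow 2 (Q.comap π)))
  have htop : (P : Subgroup (Q.comap π)).map f = ⊤ := by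
    have hP := (P.mapSurjective hf).3 (Q := ⊤) (IsPGroup.of_equiv h2 Subgroup.topEquiv.symm) le_top
    exact hP.symm
  obtain ⟨T, hT⟩ := (P.2.map (Q.comap π).subtype).exists_le_sylow
  refine ⟨T, fun hc => hna ⟨⟨fun x y => ?_⟩⟩⟩
  obtain ⟨x', hx', rfl⟩ := htop.ge (mem_top x)
  obtain ⟨y', hy', rfl⟩ := htop.ge (mem_top y)
  have hxy : x' * y' = y' * x' := by
    have hh := congrArg Subtype.val
      (hc.is_comm.comm ⟨_, hT (mem_map_of_mem _ hx')⟩ ⟨_, hT (mem_map_of_mem _ hy')⟩)
    exact Subtype.ext (by simpa using hh)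
  rw [← map_mul, hxy, map_mul]

end Cfsg.Agent.Lib.Offender
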