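import Cfsg.Agent.Lib.Offender.Group

/-!
Abelian 2-subgroups as offenders in a solvable setting: `|A| |C_V(A)| ≤ |V|`, with equality only for
elementary abelian `A`.
-/

set_option autoImplicit false
open Subgroup
open scoped commutatorElement

namespace Cfsg.Agent.Lib.Offender

open Cfsg Cfsg.Agent.Lib.Thompson

variable {G : Type*} [Group G]

/-- The displacement of `v` by `g`, in an elementary abelian 2-group. -/
abbrev disp (g v : G) : G := g * v * g⁻¹ * v

section Linear

variable {U : Subgroup G} (hU : IsElementaryAbelian 2 U)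
include hU

theorem disp_mem {g v : G} (hg : g ∈ normalizer (U : Set G)) (hv : v ∈ U) : disp g v ∈ U :=
  mul_mem ((mem_normalizer_iff.mp hg v).mp hv) hv

theorem disp_sq {g v : G} (hg : g ∈ normalizer (U : Set G)) (hv : v ∈ U) :
    disp (g * g) v = disp g (disp g v) := by
  have hu : g * v * g⁻¹ ∈ U := (mem_normalizer_iff.mp hg v).mp hv
  have h2 : (g * v * g⁻¹) * (g * v * g⁻¹) = 1 := by rw [← sq]; exact hU.2 _ hu
  calc g * g * v * (g * g)⁻¹ * v = g * (g * v * g⁻¹) * g⁻¹ * ((g * v * g⁻¹) * (g * v * g⁻¹)) * v := by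
        rw [h2]; group
    _ = disp g (disp g v) := by simp only [disp]; group

theorem disp_pow {g : G} (hg : g ∈ normalizer (U : Set G)) :
    ∀ (j : ℕ) {v : G}, v ∈ U → disp (g ^ 2 ^ j) v = (disp g)^[2 ^ j] v := by
  intro j
  induction j with
  | zero => intro v _; simp
  | succ j ih =>
    intro v hv
    have hmem : (disp g)^[2 ^ j] v ∈ U := by rw [← ih hv]; exact disp_mem hU (pow_mem hg _) hv
    have e : g ^ 2 ^ (j + 1) = g ^ 2 ^ j * g ^ 2 ^ j := by rw [← pow_add, pow_succ, mul_two]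
    rw [e, disp_sq hU (pow_mem hg _) hv, ih hv, ih hmem, pow_succ, mul_two,
      Function.iterate_add_apply]

theorem commute_iff_disp {g v : G} (hv : v ∈ U) : Commute g v ↔ disp g v = 1 := by
  have h2 : v * v = 1 := by rw [← sq]; exact hU.2 v hv
  constructor
  · intro h
    rw [disp, h.eq, mul_inv_cancel_right, h2]
  · intro h
    have h1 : g * v * g⁻¹ = v := by
      rw [disp, mul_eq_one_iff_eq_inv] at h
      rw [h, inv_eq_of_mul_eq_one_right h2]
    exact mul_inv_eq_iff_eq_mul.mp h1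

/-- A 2-element fixes strictly less than its square, unless it acts trivially. -/
theorem commute_of_sq {g : G} (hg : g ∈ normalizer (U : Set G)) (j : ℕ)
    (htriv : ∀ v ∈ U, Commute (g ^ 2 ^ j) v) (h : ∀ v ∈ U, Commute (g * g) v → Commute g v) :
    ∀ v ∈ U, Commute g v := by
  have hit : ∀ n : ℕ, ∀ v ∈ U, (disp g)^[n] v = 1 → disp g v = 1 := by
    intro n
    induction n with
    | zero =>
      intro v hv h0
      simp only [Function.iterate_zero, id_eq] at h0
      simp [disp, h0]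
    | succ n ih =>
      intro v hv h0
      rw [Function.iterate_succ_apply] at h0
      have h1 := ih _ (disp_mem hU hg hv) h0
      rw [← disp_sq hU hg hv, ← commute_iff_disp hU hv] at h1
      exact (commute_iff_disp hU hv).mp (h v hv h1)
  intro v hv
  refine (commute_iff_disp hU hv).mpr (hit (2 ^ j) v hv ?_)
  rw [← disp_pow hU hg j hv]
  exact (commute_iff_disp hU hv).mp (htriv v hv)

end Linear

variable [Finite G] {V H K : Subgroup G}

/-- Two commuting involutory automorphisms of a group of odd order. -/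
theorem centralizes_of_two (X : Subgroup G) (hX : (Nat.card X).Coprime 2) {x e : G}
    (hx : x ∈ normalizer (X : Set G)) (he : e ∈ normalizer (X : Set G)) (hxe : Commute x e)
    (hx2 : ∀ k ∈ X, Commute (x * x) k) (he2 : ∀ k ∈ X, Commute (e * e) k)
    (h1 : ∀ k ∈ X, Commute x k → Commute e k) (h2 : ∀ k ∈ X, Commute (x * e) k → Commute e k) :
    ∀ k ∈ X, Commute e k := by
  have hcx : ∀ z ∈ X, x * z * x⁻¹ ∈ X := fun z hz => (mem_normalizer_iff.mp hx z).mp hz
  have hce : ∀ z ∈ X, e * z * e⁻¹ ∈ X := fun z hz => (mem_normalizer_iff.mp he z).mp hz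
  -- square roots
  have hroot : ∀ z ∈ X, ∃ r ∈ X, r * r = z ∧ ∀ y ∈ X, y * y = z → y = r := by
    intro z hz
    obtain ⟨n, hn⟩ : Odd (Nat.card X) := Nat.coprime_two_right.mp hX
    have hpow : ∀ y ∈ X, (y * y) ^ (n + 1) = y := by
      intro y hy
      have h1 : y ^ Nat.card X = 1 := orderOf_dvd_iff_pow_eq_one.mp (X.orderOf_dvd_natCard hy)
      rw [← sq, ← pow_mul, show 2 * (n + 1) = Nat.card X + 1 by omega, pow_succ, h1, one_mul]
    refine ⟨z ^ (n + 1), pow_mem hz _, ?_, fun y hy h => by rw [← h, hpow y hy]⟩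
    rw [← (Commute.refl z).mul_pow, hpow z hz]
  have hfix : ∀ {t z : G}, t * z * t⁻¹ = z → Commute t z := fun h => mul_inv_eq_iff_eq_mul.mp h
  have hinvol : ∀ {t : G}, (∀ k ∈ X, Commute (t * t) k) → ∀ z ∈ X, t * (t * z * t⁻¹) * t⁻¹ = z :=
    fun {t} ht z hz => by
      calc t * (t * z * t⁻¹) * t⁻¹ = (t * t) * z * (t * t)⁻¹ := by group
        _ = z := by rw [(ht z hz).eq, mul_inv_cancel_right]
  have hfixed : ∀ q ∈ X, e * q * e⁻¹ = q⁻¹ → q = 1 := by
    intro q hq heq
    set q' := x * q * x⁻¹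
    have hq' : q' ∈ X := hcx q hq
    have heq' : e * q' * e⁻¹ = q'⁻¹ := by
      calc e * (x * q * x⁻¹) * e⁻¹ = (e * x) * q * (e * x)⁻¹ := by group
        _ = (x * e) * q * (x * e)⁻¹ := by rw [hxe.eq]
        _ = x * (e * q * e⁻¹) * x⁻¹ := by group
        _ = _ := by rw [heq]; simp only [q']; group
    obtain ⟨r, hr, hrr, hru⟩ := hroot (q⁻¹ * q') (mul_mem (inv_mem hq) hq')
    have hrx : x * r * x⁻¹ = r⁻¹ := by
      have h3 : (x * r * x⁻¹)⁻¹ * (x * r * x⁻¹)⁻¹ = q⁻¹ * q' := by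
        calc _ = (x * (r * r) * x⁻¹)⁻¹ := by group
          _ = (q'⁻¹ * (x * q' * x⁻¹))⁻¹ := by rw [hrr]; simp only [q']; group
          _ = q⁻¹ * q' := by simp only [q']; rw [hinvol hx2 q hq]; group
      rw [← inv_inv (x * r * x⁻¹), hru _ (inv_mem (hcx r hr)) h3]
    have hcfix : Commute x (q * r) := hfix (by
      rw [show x * (q * r) * x⁻¹ = q' * (x * r * x⁻¹) by simp only [q']; group, hrx,
        show q' = q * (q⁻¹ * q') by group, ← hrr]
      group)
    have hec := h1 _ (mul_mem hq hr) hcfix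
    have her : e * r * e⁻¹ = q * r⁻¹ * q⁻¹ := by
      have h3 : (q⁻¹ * (e * r * e⁻¹)⁻¹ * q) * (q⁻¹ * (e * r * e⁻¹)⁻¹ * q) = q⁻¹ * q' := by
        calc _ = q⁻¹ * (e * (r * r) * e⁻¹)⁻¹ * q := by group
          _ = q⁻¹ * ((e * q * e⁻¹)⁻¹ * (e * q' * e⁻¹))⁻¹ * q := by rw [hrr]; group
          _ = _ := by rw [heq, heq']; group
      have h4 := hru _ (mul_mem (mul_mem (inv_mem hq) (inv_mem (hce r hr))) hq) h3
      conv_rhs => rw [← h4]
      group
    have hqr : (q * r) * (q * r) = 1 := by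
      have h3 : q⁻¹ * (q * r⁻¹ * q⁻¹) = q * r := by
        rw [← her, ← heq, show (e * q * e⁻¹) * (e * r * e⁻¹) = e * (q * r) * e⁻¹ by group, hec.eq,
          mul_inv_cancel_right]
      calc q * r * (q * r) = q * r * (q⁻¹ * (q * r⁻¹ * q⁻¹)) := by rw [h3]
        _ = 1 := by group
    have hqr1 : q * r = 1 := by
      obtain ⟨r₁, -, -, hu⟩ := hroot 1 (one_mem X)
      rw [hu _ (mul_mem hq hr) hqr, hu 1 (one_mem X) (one_mul 1)]
    have hqx : x * q * x⁻¹ = q⁻¹ := by
      rw [eq_inv_of_mul_eq_one_left hqr1, show x * r⁻¹ * x⁻¹ = (x * r * x⁻¹)⁻¹ by group, hrx]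
    have hqe := h2 q hq (hfix (by
      rw [show x * e * q * (x * e)⁻¹ = x * (e * q * e⁻¹) * x⁻¹ by group, heq,
        show x * q⁻¹ * x⁻¹ = (x * q * x⁻¹)⁻¹ by group, hqx, inv_inv]))
    obtain ⟨r₁, -, -, hu⟩ := hroot 1 (one_mem X)
    have hqq : q * q = 1 := by
      rw [hqe.eq, mul_inv_cancel_right] at heq
      exact mul_eq_one_iff_eq_inv.mpr heq
    rw [hu _ hq hqq, hu 1 (one_mem X) (one_mul 1)]
  intro k hk
  refine hfix ?_
  have h3 := hfixed (k⁻¹ * (e * k * e⁻¹)) (mul_mem (inv_mem hk) (hce k hk)) (by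
    rw [show e * (k⁻¹ * (e * k * e⁻¹)) * e⁻¹ = (e * k * e⁻¹)⁻¹ * (e * (e * k * e⁻¹) * e⁻¹) by group,
      hinvol he2 k hk]
    group)
  exact (inv_mul_eq_one.mp h3).symm

variable [hp : Fact (Nat.Prime 2)]

/-- The analysis of a non-elementary abelian 2-group. -/
theorem Setting.abelian_step (s : Setting 2 V H K) {A : Subgroup G} (hAH : A ≤ H)
    (hc : ∀ x ∈ A, ∀ y ∈ A, x * y = y * x) (hA : IsPGroup 2 A) {a : G} (ha : a ∈ A) (ha4 : a * a ≠ 1)
    (ha44 : (a * a) * (a * a) = 1)
    (ih : ∀ B ≤ A, B < A → Nat.card B * Nat.card (fixV V B) ≤ Nat.card V) :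
    Nat.card A * Nat.card (fixV V A) < Nat.card V := by
  classical
  set e := a * a with he
  have heA : e ∈ A := mul_mem ha ha
  have hKn : ∀ y ∈ A, y ∈ normalizer (K : Set G) := fun y hy => s.Knorm (hAH hy)
  -- a subgroup maximal with centralizer in `K` not centralizing `e`
  obtain ⟨B, ⟨hBA, hBe⟩, hBmax⟩ := (Set.toFinite {B : Subgroup G | B ≤ A ∧
      ¬ K ⊓ centralizer (B : Set G) ≤ centralizer ({e} : Set G)}).exists_maximal ⟨⊥, bot_le, fun h => ha4
        (s.faithful_on_K (hAH heA) (by rw [sq]; exact ha44) fun k hk => h ⟨hk,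
          mem_centralizer_iff.mpr fun y hy => by rw [mem_bot.mp hy, one_mul, mul_one]⟩)⟩
  set X := K ⊓ centralizer (B : Set G) with hXdef
  obtain ⟨k₀, hk₀, hk₀e⟩ := SetLike.not_le_iff_exists.mp hBe
  have heB : e ∉ B := fun h => hk₀e (mem_centralizer_singleton_iff.mpr
    (mem_centralizer_iff.mp hk₀.2 e h).symm)
  have hBn : ∀ y ∈ A, y ∈ normalizer (centralizer (B : Set G) : Set G) := fun y hy =>
    le_normalizer (mem_centralizer_iff.mpr fun b hb => hc b (hBA hb) y hy)
  have hXn : ∀ y ∈ A, y ∈ normalizer (X : Set G) := fun y hy =>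
    inf_normalizer_le_normalizer_inf ⟨hKn y hy, hBn y hy⟩
  have hXcop : (Nat.card X).Coprime 2 := s.Kcop.coprime_dvd_left (card_dvd_of_le inf_le_left)
  have hXB : ∀ b ∈ B, ∀ k ∈ X, Commute b k := fun b hb k hk => mem_centralizer_iff.mp hk.2 b hb
  -- only one involution modulo `B`
  have huniq : ∀ x ∈ A, x * x ∈ B → x ∈ B ∨ x * e ∈ B := by
    intro x hx hx2
    by_contra hno
    rw [not_or] at hno
    have key : ∀ y ∈ A, y ∉ B → ∀ k ∈ X, Commute y k → Commute e k := by
      intro y hy hyB k hk hyk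
      have hle : B ⊔ zpowers y ≤ A := sup_le hBA (zpowers_le.mpr hy)
      have hgt : ¬ B ⊔ zpowers y ≤ B := fun h => hyB (h (mem_sup_right (mem_zpowers y)))
      by_contra hek
      refine hgt (hBmax ⟨hle, fun h => hek ?_⟩ le_sup_left)
      have hle' : B ⊔ zpowers y ≤ centralizer ({k} : Set G) := sup_le
        (fun b hb => mem_centralizer_singleton_iff.mpr (hXB b hb k hk).eq)
        (zpowers_le.mpr (mem_centralizer_singleton_iff.mpr hyk.eq))
      exact (mem_centralizer_singleton_iff.mp (h ⟨hk.1, mem_centralizer_iff.mpr fun z hz =>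
        mem_centralizer_singleton_iff.mp (hle' hz)⟩)).symm
    exact hk₀e (mem_centralizer_singleton_iff.mpr (centralizes_of_two X hXcop (hXn x hx) (hXn e heA)
      (hc x hx e heA) (fun k hk => hXB _ hx2 k hk) (fun k _ => by rw [ha44]; exact Commute.one_left k)
      (key x hx hno.1) (key (x * e) (mul_mem hx heA) hno.2) k₀ hk₀).symm.eq)
  -- `A` is cyclic modulo `B`
  haveI : IsMulCommutative A := ⟨⟨fun x y => Subtype.ext (hc x x.2 y y.2)⟩⟩
  set B₁ := B.subgroupOf A
  have hcyc : IsCyclic (A ⧸ B₁) := by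
    rw [← Subgroup.topEquiv.isCyclic]
    haveI : IsMulCommutative (⊤ : Subgroup (A ⧸ B₁)) := ⟨⟨fun x y => by
      obtain ⟨x', hx'⟩ := QuotientGroup.mk_surjective (x : A ⧸ B₁)
      obtain ⟨y', hy'⟩ := QuotientGroup.mk_surjective (y : A ⧸ B₁)
      exact Subtype.ext (by
        show (x : A ⧸ B₁) * y = y * x
        rw [← hx', ← hy', ← QuotientGroup.mk_mul, ← QuotientGroup.mk_mul, mul_comm'])⟩⟩
    by_contra hn
    obtain ⟨r, E, hr, -, hEexp, hEc⟩ := Coprime.exists_elementary_sq hn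
    have hr2 : r = 2 := by
      obtain ⟨n, hn'⟩ := IsPGroup.iff_card.mp ((hA.to_quotient B₁).to_subgroup E)
      rw [hEc] at hn'
      exact (Nat.prime_dvd_prime_iff_eq hr Nat.prime_two).mp (hr.dvd_of_dvd_pow (hn' ▸ dvd_pow_self r two_ne_zero))
    subst hr2
    have hle : (E : Set (A ⧸ B₁)) ⊆ {1, QuotientGroup.mk ⟨e, heA⟩} := by
      intro z hz
      obtain ⟨⟨x, hx⟩, rfl⟩ := QuotientGroup.mk_surjective z
      have h2 := hEexp _ hz
      rw [← QuotientGroup.mk_pow, QuotientGroup.eq_one_iff, mem_subgroupOf] at h2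
      rcases huniq x hx (by simpa [sq] using h2) with h | h
      · exact Or.inl ((QuotientGroup.eq_one_iff _).mpr h)
      · refine Or.inr (QuotientGroup.eq.mpr ?_)
        rw [mem_subgroupOf]
        show x⁻¹ * e ∈ B
        have h3 : x⁻¹ * e = (x * x)⁻¹ * (x * e) := by group
        rw [h3]
        exact mul_mem (inv_mem (by simpa [sq] using h2)) h
    have := Set.ncard_le_ncard hle (Set.toFinite _)
    rw [← Nat.card_coe_set_eq] at this
    have h4 : Nat.card (E : Set (A ⧸ B₁)) = 4 := hEc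
    rw [h4] at this
    exact absurd (this.trans (Set.ncard_insert_le _ _)) (by simp)
  obtain ⟨cq, hcq⟩ := hcyc.exists_generator
  obtain ⟨⟨c, hcA⟩, rfl⟩ := QuotientGroup.mk_surjective cq
  obtain ⟨m, hm⟩ := IsPGroup.iff_card.mp (hA.to_quotient B₁)
  have hordc : orderOf (QuotientGroup.mk (⟨c, hcA⟩ : A) : A ⧸ B₁) = 2 ^ m := by
    rw [← hm, orderOf_eq_card_of_forall_mem_zpowers hcq]
  have hmemA : ∀ y ∈ A, ∃ i : ℤ, c ^ (-i) * y ∈ B := by
    intro y hy
    obtain ⟨i, hi⟩ := hcq (QuotientGroup.mk ⟨y, hy⟩)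
    refine ⟨i, ?_⟩
    have h1 : (QuotientGroup.mk ((⟨c, hcA⟩ : A) ^ i) : A ⧸ B₁) = QuotientGroup.mk ⟨y, hy⟩ := hi
    rw [QuotientGroup.eq, mem_subgroupOf] at h1
    simpa using h1
  have hpowB : ∀ j : ℕ, c ^ j ∈ B ↔ 2 ^ m ∣ j := by
    intro j
    rw [← hordc, orderOf_dvd_iff_pow_eq_one, ← QuotientGroup.mk_pow, QuotientGroup.eq_one_iff, mem_subgroupOf]
    rfl
  have hcm : c ^ 2 ^ m ∈ B := (hpowB _).mpr dvd_rfl
  -- the exponent is at least 2
  have hm2 : 2 ≤ m := by
    by_contra hlt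
    have h2 : 2 ^ m ∣ 2 := by interval_cases m <;> simp
    obtain ⟨i, hi⟩ := hmemA a ha
    apply heB
    have h3 : c ^ (2 : ℕ) ∈ B := (hpowB 2).mpr h2
    have h4 : (c ^ (-i) * a) * (c ^ (-i) * a) * (c ^ (2 : ℕ)) ^ i ∈ B := mul_mem (mul_mem hi hi) (zpow_mem h3 i)
    have hca : Commute (c ^ (-i)) a := Commute.zpow_left (show Commute c a from hc c hcA a ha) (-i)
    have h5 : e = (c ^ (-i) * a) * (c ^ (-i) * a) * (c ^ (2 : ℕ)) ^ i := by
      rw [hca.eq, mul_assoc a, ← mul_assoc (c ^ (-i)) a, hca.eq, mul_assoc a (c ^ (-i)), ← mul_assoc a a,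
        mul_assoc (a * a), ← zpow_natCast, ← zpow_mul, ← zpow_add, ← zpow_add]
      simp only [he, show (-i + -i + ((2 : ℕ) : ℤ) * i) = 0 by push_cast; ring, zpow_zero, mul_one]
    exact h5 ▸ h4
  have heco : c ^ 2 ^ (m - 1) * e ∈ B := by
    rcases huniq (c ^ 2 ^ (m - 1)) (pow_mem hcA _) (by
      rw [← pow_add, ← two_mul, ← pow_succ', show m - 1 + 1 = m by omega]; exact hcm) with h | h
    · exfalso
      have h1 := Nat.le_of_dvd (by positivity) ((hpowB _).mp h)
      rw [Nat.pow_le_pow_iff_right (by norm_num)] at h1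
      omega
    · exact h
  -- `U` and the chain of fixed points
  set U := fixV V B with hUdef
  have hUel : IsElementaryAbelian 2 U := isElementaryAbelian_le s.elemV inf_le_left
  have hUn : ∀ y ∈ A, y ∈ normalizer (U : Set G) := fun y hy =>
    inf_normalizer_le_normalizer_inf ⟨s.norm (hAH hy), hBn y hy⟩
  have hXU : ∀ k ∈ X, k ∈ normalizer (U : Set G) := fun k hk =>
    inf_normalizer_le_normalizer_inf ⟨s.norm (s.Kle hk.1),
      le_normalizer (mem_centralizer_iff.mpr fun b hb => hXB b hb k hk)⟩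
  have hXfaith : ∀ k ∈ X, (∀ v ∈ U, Commute k v) → k = 1 := by
    intro k hk hkU
    have hQ : zpowers k ≤ centralizer (V : Set G) := by
      refine Lib.Coprime.le_centralizer_of_pq (P := B) (hA.to_le hBA)
        (hXcop.coprime_dvd_left (card_dvd_of_le (zpowers_le.mpr hk))) (isPGroup_of_elementary s.elemV) ?_
        ((hBA.trans hAH).trans s.norm) (zpowers_le.mpr (s.norm (s.Kle hk.1))) ?_
      · intro b hb
        refine mem_centralizer_iff.mpr fun q hq => ?_
        obtain ⟨i, rfl⟩ := hq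
        exact ((hXB b hb k hk).zpow_right i).symm.eq
      · intro v hv
        refine mem_centralizer_iff.mpr fun q hq => ?_
        obtain ⟨i, rfl⟩ := hq
        exact ((hkU v hv).zpow_left i).eq
    have h1 : k ∈ H ⊓ centralizer (V : Set G) := ⟨s.Kle hk.1, hQ (mem_zpowers k)⟩
    rwa [s.faith, mem_bot] at h1
  have heU : ¬ ∀ v ∈ U, Commute e v := by
    intro h
    refine hk₀e (mem_centralizer_singleton_iff.mpr ?_)
    have hq : ⁅k₀, e⁆ = 1 := by
      refine hXfaith _ ?_ fun v hv => ?_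
      · rw [show ⁅k₀, e⁆ = k₀ * (e * k₀⁻¹ * e⁻¹) by simp only [commutatorElement_def]; group]
        exact mul_mem hk₀ ((mem_normalizer_iff.mp (hXn e heA) _).mp (inv_mem hk₀))
      · refine mul_inv_eq_iff_eq_mul.mp ?_
        have hv1 : k₀⁻¹ * v * k₀ ∈ U := by
          simpa using (mem_normalizer_iff.mp (hXU _ (inv_mem hk₀)) v).mp hv
        calc ⁅k₀, e⁆ * v * ⁅k₀, e⁆⁻¹ = k₀ * (e * (k₀⁻¹ * (e⁻¹ * v * e) * k₀) * e⁻¹) * k₀⁻¹ := by
              simp only [commutatorElement_def]; group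
          _ = v := by
              rw [show e⁻¹ * v * e = v by rw [mul_assoc, ← (h v hv).eq, inv_mul_cancel_left],
                (h _ hv1).eq, mul_inv_cancel_right]
              group
    exact (commutatorElement_eq_one_iff_commute.mp hq).eq
  set F : ℕ → Subgroup G := fun i => U ⊓ centralizer ({c ^ 2 ^ i} : Set G) with hF
  have memF : ∀ {i : ℕ} {v : G}, v ∈ F i ↔ v ∈ U ∧ Commute (c ^ 2 ^ i) v := by
    intro i v
    simp only [hF, mem_inf, mem_centralizer_singleton_iff, commute_iff_eq]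
    exact and_congr_right fun _ => eq_comm
  have hFm : F m = U := le_antisymm inf_le_left fun v hv =>
    memF.mpr ⟨hv, mem_centralizer_iff.mp (mem_fixV.mp hv |>.2 |> fun h => mem_centralizer_iff.mpr fun b hb => (h b hb).eq) _ hcm⟩
  have hFlt : ∀ i < m, F i < F (i + 1) := by
    intro i hi
    refine lt_of_le_of_ne (fun v hv => memF.mpr ⟨(memF.mp hv).1, by
      rw [pow_succ, pow_mul]; exact (memF.mp hv).2.pow_left 2⟩) fun heq => heU fun v hv => ?_
    set g := c ^ 2 ^ i
    have hg := commute_of_sq hUel (hUn g (pow_mem hcA _)) (m - i)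
      (fun w hw => by
        rw [← pow_mul, ← pow_add, show i + (m - i) = m by omega]
        exact ((mem_fixV.mp hw).2 _ hcm))
      (fun w hw h2 => (memF.mp (heq.symm ▸ (memF.mpr ⟨hw, by
        rw [pow_succ, pow_mul, sq]; exact h2⟩ : w ∈ F (i + 1)))).2)
    have h3 : Commute (c ^ 2 ^ (m - 1)) v := by
      rw [show 2 ^ (m - 1) = 2 ^ i * 2 ^ (m - 1 - i) by rw [← pow_add]; congr 1; omega, pow_mul]
      exact (hg v hv).pow_left _
    have h4 : Commute (c ^ 2 ^ (m - 1) * e) v := (mem_fixV.mp hv).2 _ heco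
    have := h3.inv_left.mul_left h4
    rwa [inv_mul_cancel_left] at this
  have hstep : ∀ i < m, 2 * Nat.card (F i) ≤ Nat.card (F (i + 1)) := fun i hi =>
    mul_card_le_card_of_lt (isPGroup_of_elementary hUel) inf_le_left (hFlt i hi)
  have hchain : ∀ j, ∀ i, i + j ≤ m → 2 ^ j * Nat.card (F i) ≤ Nat.card (F (i + j)) := by
    intro j
    induction j with
    | zero => intro i _; simp
    | succ j ihj =>
      intro i hij
      calc 2 ^ (j + 1) * Nat.card (F i) = 2 * (2 ^ j * Nat.card (F i)) := by ring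
        _ ≤ 2 * Nat.card (F (i + j)) := Nat.mul_le_mul_left 2 (ihj i (by omega))
        _ ≤ Nat.card (F (i + (j + 1))) := hstep (i + j) (by omega)
  have hfixA : fixV V A = F 0 := by
    ext v
    rw [memF, hUdef, mem_fixV, mem_fixV, pow_zero, pow_one]
    refine ⟨fun h => ⟨⟨h.1, fun b hb => h.2 b (hBA hb)⟩, h.2 c hcA⟩, fun h => ⟨h.1.1, fun y hy => ?_⟩⟩
    obtain ⟨i, hi⟩ := hmemA y hy
    have := (h.2.zpow_left i).mul_left (h.1.2 _ hi)
    rwa [← mul_assoc, ← zpow_add, add_neg_cancel, zpow_zero, one_mul] at this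
  have hcardA : Nat.card A = Nat.card B * 2 ^ m := by
    rw [← hm, ← Coprime.card_subgroupOf hBA, ← index_eq_card, card_mul_index]
  have hBlt : B < A := lt_of_le_of_ne hBA fun h => heB (h ▸ heA)
  have hIH : Nat.card B * Nat.card U ≤ Nat.card V := ih B hBA hBlt
  rw [hcardA, hfixA, mul_assoc]
  refine lt_of_lt_of_le (Nat.mul_lt_mul_of_pos_left ?_ Nat.card_pos) hIH
  by_contra hge
  push Not at hge
  -- equality: `e` is a transvection on `U`, with a square root fixing its factor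
  have h1 := hchain (m - 2) 0 (by omega)
  rw [zero_add] at h1
  have h2 := hstep (m - 2) (by omega)
  rw [show m - 2 + 1 = m - 1 by omega] at h2
  have h3 := hstep (m - 1) (by omega)
  rw [show m - 1 + 1 = m by omega, hFm] at h3
  have hpow : 2 ^ m = 4 * 2 ^ (m - 2) := by
    rw [show (4 : ℕ) = 2 ^ 2 by rfl, ← pow_add]; congr 1; omega
  have hUeq : Nat.card U = 2 * Nat.card (F (m - 1)) := by
    rw [hpow] at hge
    linarith
  have hFe : fixV U (zpowers e) = F (m - 1) := by
    ext v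
    rw [mem_fix_zpowers, memF]
    refine and_congr_right fun hv => ?_
    have h4 : Commute (c ^ 2 ^ (m - 1) * e) v := (mem_fixV.mp hv).2 _ heco
    refine ⟨fun he' => ?_, fun hc' => ?_⟩
    · have := h4.mul_left he'.inv_left
      rwa [mul_inv_cancel_right] at this
    · have := hc'.inv_left.mul_left h4
      rwa [inv_mul_cancel_left] at this
  set H' := X ⊔ zpowers e
  have heXn : zpowers e ≤ normalizer (X : Set G) := zpowers_le.mpr (hXn e heA)
  have hH'mem : ∀ y ∈ H', y ∈ X ∨ ∃ k ∈ X, y = k * e := by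
    intro y hy
    rw [← SetLike.mem_coe, coe_mul_of_right_le_normalizer_left _ _ heXn] at hy
    obtain ⟨k, hk, z, hz, rfl⟩ := hy
    obtain ⟨i, rfl⟩ := hz
    rcases Int.even_or_odd' i with ⟨j, rfl | rfl⟩
    · left
      show k * e ^ (2 * j) ∈ X
      rw [zpow_mul, show e ^ (2 : ℤ) = e * e by rw [zpow_two], ha44, one_zpow, mul_one]
      exact hk
    · right
      refine ⟨k, hk, ?_⟩
      show k * e ^ (2 * j + 1) = k * e
      rw [zpow_add, zpow_mul, show e ^ (2 : ℤ) = e * e by rw [zpow_two], ha44, one_zpow, one_mul, zpow_one]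
  have heinv : e⁻¹ = e := inv_eq_of_mul_eq_one_right ha44
  have hconj : ∀ {k v : G}, Commute (k * e) v → e * v * e⁻¹ = k⁻¹ * v * k := by
    intro k v h
    calc e * v * e⁻¹ = k⁻¹ * ((k * e) * v) * e⁻¹ := by group
      _ = k⁻¹ * (v * (k * e)) * e⁻¹ := by rw [h.eq]
      _ = k⁻¹ * v * k := by group
  have hU2 : ∀ {v w : G}, w = e * v * e⁻¹ → e * w * e⁻¹ = v := by
    rintro v w rfl
    rw [heinv]
    calc e * (e * v * e) * e = (e * e) * v * (e * e) := by group
      _ = v := by rw [ha44, one_mul, mul_one]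
  have hset : Setting 2 U H' X := by
    refine ⟨hUel, sup_le (fun k hk => hXU k hk) (zpowers_le.mpr (hUn e heA)), ?_, le_sup_left, hXcop,
      sup_le le_normalizer heXn, ?_⟩
    · rw [eq_bot_iff]
      rintro y ⟨hy, hyU⟩
      rw [mem_bot]
      have hyU' : ∀ v ∈ U, Commute y v := fun v hv => (mem_centralizer_iff.mp hyU v hv).symm
      rcases hH'mem y hy with hk | ⟨k, hk, rfl⟩
      · exact hXfaith y hk hyU'
      · exfalso
        have hk2 : k * k = 1 := hXfaith _ (mul_mem hk hk) fun v hv => by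
          have h1 := hconj (hyU' v hv)
          have hv' : e * v * e⁻¹ ∈ U := (mem_normalizer_iff.mp (hUn e heA) v).mp hv
          have h2 := hconj (hyU' _ hv')
          rw [hU2 rfl, h1] at h2
          refine mul_inv_eq_iff_eq_mul.mp ?_
          calc k * k * v * (k * k)⁻¹ = k * k * (k⁻¹ * (k⁻¹ * v * k) * k) * (k * k)⁻¹ := by rw [← h2]
            _ = v := by group
        have hk1 : k = 1 := by
          rw [← orderOf_eq_one_iff]
          exact Nat.eq_one_of_dvd_coprimes hXcop (X.orderOf_dvd_natCard hk)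
            (orderOf_dvd_of_pow_eq_one (by rw [sq]; exact hk2))
        exact heU fun v hv => by simpa [hk1] using hyU' v hv
    · rintro y ⟨hy, hyX⟩
      rcases hH'mem y hy with hk | ⟨k, hk, rfl⟩
      · exact hk
      exfalso
      have hyX' : ∀ x ∈ X, Commute (k * e) x := fun x hx => (mem_centralizer_iff.mp hyX x hx).symm
      have hke : Commute e k := by
        have := hconj (hyX' k hk)
        rw [inv_mul_cancel, one_mul] at this
        exact mul_inv_eq_iff_eq_mul.mp this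
      apply hk₀e
      rw [mem_centralizer_singleton_iff]
      have hk2 : Commute (k * k) k₀ := by
        have h1 := hyX' k₀ hk₀
        have h2 := h1.mul_left h1
        rwa [show k * e * (k * e) = k * k * (e * e) by
          rw [mul_assoc, ← mul_assoc e, hke.eq, mul_assoc k, ← mul_assoc k], ha44, mul_one] at h2
      have hodd : Odd (orderOf k) :=
        (Nat.coprime_two_right.mp (hXcop.coprime_dvd_left (X.orderOf_dvd_natCard hk)))
      obtain ⟨r, hr⟩ := hodd
      have hk1 : Commute k k₀ := by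
        have e1 : (k * k) ^ (r + 1) = k := by
          rw [← sq, ← pow_mul, show 2 * (r + 1) = orderOf k + 1 by omega, pow_succ, pow_orderOf_eq_one, one_mul]
        rw [← e1]; exact hk2.pow_left _
      have := hk1.inv_left.mul_left (hyX' k₀ hk₀)
      rw [inv_mul_cancel_left] at this
      exact this.symm.eq
  have heH' : e ∈ H' := mem_sup_right (mem_zpowers e)
  have ht : Trans 2 U H' e := by
    refine ⟨heH', by rw [sq]; exact ha44, ha4, ?_⟩
    have h5 := card_mul_index ((fixV U (zpowers e)).subgroupOf U)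
    rw [Coprime.card_subgroupOf inf_le_left, hFe, hUeq, mul_comm 2] at h5
    rw [relIndex, ← hFe] at *
    exact Nat.eq_of_mul_eq_mul_left Nat.card_pos h5
  set g := c ^ 2 ^ (m - 2) with hg
  have hgA : g ∈ A := pow_mem hcA _
  have hge2 : Commute g e := hc g hgA e heA
  have hgH' : g ∈ normalizer (H' : Set G) :=
    mem_normalizer_fintype (by
      intro y hy
      rcases hH'mem y hy with hk | ⟨k, hk, rfl⟩
      · exact mem_sup_left ((mem_normalizer_iff.mp (hXn g hgA) y).mp hk)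
      · rw [show g * (k * e) * g⁻¹ = (g * k * g⁻¹) * (g * e * g⁻¹) by group, hge2.eq, mul_inv_cancel_right]
        exact mul_mem (mem_sup_left ((mem_normalizer_iff.mp (hXn g hgA) k).mp hk)) heH')
  have hfac : ∀ y, y ∈ fac X e → g * y * g⁻¹ ∈ fac X e := by
    intro y hy
    have := (fac_conj hset ht (hUn g hgA) hgH' (hXn g hgA)).2 y hy
    rwa [hge2.eq, mul_inv_cancel_right] at this
  set P := ⁅U, fac X e⁆
  have hgP : ∀ v ∈ P, g * v * g⁻¹ ∈ P := by
    have hle : P ≤ P.comap (MulAut.conj g).toMonoidHom := commutator_le.mpr fun u hu y hy => by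
      show g * ⁅u, y⁆ * g⁻¹ ∈ P
      rw [show g * ⁅u, y⁆ * g⁻¹ = ⁅g * u * g⁻¹, g * y * g⁻¹⁆ by simp only [commutatorElement_def]; group]
      exact commutator_mem_commutator ((mem_normalizer_iff.mp (hUn g hgA) u).mp hu) (hfac y hy)
    exact fun v hv => hle hv
  have heP : ∀ v ∈ P, e * v * e⁻¹ ∈ P := fun v hv =>
    (mem_normalizer_iff.mp (ht.facW_norm hset (mem_fac X e)) v).mp hv
  obtain ⟨v, hvP, hev⟩ : ∃ v ∈ P, ¬ Commute e v := by
    by_contra hall
    push Not at hall
    exact ha4 (ht.fac_faithful hset heH' (fun w hw => (mem_fixV.mp hw).2 e (mem_fac X e)) hall)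
  have hPU : P ≤ U := ht.facW_le hset
  have hPc : ∀ {x y : G}, x ∈ P → y ∈ P → x * y = y * x := fun hx hy =>
    commute_of_elementary hUel (hPU hx) (hPU hy)
  have hP2 : ∀ {x : G}, x ∈ P → x * x = 1 := fun hx => by rw [← sq]; exact hUel.2 _ (hPU hx)
  -- the fixed points of `e` on the plane
  have hfix2 : Nat.card (P ⊓ centralizer ({e} : Set G) : Subgroup G) ≤ 2 := by
    have hlt : P ⊓ centralizer ({e} : Set G) < P := lt_of_le_of_ne inf_le_left fun h => hev
      (mem_centralizer_singleton_iff.mp (h.ge hvP).2).symm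
    have h6 := mul_card_le_card_of_lt (p := 2) (isPGroup_of_elementary hUel) hPU hlt
    rw [ht.facW_card hset] at h6
    omega
  set v' := e * v * e⁻¹
  have hv'P : v' ∈ P := heP v hvP
  have hne : v' ≠ v := fun h => hev (mul_inv_eq_iff_eq_mul.mp h)
  set w := v * v'
  have hwfix : w ∈ P ⊓ centralizer ({e} : Set G) := by
    refine ⟨mul_mem hvP hv'P, mem_centralizer_singleton_iff.mpr (Eq.symm (mul_inv_eq_iff_eq_mul.mp ?_))⟩
    rw [show e * w * e⁻¹ = (e * v * e⁻¹) * (e * v' * e⁻¹) by simp only [w]; group, hU2 rfl]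
    exact hPc hv'P hvP
  have hw1 : w ≠ 1 := fun h => hne (by
    rw [← inv_eq_of_mul_eq_one_right h, inv_eq_of_mul_eq_one_right (hP2 hvP)])
  have honly : ∀ z ∈ P ⊓ centralizer ({e} : Set G), z ≠ 1 → z = w := by
    intro z hz hz1
    by_contra hzw
    have h7 : ({1, z, w} : Set G).ncard ≤ Nat.card (P ⊓ centralizer ({e} : Set G) : Subgroup G) := by
      rw [← SetLike.coe_sort_coe, Nat.card_coe_set_eq]
      refine Set.ncard_le_ncard ?_ (Set.toFinite _)
      rintro x (rfl | rfl | rfl)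
      exacts [one_mem _, hz, hwfix]
    rw [Set.ncard_insert_of_notMem (by simp [Ne.symm hz1, Ne.symm hw1]), Set.ncard_pair hzw] at h7
    omega
  have hgw : g * w * g⁻¹ = w := by
    refine honly _ ⟨hgP w hwfix.1, mem_centralizer_singleton_iff.mpr ?_⟩
      fun h => hw1 (by rwa [mul_inv_eq_one, mul_eq_left] at h)
    exact ((hge2.symm.mul_right (mem_centralizer_singleton_iff.mp hwfix.2).symm).mul_right
      hge2.symm.inv_right).symm.eq
  -- `g²` acts as `e`, so cannot fix `v`
  have hgg : g * g * v * (g * g)⁻¹ = v' := by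
    have h4 : Commute (c ^ 2 ^ (m - 1) * e) v := (mem_fixV.mp (hPU hvP)).2 _ heco
    rw [show g * g = c ^ 2 ^ (m - 1) by
      rw [hg, ← pow_add, ← two_mul, ← pow_succ']; congr 2; omega]
    calc c ^ 2 ^ (m - 1) * v * (c ^ 2 ^ (m - 1))⁻¹
        = (c ^ 2 ^ (m - 1) * e) * (e⁻¹ * v * e) * (c ^ 2 ^ (m - 1) * e)⁻¹ := by group
      _ = v' := by
          rw [show e⁻¹ * v * e = v' by simp only [v']; rw [heinv]]
          have h8 : Commute (c ^ 2 ^ (m - 1) * e) v' := (mem_fixV.mp (hPU hv'P)).2 _ heco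
          rw [h8.eq, mul_inv_cancel_right]
  have hgv' : g * v' * g⁻¹ = e * (g * v * g⁻¹) * e⁻¹ := by
    simp only [v']
    calc g * (e * v * e⁻¹) * g⁻¹ = (g * e) * v * (g * e)⁻¹ := by group
      _ = (e * g) * v * (e * g)⁻¹ := by rw [hge2.eq]
      _ = _ := by group
  -- `g v` is `v` or `v'`
  have hgv : g * v * g⁻¹ = v ∨ g * v * g⁻¹ = v' := by
    by_contra hno
    rw [not_or] at hno
    have hzP : g * v * g⁻¹ ∈ P := hgP v hvP
    have h4 : Nat.card P = 4 := ht.facW_card hset
    have hv1 : v ≠ 1 := fun h => hev (h ▸ Commute.one_right e)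
    have hv'1 : v' ≠ 1 := fun h => hv1 (by rwa [mul_inv_eq_one, mul_eq_left] at h)
    have hwv : w ≠ v := fun h => hv'1 (mul_eq_left.mp h)
    have hwv' : w ≠ v' := fun h => hv1 (mul_eq_right.mp h)
    have hz1 : g * v * g⁻¹ ≠ 1 := fun h => hv1 (by rwa [mul_inv_eq_one, mul_eq_left] at h)
    have hzw : g * v * g⁻¹ ≠ w := fun h => hwv (mul_left_cancel (mul_right_cancel (hgw.trans h.symm)))
    have h7 : ({1, v, v', w, g * v * g⁻¹} : Set G).ncard ≤ 4 := by
      rw [← h4, ← SetLike.coe_sort_coe, Nat.card_coe_set_eq]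
      refine Set.ncard_le_ncard ?_ (Set.toFinite _)
      rintro x (rfl | rfl | rfl | rfl | rfl)
      exacts [one_mem _, hvP, hv'P, hwfix.1, hzP]
    rw [Set.ncard_insert_of_notMem (by simp [Ne.symm hv1, Ne.symm hv'1, Ne.symm hw1, Ne.symm hz1]),
      Set.ncard_insert_of_notMem (by simp [Ne.symm hne, Ne.symm hwv, Ne.symm hno.1]),
      Set.ncard_insert_of_notMem (by simp [Ne.symm hwv', Ne.symm hno.2]), Set.ncard_pair (Ne.symm hzw)] at h7
    omega
  apply hne
  rcases hgv with h | h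
  · rw [← hgg, show g * g * v * (g * g)⁻¹ = g * (g * v * g⁻¹) * g⁻¹ by group, h, h]
  · rw [← hgg, show g * g * v * (g * g)⁻¹ = g * (g * v * g⁻¹) * g⁻¹ by group, h, hgv', h]
    exact hU2 rfl

/-- `|A| |C_V(A)| ≤ |V|` for abelian 2-groups, with equality only for elementary ones. -/
theorem Setting.abelian_measure (s : Setting 2 V H K) :
    ∀ A : Subgroup G, A ≤ H → (∀ x ∈ A, ∀ y ∈ A, x * y = y * x) → IsPGroup 2 A →
      Nat.card A * Nat.card (fixV V A) ≤ Nat.card V ∧
        (Nat.card A * Nat.card (fixV V A) = Nat.card V → IsElementaryAbelian 2 A) := by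
  intro A
  induction hn : Nat.card A using Nat.strong_induction_on generalizing A with
  | _ n ih => ?_
  subst hn
  intro hAH hc hA
  by_cases hel : ∀ x ∈ A, x ^ 2 = 1
  · have he : IsElementaryAbelian 2 A := ⟨⟨⟨fun x y => Subtype.ext (hc x x.2 y y.2)⟩⟩, hel⟩
    exact ⟨s.card_mul_fix_le A hAH he, fun _ => he⟩
  push Not at hel
  obtain ⟨y, hy, hy2⟩ := hel
  obtain ⟨j, hj⟩ := hA ⟨y, hy⟩
  have hj' : y ^ 2 ^ j = 1 := by simpa using congrArg Subtype.val hj
  obtain ⟨k, -, hk⟩ := (Nat.dvd_prime_pow Nat.prime_two).mp (orderOf_dvd_of_pow_eq_one hj')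
  have hk2 : 2 ≤ k := by
    by_contra hlt
    exact hy2 (orderOf_dvd_iff_pow_eq_one.mp (hk ▸ by interval_cases k <;> simp))
  set a := y ^ 2 ^ (k - 2)
  have ho : orderOf a = 4 := by
    rw [orderOf_pow_of_dvd (by positivity) (hk ▸ pow_dvd_pow 2 (by omega)), hk,
      Nat.pow_div (by omega) (by norm_num), show k - (k - 2) = 2 by omega]
  have ha : a ∈ A := pow_mem hy _
  have h := s.abelian_step hAH hc hA ha (fun h => by
      have := orderOf_dvd_of_pow_eq_one (show a ^ 2 = 1 by rw [sq]; exact h)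
      rw [ho] at this; norm_num at this)
    (by rw [show a * a * (a * a) = a ^ 4 by simp [pow_succ, mul_assoc], ← ho, pow_orderOf_eq_one])
    fun B hB hlt => (ih _ (lt_of_le_of_ne (card_le_of_le hB) fun e => hlt.ne (eq_of_le_of_card_ge hB e.ge))
      B rfl (hB.trans hAH) (fun u hu v hv => hc u (hB hu) v (hB hv)) (hA.to_le hB)).1
  exact ⟨h.le, fun e => absurd e h.ne⟩

end Cfsg.Agent.Lib.Offender
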