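import Cfsg.Prelude.Def_PLocal
import Cfsg.Agent.Lib.Thompson.Elementary
import Cfsg.Agent.Lib.Coprime.Abelian
import Cfsg.Agent.Lib.Coprime.PQ
import Cfsg.Agent.Lib.Hall.Basic

/-!
Best offenders on an elementary abelian group, for a group acting faithfully with a self-centralizing
normal p-prime subgroup.
-/

set_option autoImplicit false
open Subgroup
open scoped commutatorElement

namespace Cfsg.Agent.Lib.Offender

open Cfsg Cfsg.Agent.Lib.Thompson

variable {G : Type*} [Group G] {p : ℕ}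

/-- `K` is a normal p-prime subgroup of `H` containing its centralizer; `H` is faithful on `V`. -/
structure Setting (p : ℕ) {G : Type*} [Group G] (V H K : Subgroup G) : Prop where
  elemV : IsElementaryAbelian p V
  norm : H ≤ normalizer (V : Set G)
  faith : H ⊓ centralizer (V : Set G) = ⊥
  Kle : K ≤ H
  Kcop : (Nat.card K).Coprime p
  Knorm : H ≤ normalizer (K : Set G)
  self : H ⊓ centralizer (K : Set G) ≤ K

/-- The points of `V` fixed by `A`. -/
abbrev fixV (V A : Subgroup G) : Subgroup G := V ⊓ centralizer (A : Set G)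

theorem setting_of_pPrimeCore [Finite G] {V H : Subgroup G} (hV : IsElementaryAbelian p V)
    (hHV : H ≤ normalizer (V : Set G)) (hf : H ⊓ centralizer (V : Set G) = ⊥)
    (hS1 : centralizer (pPrimeCore p ↥H : Set ↥H) ≤ pPrimeCore p ↥H) :
    Setting p V H ((pPrimeCore p ↥H).map H.subtype) where
  elemV := hV
  norm := hHV
  faith := hf
  Kle := map_subtype_le _
  Kcop := by
    rw [card_map_of_injective H.subtype_injective]
    exact Hall.coprime_card_pPrimeCore p
  Knorm := by
    refine fun h hh => mem_normalizer_iff.mpr fun x => ?_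
    have hn : (pPrimeCore p ↥H).Normal := inferInstance
    constructor
    · rintro ⟨y, hy, rfl⟩
      exact ⟨_, hn.conj_mem y hy ⟨h, hh⟩, rfl⟩
    · rintro ⟨y, hy, hye⟩
      refine ⟨_, hn.conj_mem y hy ⟨h, hh⟩⁻¹, ?_⟩
      simp only [Subgroup.coe_subtype, Subgroup.coe_mul, InvMemClass.coe_inv, inv_inv] at hye ⊢
      rw [hye]; group
  self := by
    rintro x ⟨hxH, hxc⟩
    refine ⟨⟨x, hxH⟩, hS1 (mem_centralizer_iff.mpr fun y hy => Subtype.ext ?_), rfl⟩
    exact mem_centralizer_iff.mp hxc _ (mem_map_of_mem H.subtype hy)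

theorem fixV_anti (V : Subgroup G) {A B : Subgroup G} (h : B ≤ A) : fixV V A ≤ fixV V B :=
  inf_le_inf_left _ (centralizer_le (SetLike.coe_subset_coe.mpr h))

theorem fixV_bot (V : Subgroup G) : fixV V (⊥ : Subgroup G) = V :=
  inf_eq_left.mpr fun x _ => mem_centralizer_iff.mpr fun y hy => by
    rw [mem_bot.mp hy, one_mul, mul_one]

theorem fixV_sup (V A B : Subgroup G) : fixV V (A ⊔ B) = fixV V A ⊓ fixV V B := by
  refine le_antisymm (le_inf (fixV_anti V le_sup_left) (fixV_anti V le_sup_right)) ?_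
  rintro x ⟨⟨hxV, hxA⟩, ⟨-, hxB⟩⟩
  refine ⟨hxV, ?_⟩
  have : A ⊔ B ≤ centralizer ({x} : Set G) := sup_le
    (fun a ha => mem_centralizer_singleton_iff.mpr (mem_centralizer_iff.mp hxA a ha))
    (fun b hb => mem_centralizer_singleton_iff.mpr (mem_centralizer_iff.mp hxB b hb))
  exact mem_centralizer_iff.mpr fun y hy => mem_centralizer_singleton_iff.mp (this hy)

theorem card_zpowers_of_pow [hp : Fact p.Prime] {a : G} (ha : a ^ p = 1) (ha1 : a ≠ 1) :
    Nat.card (zpowers a) = p := by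
  rw [Nat.card_zpowers]; exact orderOf_eq_prime ha ha1

theorem inf_zpowers_eq_bot [hp : Fact p.Prime] {a : G} (ha : a ^ p = 1) {B : Subgroup G} (haB : a ∉ B) :
    B ⊓ zpowers a = ⊥ := by
  by_cases ha1 : a = 1
  · exact absurd (ha1 ▸ one_mem B) haB
  have hc := card_zpowers_of_pow ha ha1
  rcases (Nat.dvd_prime hp.out).mp (hc ▸ card_dvd_of_le (inf_le_right : B ⊓ zpowers a ≤ zpowers a)) with h | h
  · exact card_eq_one.mp h
  · have : Finite (zpowers a) := Nat.finite_of_card_ne_zero (hc ▸ hp.out.ne_zero)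
    exact absurd ((inf_eq_right.mp (eq_of_le_of_card_ge inf_le_right (by rw [h, hc]))) (mem_zpowers a)) haB

theorem card_sup_of_comm [Finite G] {B C : Subgroup G} (hd : B ⊓ C = ⊥) (hc : ∀ b ∈ B, ∀ c ∈ C, b * c = c * b) :
    Nat.card (B ⊔ C : Subgroup G) = Nat.card B * Nat.card C := by
  have h := Coprime.card_sup_mul_card_inf_of_le_normalizer (A := B) (N := C) (le_trans (fun b hb =>
    mem_centralizer_iff.mpr fun c hc' => (hc b hb c hc').symm) (centralizer_le_normalizer _))
  rwa [hd, card_bot, mul_one] at h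

/-- A hyperplane complement of an element in an elementary abelian group. -/
theorem exists_complement [Finite G] [hp : Fact p.Prime] {A : Subgroup G} (hA : IsElementaryAbelian p A)
    {a : G} (ha : a ∈ A) (ha1 : a ≠ 1) :
    ∃ B ≤ A, B ⊓ zpowers a = ⊥ ∧ B ⊔ zpowers a = A ∧ Nat.card B * p = Nat.card A := by
  obtain ⟨B, ⟨hBA, hBd⟩, hBmax⟩ := (Set.toFinite {B : Subgroup G | B ≤ A ∧ B ⊓ zpowers a = ⊥}).exists_maximal
    ⟨⊥, bot_le, bot_inf_eq _⟩
  have hle : B ⊔ zpowers a ≤ A := sup_le hBA (zpowers_le.mpr ha)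
  have heq : B ⊔ zpowers a = A := by
    refine le_antisymm hle fun x hx => ?_
    by_contra hxn
    have hB' : B ⊔ zpowers x ≤ A := sup_le hBA (zpowers_le.mpr hx)
    have hBx : ¬ B ⊔ zpowers x ≤ B := fun h => hxn (mem_sup_left (h (mem_sup_right (mem_zpowers x))))
    refine hBx (hBmax ⟨hB', ?_⟩ le_sup_left)
    by_contra hne
    have hmem : a ∈ B ⊔ zpowers x := by
      by_contra han
      exact hne (inf_zpowers_eq_bot (hA.2 a ha) han)
    rw [← SetLike.mem_coe, coe_mul_of_right_le_normalizer_left _ _ (fun y hy => centralizer_le_normalizer _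
      (mem_centralizer_iff.mpr fun b hb => commute_of_elementary hA (hBA hb)
        (zpowers_le.mpr hx hy)))] at hmem
    obtain ⟨b, hb, y, hy, rfl⟩ := hmem
    have hy1 : y ≠ 1 := fun h => ha1 (by
      have hmem' : b * y ∈ B ⊓ zpowers (b * y) := ⟨by rw [h, mul_one]; exact hb, mem_zpowers _⟩
      rw [hBd, mem_bot] at hmem'
      exact hmem')
    have hgen : zpowers x ≤ zpowers y := by
      have hxc := card_zpowers_of_pow (hA.2 x hx) (fun h => hy1 (by simpa [h] using hy))
      have hyc := card_zpowers_of_pow (hA.2 y (zpowers_le.mpr hx hy)) hy1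
      exact (eq_of_le_of_card_ge (zpowers_le.mpr hy) (by rw [hxc, hyc])).ge
    refine hxn (?_ : x ∈ B ⊔ zpowers (b * y))
    have hy' : y ∈ B ⊔ zpowers (b * y) := by
      have := mul_mem (inv_mem (mem_sup_left hb : b ∈ B ⊔ zpowers (b * y)))
        (mem_sup_right (mem_zpowers (b * y)) : b * y ∈ B ⊔ zpowers (b * y))
      rwa [inv_mul_cancel_left] at this
    exact zpowers_le.mpr hy' (hgen (mem_zpowers x))
  refine ⟨B, hBA, hBd, heq, ?_⟩
  rw [← heq, card_sup_of_comm hBd (fun b hb c hc => commute_of_elementary hA (hBA hb)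
    (zpowers_le.mpr ha hc)), card_zpowers_of_pow (hA.2 a ha) ha1]

/-- An element centralizing the fixed points of all hyperplanes centralizes everything. -/
theorem centralizes_of_coatoms [Finite G] [hp : Fact p.Prime] :
    ∀ (n : ℕ) (A K : Subgroup G), Nat.card A = n → IsElementaryAbelian p A → A ≤ normalizer (K : Set G) →
      (Nat.card K).Coprime p → ∀ a ∈ A,
      (∀ B ≤ A, Nat.card B * p = Nat.card A → K ⊓ centralizer (B : Set G) ≤ centralizer ({a} : Set G)) →
      K ≤ centralizer ({a} : Set G) := by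
  intro n
  induction n using Nat.strong_induction_on with
  | _ n ih => ?_
  intro A K hn hA hAK hK a ha hall
  by_cases ha1 : a = 1
  · intro k _; rw [mem_centralizer_singleton_iff, ha1, mul_one, one_mul]
  obtain ⟨B, hBA, hBd, hBs, hBc⟩ := exists_complement hA ha ha1
  by_cases hB : B = ⊥
  · refine (le_inf le_rfl ?_).trans (hall ⊥ bot_le (by rw [← hB]; exact hBc))
    exact fun k _ => mem_centralizer_iff.mpr fun y hy => by rw [mem_bot.mp hy, one_mul, mul_one]
  obtain ⟨c, hcB, hc1⟩ : ∃ c ∈ B, c ≠ 1 := by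
    by_contra h; push Not at h; exact hB ((eq_bot_iff_forall _).mpr h)
  let E := zpowers a ⊔ zpowers c
  have hEA : E ≤ A := sup_le (zpowers_le.mpr ha) (zpowers_le.mpr (hBA hcB))
  have hd : zpowers a ⊓ zpowers c = ⊥ := by
    rw [eq_bot_iff, ← hBd]; exact le_inf (inf_le_right.trans (zpowers_le.mpr hcB)) inf_le_left
  have hEc : Nat.card E = p ^ 2 := by
    rw [card_sup_of_comm hd (fun x hx y hy => commute_of_elementary hA (zpowers_le.mpr ha hx)
      (zpowers_le.mpr (hBA hcB) hy)), card_zpowers_of_pow (hA.2 a ha) ha1,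
      card_zpowers_of_pow (hA.2 c (hBA hcB)) hc1, sq]
  rw [← Coprime.fixGen_eq_of_elementary (B := E) (K := K) hp.out
    (fun x hx y hy => commute_of_elementary hA (hEA hx) (hEA hy)) (fun x hx => hA.2 x (hEA hx)) hEc
    (hEA.trans hAK) (by rw [hEc]; exact hK.symm.pow_left 2)]
  refine iSup₂_le fun b hb => ?_
  have hbA := hEA hb.1
  obtain ⟨B', hB'A, hB'd, hB's, hB'c⟩ := exists_complement hA hbA hb.2
  set K' := K ⊓ centralizer ({b} : Set G)
  have hlt : Nat.card B' < n := by
    rw [← hn, ← hB'c]; exact lt_mul_of_one_lt_right Nat.card_pos hp.out.one_lt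
  have hB'K : B' ≤ normalizer (K' : Set G) := fun x hx => by
    have hxb : x ∈ centralizer ({b} : Set G) :=
      mem_centralizer_singleton_iff.mpr (commute_of_elementary hA (hB'A hx) hbA)
    exact inf_normalizer_le_normalizer_inf ⟨hAK (hB'A hx), le_normalizer hxb⟩
  have ha' : a ∈ B' ⊔ zpowers b := hB's.symm ▸ ha
  rw [← SetLike.mem_coe, coe_mul_of_right_le_normalizer_left _ _ (fun y hy => centralizer_le_normalizer _
    (mem_centralizer_iff.mpr fun x hx => commute_of_elementary hA (hB'A hx)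
      (zpowers_le.mpr hbA hy)))] at ha'
  obtain ⟨a', ha'B, z, hz, rfl⟩ := ha'
  have hzK : K' ≤ centralizer ({z} : Set G) := by
    obtain ⟨i, rfl⟩ := hz
    intro k hk
    exact mem_centralizer_singleton_iff.mpr
      ((show Commute k b from mem_centralizer_singleton_iff.mp hk.2).zpow_right i).eq
  have h := ih _ hlt B' K' rfl ⟨(isElementaryAbelian_le hA hB'A).1, fun x hx => hA.2 x (hB'A hx)⟩ hB'K
    (hK.coprime_dvd_left (card_dvd_of_le inf_le_left)) a' ha'B (by
      intro C hC hCc k hk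
      have hsub : Nat.card (C ⊔ zpowers b : Subgroup G) * p = Nat.card A := by
        rw [card_sup_of_comm (by rw [eq_bot_iff, ← hB'd]; exact inf_le_inf_right _ hC)
          (fun x hx y hy => commute_of_elementary hA (hB'A (hC hx)) (zpowers_le.mpr hbA hy)),
          card_zpowers_of_pow (hA.2 b hbA) hb.2, ← hB'c, ← hCc]
      have hkC : k ∈ K ⊓ centralizer ((C ⊔ zpowers b : Subgroup G) : Set G) := by
        refine ⟨hk.1.1, ?_⟩
        have hle : C ⊔ zpowers b ≤ centralizer ({k} : Set G) := sup_le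
          (fun x hx => mem_centralizer_singleton_iff.mpr (mem_centralizer_iff.mp hk.2 x hx))
          (zpowers_le.mpr (mem_centralizer_singleton_iff.mpr (mem_centralizer_singleton_iff.mp hk.1.2).symm))
        exact mem_centralizer_iff.mpr fun x hx => mem_centralizer_singleton_iff.mp (hle hx)
      have h1 : Commute k (a' * z) :=
        mem_centralizer_singleton_iff.mp (hall _ (sup_le (hC.trans hB'A) (zpowers_le.mpr hbA)) hsub hkC)
      have h2 : Commute k z := mem_centralizer_singleton_iff.mp (hzK hk.1)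
      refine mem_centralizer_singleton_iff.mpr ?_
      have := h1.mul_right h2.inv_right
      rw [mul_inv_cancel_right] at this
      exact this.eq)
  intro k hk
  exact mem_centralizer_singleton_iff.mpr
    ((show Commute k a' from mem_centralizer_singleton_iff.mp (h hk)).mul_right
      (mem_centralizer_singleton_iff.mp (hzK hk))).eq

variable [Finite G] [hp : Fact p.Prime] {V H K : Subgroup G}

theorem Setting.faithful_on_K (s : Setting p V H K) {a : G} (haH : a ∈ H) (hap : a ^ p = 1)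
    (hc : K ≤ centralizer ({a} : Set G)) : a = 1 := by
  have haK : a ∈ K := s.self ⟨haH, mem_centralizer_iff.mpr fun k hk => mem_centralizer_singleton_iff.mp (hc hk)⟩
  have h1 : orderOf a ∣ 1 := by
    rw [← s.Kcop.gcd_eq_one]
    exact Nat.dvd_gcd (K.orderOf_dvd_natCard haK) (orderOf_dvd_of_pow_eq_one hap)
  exact orderOf_eq_one_iff.mp (Nat.dvd_one.mp h1)

/-- A hyperplane with more fixed points avoiding a given element. -/
theorem Setting.exists_good_coatom (s : Setting p V H K) {A : Subgroup G} (hAH : A ≤ H)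
    (hA : IsElementaryAbelian p A) {a : G} (ha : a ∈ A) (ha1 : a ≠ 1) :
    ∃ B ≤ A, Nat.card B * p = Nat.card A ∧ a ∉ B ∧ fixV V A < fixV V B := by
  obtain ⟨B, hB, hBc, k, hk, hka⟩ : ∃ B ≤ A, Nat.card B * p = Nat.card A ∧
      ∃ k ∈ K ⊓ centralizer (B : Set G), k ∉ centralizer ({a} : Set G) := by
    by_contra h
    push Not at h
    exact ha1 (s.faithful_on_K (hAH ha) (hA.2 a ha)
      (centralizes_of_coatoms _ A K rfl hA (hAH.trans s.Knorm) s.Kcop a ha fun B hB hBc => h B hB hBc))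
  have haB : a ∉ B := fun h => hka (mem_centralizer_singleton_iff.mpr (mem_centralizer_iff.mp hk.2 a h).symm)
  refine ⟨B, hB, hBc, haB, lt_of_le_of_ne (fixV_anti V hB) fun e => hka ?_⟩
  have hnormB : ∀ u ∈ K ⊓ centralizer (B : Set G), ∀ w ∈ fixV V B, u * w * u⁻¹ ∈ fixV V B := by
    intro u hu w hw
    refine ⟨(mem_normalizer_iff.mp (s.norm (s.Kle hu.1)) w).mp hw.1, mem_centralizer_iff.mpr fun b hb => ?_⟩
    have h1 : Commute b u := mem_centralizer_iff.mp hu.2 b hb
    have h2 : Commute b w := mem_centralizer_iff.mp hw.2 b hb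
    exact ((h1.mul_right h2).mul_right h1.inv_right).eq
  set Q := zpowers ⁅k, a⁆ with hQ
  have haN : a ∈ normalizer (K : Set G) := s.Knorm (hAH ha)
  have hkaB : ⁅k, a⁆ ∈ K ⊓ centralizer (B : Set G) := by
    refine ⟨?_, mem_centralizer_iff.mpr fun b hb => ?_⟩
    · rw [commutatorElement_def, mul_assoc, mul_assoc, ← mul_assoc a]
      exact mul_mem hk.1 ((mem_normalizer_iff.mp haN _).mp (inv_mem hk.1))
    · have h1 : Commute b k := mem_centralizer_iff.mp hk.2 b hb
      have h2 : Commute b a := commute_of_elementary hA (hB hb) ha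
      exact (((h1.mul_right h2).mul_right h1.inv_right).mul_right h2.inv_right).eq
  have hQcop : (Nat.card Q).Coprime p :=
    s.Kcop.coprime_dvd_left (card_dvd_of_le (zpowers_le.mpr hkaB.1))
  have hQc : Q ≤ centralizer (V : Set G) := by
    refine Lib.Coprime.le_centralizer_of_pq (P := B) (isPGroup_of_elementary (isElementaryAbelian_le hA hB))
      hQcop (isPGroup_of_elementary s.elemV) ?_ ((hB.trans hAH).trans s.norm)
      (zpowers_le.mpr (s.norm (s.Kle hkaB.1))) ?_
    · intro b hb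
      refine mem_centralizer_iff.mpr fun q hq => ?_
      obtain ⟨i, rfl⟩ := hq
      exact ((show Commute b ⁅k, a⁆ from mem_centralizer_iff.mp hkaB.2 b hb).zpow_right i).symm.eq
    · intro w hw
      have hfix : ∀ u ∈ fixV V B, a * u * a⁻¹ = u := fun u hu => by
        rw [← e] at hu
        rw [mem_centralizer_iff.mp hu.2 a ha, mul_inv_cancel_right]
      have hfix' : ∀ u ∈ fixV V B, a⁻¹ * u * a = u := fun u hu => by
        calc a⁻¹ * u * a = a⁻¹ * (a * u * a⁻¹) * a := by rw [hfix u hu]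
          _ = u := by group
      have hw' : k⁻¹ * w * k ∈ fixV V B := by
        simpa using hnormB k⁻¹ ((K ⊓ centralizer (B : Set G)).inv_mem hk) w hw
      refine mem_centralizer_iff.mpr fun q hq => ?_
      obtain ⟨i, rfl⟩ := hq
      refine (Commute.zpow_left (?_ : Commute ⁅k, a⁆ w) i).eq
      refine mul_inv_eq_iff_eq_mul.mp ?_
      calc ⁅k, a⁆ * w * ⁅k, a⁆⁻¹ = k * (a * (k⁻¹ * (a⁻¹ * w * a) * k) * a⁻¹) * k⁻¹ := by
            simp only [commutatorElement_def]; group
        _ = k * (k⁻¹ * w * k) * k⁻¹ := by rw [hfix' w hw, hfix _ hw']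
        _ = w := by group
  have h1 : ⁅k, a⁆ ∈ H ⊓ centralizer (V : Set G) := ⟨s.Kle hkaB.1, hQc (mem_zpowers _)⟩
  rw [s.faith, mem_bot, commutatorElement_eq_one_iff_commute] at h1
  exact mem_centralizer_singleton_iff.mpr h1.eq

theorem mul_card_le_card_of_lt {V : Subgroup G} (hV : IsPGroup p V) {X Y : Subgroup G} (hY : Y ≤ V)
    (h : X < Y) : p * Nat.card X ≤ Nat.card Y := by
  obtain ⟨a, ha⟩ := IsPGroup.iff_card.mp (hV.to_le hY)
  obtain ⟨b, hb⟩ := IsPGroup.iff_card.mp (hV.to_le (h.le.trans hY))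
  have hlt : Nat.card X < Nat.card Y := Set.ncard_lt_ncard (SetLike.coe_ssubset_coe.mpr h) (Set.toFinite _)
  rw [ha, hb, Nat.pow_lt_pow_iff_right hp.out.one_lt] at hlt
  rw [ha, hb, ← pow_succ']
  exact Nat.pow_le_pow_right hp.out.pos hlt

/-- `|A| |C_V(A)| ≤ |V|`. -/
theorem Setting.card_mul_fix_le (s : Setting p V H K) :
    ∀ (A : Subgroup G), A ≤ H → IsElementaryAbelian p A → Nat.card A * Nat.card (fixV V A) ≤ Nat.card V := by
  intro A
  induction hn : Nat.card A using Nat.strong_induction_on generalizing A with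
  | _ n ih => ?_
  subst hn
  intro hAH hA
  by_cases hb : A = ⊥
  · rw [hb, card_bot, one_mul, fixV_bot]
  obtain ⟨a, ha, ha1⟩ : ∃ a ∈ A, a ≠ 1 := by
    by_contra h; push Not at h; exact hb ((eq_bot_iff_forall _).mpr h)
  obtain ⟨B, hB, hBc, -, hlt⟩ := s.exists_good_coatom hAH hA ha ha1
  have h1 := ih _ (by rw [← hBc]; exact lt_mul_of_one_lt_right Nat.card_pos hp.out.one_lt) B rfl
    (hB.trans hAH) (isElementaryAbelian_le hA hB)
  have h2 := mul_card_le_card_of_lt (isPGroup_of_elementary s.elemV) inf_le_left hlt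
  calc Nat.card A * Nat.card (fixV V A) = Nat.card B * (p * Nat.card (fixV V A)) := by rw [← hBc]; ring
    _ ≤ Nat.card B * Nat.card (fixV V B) := Nat.mul_le_mul_left _ h2
    _ ≤ Nat.card V := h1

theorem Setting.elementary_of_best (s : Setting p V H K) {A : Subgroup G} (hAH : A ≤ H)
    (hA : IsBestOffenderOn p V A) : IsElementaryAbelian p A := by
  obtain ⟨-, hab, hpow⟩ := hA
  have h1 : ∀ x ∈ A, ∀ y ∈ A, x * y = y * x := fun x hx y hy => by
    have : ⁅x, y⁆ ∈ H ⊓ centralizer (V : Set G) :=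
      ⟨hAH (commutator_le_self A (commutator_mem_commutator hx hy)), hab (commutator_mem_commutator hx hy)⟩
    rw [s.faith, mem_bot, commutatorElement_eq_one_iff_commute] at this
    exact this.eq
  refine ⟨⟨⟨fun x y => Subtype.ext (h1 x x.2 y y.2)⟩⟩, fun x hx => ?_⟩
  have : x ^ p ∈ H ⊓ centralizer (V : Set G) := ⟨pow_mem (hAH hx) p, hpow x hx⟩
  rwa [s.faith, mem_bot] at this

/-- Best offenders are the elementary abelian subgroups with `|A| |C_V(A)| = |V|`. -/
theorem Setting.best_iff (s : Setting p V H K) {A : Subgroup G} (hAH : A ≤ H) :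
    IsBestOffenderOn p V A ↔
      IsElementaryAbelian p A ∧ Nat.card A * Nat.card (fixV V A) = Nat.card V := by
  constructor
  · intro hA
    refine ⟨s.elementary_of_best hAH hA, le_antisymm (s.card_mul_fix_le A hAH (s.elementary_of_best hAH hA)) ?_⟩
    have h := hA.1 ⊥ bot_le
    rwa [card_bot, one_mul, show V ⊓ centralizer ((⊥ : Subgroup G) : Set G) = V from fixV_bot V] at h
  · rintro ⟨hA, he⟩
    refine ⟨fun B hB => (s.card_mul_fix_le B (hB.trans hAH) (isElementaryAbelian_le hA hB)).trans he.ge,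
      commutator_le.mpr fun x hx y hy => ?_, fun x hx => by rw [hA.2 x hx]; exact one_mem _⟩
    rw [commutatorElement_eq_one_iff_commute.mpr (commute_of_elementary hA hx hy)]
    exact one_mem _

theorem Setting.best_bot (s : Setting p V H K) : IsBestOffenderOn p V (⊥ : Subgroup G) :=
  (s.best_iff bot_le).mpr ⟨isElementaryAbelian_bot, by rw [card_bot, one_mul, fixV_bot]⟩

theorem Setting.commutator_ne_bot_iff (s : Setting p V H K) {A : Subgroup G} (hAH : A ≤ H) :
    ⁅V, A⁆ ≠ ⊥ ↔ A ≠ ⊥ := by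
  refine not_congr ⟨fun h => ?_, fun h => by rw [h, commutator_bot_right]⟩
  rw [eq_bot_iff, ← s.faith]
  exact le_inf hAH (le_centralizer_iff.mp (commutator_eq_bot_iff_le_centralizer.mp h))

/-- A good hyperplane of a best offender is a best offender, and loses exactly a factor `p`. -/
theorem Setting.coatom_best (s : Setting p V H K) {A B : Subgroup G} (hAH : A ≤ H)
    (hA : IsBestOffenderOn p V A) (hB : B ≤ A) (hBc : Nat.card B * p = Nat.card A)
    (hlt : fixV V A < fixV V B) :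
    IsBestOffenderOn p V B ∧ Nat.card (fixV V B) = p * Nat.card (fixV V A) := by
  obtain ⟨hAe, heq⟩ := (s.best_iff hAH).mp hA
  have h1 := s.card_mul_fix_le B (hB.trans hAH) (isElementaryAbelian_le hAe hB)
  have h2 := mul_card_le_card_of_lt (isPGroup_of_elementary s.elemV) inf_le_left hlt
  have h3 : Nat.card B * (p * Nat.card (fixV V A)) = Nat.card V := by rw [← heq, ← hBc]; ring
  have h4 : Nat.card (fixV V B) ≤ p * Nat.card (fixV V A) :=
    Nat.le_of_mul_le_mul_left (h1.trans h3.ge) Nat.card_pos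
  have h5 := le_antisymm h4 h2
  exact ⟨(s.best_iff (hB.trans hAH)).mpr ⟨isElementaryAbelian_le hAe hB, by rw [h5, h3]⟩, h5⟩

/-- A minimal nontrivial best offender has order p and fixes a hyperplane. -/
theorem Setting.minimal_card (s : Setting p V H K) {A : Subgroup G} (hAH : A ≤ H)
    (hA : IsBestOffenderOn p V A) (hne : A ≠ ⊥)
    (hmin : ∀ B : Subgroup G, B ≤ A → IsBestOffenderOn p V B → ⁅V, B⁆ ≠ ⊥ → B = A) :
    Nat.card A = p ∧ (fixV V A).relIndex V = p := by
  obtain ⟨hAe, heq⟩ := (s.best_iff hAH).mp hA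
  obtain ⟨a, ha, ha1⟩ : ∃ a ∈ A, a ≠ 1 := by
    by_contra h; push Not at h; exact hne ((eq_bot_iff_forall _).mpr h)
  obtain ⟨B, hB, hBc, haB, hlt⟩ := s.exists_good_coatom hAH hAe ha ha1
  obtain ⟨hBb, -⟩ := s.coatom_best hAH hA hB hBc hlt
  have hBbot : B = ⊥ := by
    by_contra hB0
    exact haB (hmin B hB hBb ((s.commutator_ne_bot_iff (hB.trans hAH)).mpr hB0) ▸ ha)
  rw [hBbot, card_bot, one_mul] at hBc
  refine ⟨hBc.symm, ?_⟩
  have h : Nat.card (fixV V A) * (fixV V A).relIndex V = Nat.card V := by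
    rw [relIndex, ← Coprime.card_subgroupOf (inf_le_left : fixV V A ≤ V)]
    exact card_mul_index _
  rw [← heq, ← hBc, mul_comm p] at h
  exact Nat.eq_of_mul_eq_mul_left Nat.card_pos h

/-- A nontrivial best offender contains a minimal one. -/
theorem Setting.exists_minimal_le (s : Setting p V H K) {A : Subgroup G} (hAH : A ≤ H)
    (hA : IsBestOffenderOn p V A) (hne : A ≠ ⊥) :
    ∃ B ≤ A, IsBestOffenderOn p V B ∧ B ≠ ⊥ ∧
      ∀ C : Subgroup G, C ≤ B → IsBestOffenderOn p V C → ⁅V, C⁆ ≠ ⊥ → C = B := by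
  obtain ⟨B, ⟨hB, hBb, hBn⟩, hmin⟩ := (Set.toFinite {B : Subgroup G | B ≤ A ∧ IsBestOffenderOn p V B ∧
    B ≠ ⊥}).exists_minimal ⟨A, le_rfl, hA, hne⟩
  refine ⟨B, hB, hBb, hBn, fun C hC hCb hCn => le_antisymm hC (hmin ⟨hC.trans hB, hCb, ?_⟩ hC)⟩
  rintro rfl
  exact hCn (commutator_bot_right V)

/-- Intersections of best offenders in an abelian group are best offenders. -/
theorem Setting.inf_best (s : Setting p V H K) {A B₁ B₂ : Subgroup G} (hAH : A ≤ H)
    (hA : IsElementaryAbelian p A) (h1 : B₁ ≤ A) (h2 : B₂ ≤ A) (hb1 : IsBestOffenderOn p V B₁)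
    (hb2 : IsBestOffenderOn p V B₂) : IsBestOffenderOn p V (B₁ ⊓ B₂) := by
  obtain ⟨-, e1⟩ := (s.best_iff (h1.trans hAH)).mp hb1
  obtain ⟨-, e2⟩ := (s.best_iff (h2.trans hAH)).mp hb2
  refine (s.best_iff ((inf_le_left.trans h1).trans hAH)).mpr ⟨isElementaryAbelian_le hA (inf_le_left.trans h1),
    le_antisymm (s.card_mul_fix_le _ ((inf_le_left.trans h1).trans hAH)
      (isElementaryAbelian_le hA (inf_le_left.trans h1))) ?_⟩
  have hsup := Coprime.card_sup_mul_card_inf_of_le_normalizer (A := B₁) (N := B₂) (fun x hx =>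
    centralizer_le_normalizer _ (mem_centralizer_iff.mpr fun y hy =>
      commute_of_elementary hA (h2 hy) (h1 hx)))
  have hfix := Coprime.card_sup_mul_card_inf_of_le_normalizer (A := fixV V B₁) (N := fixV V B₂)
    (fun x hx => centralizer_le_normalizer _ (mem_centralizer_iff.mpr fun y hy =>
      commute_of_elementary s.elemV hy.1 hx.1))
  have hle : fixV V B₁ ⊔ fixV V B₂ ≤ fixV V (B₁ ⊓ B₂) :=
    sup_le (fixV_anti V inf_le_left) (fixV_anti V inf_le_right)
  have hj := s.card_mul_fix_le (B₁ ⊔ B₂) ((sup_le h1 h2).trans hAH) (isElementaryAbelian_le hA (sup_le h1 h2))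
  rw [fixV_sup] at hj
  have h4 : Nat.card V * Nat.card V ≤
      Nat.card V * (Nat.card (B₁ ⊓ B₂ : Subgroup G) * Nat.card (fixV V (B₁ ⊓ B₂))) := by
    calc Nat.card V * Nat.card V
        = (Nat.card B₁ * Nat.card B₂) * (Nat.card (fixV V B₁) * Nat.card (fixV V B₂)) := by
          conv_lhs => arg 1; rw [← e1]
          conv_lhs => arg 2; rw [← e2]
          ring
      _ = (Nat.card (B₁ ⊔ B₂ : Subgroup G) * Nat.card (fixV V B₁ ⊓ fixV V B₂ : Subgroup G)) *
          (Nat.card (B₁ ⊓ B₂ : Subgroup G) * Nat.card (fixV V B₁ ⊔ fixV V B₂ : Subgroup G)) := by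
          rw [← hsup, ← hfix]; ring
      _ ≤ Nat.card V * (Nat.card (B₁ ⊓ B₂ : Subgroup G) * Nat.card (fixV V (B₁ ⊓ B₂))) :=
          Nat.mul_le_mul hj (Nat.mul_le_mul_left _ (card_le_of_le hle))
  exact Nat.le_of_mul_le_mul_left h4 Nat.card_pos

/-- A best offender is generated by its minimal nontrivial best offenders. -/
theorem Setting.le_sSup_minimal (s : Setting p V H K) :
    ∀ (A : Subgroup G), A ≤ H → IsBestOffenderOn p V A →
      A ≤ sSup {B | B ≤ A ∧ IsBestOffenderOn p V B ∧ B ≠ ⊥ ∧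
        ∀ C : Subgroup G, C ≤ B → IsBestOffenderOn p V C → ⁅V, C⁆ ≠ ⊥ → C = B} := by
  intro A
  induction hn : Nat.card A using Nat.strong_induction_on generalizing A with
  | _ n ih => ?_
  subst hn
  intro hAH hA
  by_cases hb : A = ⊥
  · rw [hb]; exact bot_le
  obtain ⟨hAe, -⟩ := (s.best_iff hAH).mp hA
  obtain ⟨a, ha, ha1⟩ : ∃ a ∈ A, a ≠ 1 := by
    by_contra h; push Not at h; exact hb ((eq_bot_iff_forall _).mpr h)
  obtain ⟨B, hB, hBc, haB, hlt⟩ := s.exists_good_coatom hAH hAe ha ha1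
  set M := sSup {C | C ≤ A ∧ IsBestOffenderOn p V C ∧ C ≠ ⊥ ∧
        ∀ D : Subgroup G, D ≤ C → IsBestOffenderOn p V D → ⁅V, D⁆ ≠ ⊥ → D = C}
  have hsub : ∀ B' ≤ A, Nat.card B' * p = Nat.card A → fixV V A < fixV V B' → B' ≤ M := by
    intro B' hB' hc hl
    exact (ih _ (by rw [← hc]; exact lt_mul_of_one_lt_right Nat.card_pos hp.out.one_lt) B' rfl
      (hB'.trans hAH) (s.coatom_best hAH hA hB' hc hl).1).trans
        (sSup_le_sSup fun C hC => ⟨hC.1.trans hB', hC.2⟩)
  by_cases hBb : B = ⊥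
  · rw [hBb, card_bot, one_mul] at hBc
    refine le_sSup ⟨le_rfl, hA, hb, fun C hC hCb hCn => ?_⟩
    rcases (Nat.dvd_prime hp.out).mp (hBc ▸ card_dvd_of_le hC) with h | h
    · exact absurd (by rw [card_eq_one.mp h, commutator_bot_right]) hCn
    · exact eq_of_le_of_card_ge hC (by rw [h, hBc])
  obtain ⟨c, hcB, hc1⟩ : ∃ c ∈ B, c ≠ 1 := by
    by_contra h; push Not at h; exact hBb ((eq_bot_iff_forall _).mpr h)
  obtain ⟨B', hB', hB'c, hcB', hlt'⟩ := s.exists_good_coatom hAH hAe (hB hcB) hc1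
  have heq : B' ⊔ zpowers c = A := by
    refine eq_of_le_of_card_ge (sup_le hB' (zpowers_le.mpr (hB hcB))) ?_
    rw [card_sup_of_comm (inf_zpowers_eq_bot (hAe.2 c (hB hcB)) hcB') (fun x hx y hy =>
      commute_of_elementary hAe (hB' hx) (zpowers_le.mpr (hB hcB) hy)),
      card_zpowers_of_pow (hAe.2 c (hB hcB)) hc1, hB'c]
  rw [← heq]
  exact sup_le (hsub B' hB' hB'c hlt') (zpowers_le.mpr (hsub B hB hBc hlt hcB))

/-- A best offender is the direct product of minimal ones. -/
theorem Setting.exists_decomposition (s : Setting p V H K) {A : Subgroup G} (hAH : A ≤ H)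
    (hA : IsBestOffenderOn p V A) :
    ∃ (k : ℕ) (B : Fin k → Subgroup G), (∀ i, B i ≤ A ∧ IsBestOffenderOn p V (B i) ∧ ⁅V, B i⁆ ≠ ⊥ ∧
        ∀ C : Subgroup G, C ≤ B i → IsBestOffenderOn p V C → ⁅V, C⁆ ≠ ⊥ → C = B i) ∧
      iSupIndep B ∧ ⨆ i, B i = A := by
  classical
  set 𝒮 := {B | B ≤ A ∧ IsBestOffenderOn p V B ∧ B ≠ ⊥ ∧
        ∀ C : Subgroup G, C ≤ B → IsBestOffenderOn p V C → ⁅V, C⁆ ≠ ⊥ → C = B}
  obtain ⟨T, ⟨hT, hTA⟩, hTmin⟩ := (Set.toFinite {T : Set (Subgroup G) | T ⊆ 𝒮 ∧ A ≤ sSup T}).exists_minimal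
    ⟨𝒮, subset_rfl, s.le_sSup_minimal A hAH hA⟩
  have := Fintype.ofFinite T
  refine ⟨Fintype.card T, fun i => ((Fintype.equivFin T).symm i).1, fun i => ?_, ?_, ?_⟩
  · obtain ⟨h1, h2, h3, h4⟩ := hT ((Fintype.equivFin T).symm i).2
    exact ⟨h1, h2, (s.commutator_ne_bot_iff (h1.trans hAH)).mpr h3, h4⟩
  · intro i
    set B : T := (Fintype.equivFin T).symm i
    obtain ⟨h1, h2, h3, h4⟩ := hT B.2
    rw [disjoint_iff]
    by_contra hne
    have hcard := (s.minimal_card (h1.trans hAH) h2 h3 h4).1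
    set R := ⨆ (j : Fin (Fintype.card T)) (_ : j ≠ i), (((Fintype.equivFin T).symm j).1 : Subgroup G)
    have hle : (B.1 : Subgroup G) ≤ R := by
      rcases (Nat.dvd_prime hp.out).mp (hcard ▸ card_dvd_of_le
        (inf_le_left : (B.1 : Subgroup G) ⊓ R ≤ B.1)) with h | h
      · exact absurd (card_eq_one.mp h) hne
      · exact inf_eq_left.mp (eq_of_le_of_card_ge inf_le_left (by rw [h, hcard]))
    have hRle : R ≤ sSup (T \ {B.1}) := iSup₂_le fun j hj => le_sSup
      ⟨((Fintype.equivFin T).symm j).2, fun e => hj ((Fintype.equivFin T).symm.injective (Subtype.ext e))⟩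
    have hT' : A ≤ sSup (T \ {B.1}) := by
      refine hTA.trans (sSup_le fun C hC => ?_)
      by_cases hCB : C = B.1
      · rw [hCB]; exact hle.trans hRle
      · exact le_sSup ⟨hC, hCB⟩
    exact (hTmin ⟨Set.sdiff_subset.trans hT, hT'⟩ Set.sdiff_subset B.2).2 rfl
  · refine le_antisymm (iSup_le fun i => (hT ((Fintype.equivFin T).symm i).2).1) (hTA.trans (sSup_le fun C hC => ?_))
    refine le_iSup_of_le (Fintype.equivFin T ⟨C, hC⟩) ?_
    simp

end Cfsg.Agent.Lib.Offender
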