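import Cfsg.Agent.Lib.Offender.Group
import Cfsg.Agent.Lib.Coprime.Abelian
import Mathlib.GroupTheory.NoncommPiCoprod

/-!
A coprime elementary abelian group permuting the factors: the diagonal.
-/

set_option autoImplicit false
open Subgroup
open scoped commutatorElement MatrixGroups

namespace Cfsg.Agent.Lib.Offender

open Cfsg Cfsg.Agent.Lib.Thompson

/-- Induction on functions by coordinate pieces, without commutativity. -/
theorem pi_mulSingle_induction {ι Y : Type*} [Fintype ι] [DecidableEq ι] [MulOneClass Y] (P : (ι → Y) → Prop)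
    (h1 : P 1) (hmul : ∀ f f', P f → P f' → P (f * f')) (hsingle : ∀ i z, P (Pi.mulSingle i z))
    (f : ι → Y) : P f := by
  suffices gen : ∀ u : Finset ι, ∀ f : ι → Y, (∀ j ∉ u, f j = 1) → P f from
    gen Finset.univ f fun j hj => absurd (Finset.mem_univ j) hj
  intro u
  induction u using Finset.induction_on with
  | empty =>
    intro f hf
    rw [show f = 1 from funext fun j => hf j (Finset.notMem_empty j)]
    exact h1
  | insert i u hi ih =>
    intro f hf
    have e : f = Pi.mulSingle i (f i) * Function.update f i 1 := by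
      funext j
      by_cases hj : j = i
      · subst hj; simp
      · simp [hj]
    rw [e]
    refine hmul _ _ (hsingle _ _) (ih _ fun j hj => ?_)
    by_cases hji : j = i
    · subst hji; simp
    · rw [Function.update_of_ne hji]; exact hf j (by simp [hji, hj])

variable {G : Type*} [Group G] [Finite G] {p q : ℕ} [hp : Fact p.Prime] [hq : Fact q.Prime]
  {V H K X : Subgroup G}

/-- A `q`-group of symmetries of a setting. -/
structure Sym (q : ℕ) {G : Type*} [Group G] (V H K X : Subgroup G) : Prop where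
  el : IsElementaryAbelian q X
  q2 : q ≠ 2
  q3 : q ≠ 3
  nV : X ≤ normalizer (V : Set G)
  nH : X ≤ normalizer (H : Set G)
  nK : X ≤ normalizer (K : Set G)

/-- A factor together with its plane. -/
abbrev yfac (V K : Subgroup G) (a : G) : Subgroup G := ⁅V, fac K a⁆ ⊔ fac K a

omit hq in
theorem fac_conj_iff (s : Setting p V H K) {a g x : G} (t : Trans p V H a)
    (hgV : g ∈ normalizer (V : Set G)) (hgH : g ∈ normalizer (H : Set G)) (hgK : g ∈ normalizer (K : Set G)) :
    x ∈ fac K (g * a * g⁻¹) ↔ g⁻¹ * x * g ∈ fac K a := by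
  obtain ⟨tg, h1⟩ := fac_conj s t hgV hgH hgK
  constructor
  · intro hx
    have h2 := (fac_conj s tg (inv_mem hgV) (inv_mem hgH) (inv_mem hgK)).2 x hx
    rwa [inv_inv, show g⁻¹ * (g * a * g⁻¹) * g = a by group] at h2
  · intro hx
    have := h1 _ hx
    rwa [show g * (g⁻¹ * x * g) * g⁻¹ = x by group] at this

omit hq in
theorem Trans.fac_center (s : Setting p V H K) {a y : G} (t : Trans p V H a) (hy : y ∈ yfac V K a)
    (hc : ∀ z ∈ yfac V K a, Commute y z) : y = 1 := by
  rw [yfac, ← SetLike.mem_coe, coe_mul_of_right_le_normalizer_left _ _ (t.facW_norm s)] at hy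
  obtain ⟨w, hw, e, he, rfl⟩ := hy
  have he1 : e = 1 := t.fac_faithful s (t.fac_le s he) (fun c hc' => (mem_fixV.mp hc').2 e he) fun w' hw' => by
    have h1 : Commute w w' := s.vcomm (t.facW_le s hw) (t.facW_le s hw')
    simpa using h1.inv_left.mul_left (hc w' (mem_sup_left hw'))
  subst he1
  simp only [mul_one] at hc ⊢
  have hm : w ∈ ⁅V, fac K a⁆ ⊓ fixV V (fac K a) :=
    ⟨hw, mem_fixV.mpr ⟨t.facW_le s hw, fun e he => (hc e (mem_sup_right he)).symm⟩⟩
  rwa [t.facW_inf s, mem_bot] at hm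

theorem arith_fixed {i : ℕ} (h23 : p = 2 ∨ p = 3) (hi : i ≤ 2) (h2 : q ≠ 2) (h3 : q ≠ 3)
    (hmod : q ∣ p ^ 2 - p ^ i) : i = 2 := by
  have key : ∀ n, q ∣ n → n ∈ [2, 3, 6, 8] → False := by
    intro n hn hmem
    fin_cases hmem
    · exact h2 ((Nat.prime_dvd_prime_iff_eq hq.out Nat.prime_two).mp hn)
    · exact h3 ((Nat.prime_dvd_prime_iff_eq hq.out Nat.prime_three).mp hn)
    · rcases hq.out.dvd_mul.mp (show q ∣ 2 * 3 from hn) with h | h
      · exact h2 ((Nat.prime_dvd_prime_iff_eq hq.out Nat.prime_two).mp h)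
      · exact h3 ((Nat.prime_dvd_prime_iff_eq hq.out Nat.prime_three).mp h)
    · exact h2 ((Nat.prime_dvd_prime_iff_eq hq.out Nat.prime_two).mp
        (hq.out.dvd_of_dvd_pow (show q ∣ 2 ^ 3 from hn)))
  rcases h23 with rfl | rfl <;> interval_cases i
  all_goals first
    | rfl
    | exact absurd (key _ hmod (by norm_num)) id

/-- A symmetry normalizing a factor centralizes it and its plane. -/
theorem Sym.centralizes (sy : Sym q V H K X) (s : Setting p V H K) {a x : G} (t : Trans p V H a)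
    (hx : x ∈ X) (hxF : x ∈ normalizer (fac K a : Set G)) :
    ∀ y ∈ yfac V K a, Commute x y := by
  set W := ⁅V, fac K a⁆
  have hxW : zpowers x ≤ normalizer (W : Set G) := zpowers_le.mpr (mem_normalizer_fintype fun w hw =>
    conj_commutator_mem (sy.nV hx) hxF hw)
  let φ := Coprime.conjHom hxW
  letI : MulAction (zpowers x) W := MulAction.compHom W φ
  have hpg : IsPGroup q (zpowers x) := (isPGroup_of_elementary sy.el).to_le (zpowers_le.mpr hx)
  have hmod := hpg.card_modEq_card_fixedPoints W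
  set F0 := W ⊓ centralizer ({x} : Set G)
  have hfix : Nat.card (MulAction.fixedPoints (zpowers x) W) = Nat.card F0 := by
    refine Nat.card_congr
      { toFun := fun w => ⟨(w.1 : G), w.1.2, mem_centralizer_singleton_iff.mpr ?_⟩
        invFun := fun w => ⟨⟨w.1, w.2.1⟩, ?_⟩
        left_inv := fun w => rfl
        right_inv := fun w => rfl }
    · have h : x * (w.1 : G) * x⁻¹ = w.1 := congrArg Subtype.val (w.2 ⟨x, mem_zpowers x⟩)
      exact (mul_inv_eq_iff_eq_mul.mp h).symm
    · rintro ⟨y, i, rfl⟩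
      refine Subtype.ext ?_
      show x ^ i * (w.1 : G) * (x ^ i)⁻¹ = w.1
      have hc : Commute x w.1 := (mem_centralizer_singleton_iff.mp w.2.2).symm
      rw [(hc.zpow_left i).eq, mul_inv_cancel_right]
  have hW : Nat.card W = p ^ 2 := t.facW_card s
  obtain ⟨i, hi, hF0⟩ := (Nat.dvd_prime_pow hp.out).mp (hW ▸ card_dvd_of_le (inf_le_left : F0 ≤ W))
  rw [hfix, hW, hF0] at hmod
  have hdvd : q ∣ p ^ 2 - p ^ i := (Nat.modEq_iff_dvd' (Nat.pow_le_pow_right hp.out.pos hi)).mp hmod.symm
  have hi2 := arith_fixed (t.fac_pcases s) hi sy.q2 sy.q3 hdvd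
  have hcw : ∀ w ∈ W, Commute x w := by
    intro w hw
    have hFW : F0 = W := eq_of_le_of_card_ge inf_le_left (by rw [hF0, hi2, hW])
    exact (mem_centralizer_singleton_iff.mp ((hFW.symm ▸ hw : w ∈ F0)).2).symm
  have hce : ∀ e ∈ fac K a, Commute x e := by
    intro e he
    refine commutatorElement_eq_one_iff_commute.mp ?_
    have hu : ⁅x, e⁆ ∈ fac K a := by
      rw [commutatorElement_def]
      exact mul_mem ((mem_normalizer_iff.mp hxF e).mp he) (inv_mem he)
    refine t.fac_faithful s (t.fac_le s hu) (fun c hc => (mem_fixV.mp hc).2 _ hu) fun w hw => ?_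
    have hw' : e⁻¹ * w * e ∈ W := by
      simpa using (mem_normalizer_iff.mp (t.facW_norm s (inv_mem he)) w).mp hw
    have h1 : Commute (e * x⁻¹ * e⁻¹) w := by
      have := conj_commute (h := e) (hcw _ hw').inv_left
      rwa [show e * (e⁻¹ * w * e) * e⁻¹ = w by group] at this
    rw [show ⁅x, e⁆ = x * (e * x⁻¹ * e⁻¹) by simp only [commutatorElement_def]; group]
    exact (hcw w hw).mul_left h1
  intro y hy
  have hle : yfac V K a ≤ centralizer ({x} : Set G) := sup_le
    (fun w hw => mem_centralizer_singleton_iff.mpr (hcw w hw).symm.eq)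
    (fun e he => mem_centralizer_singleton_iff.mpr (hce e he).symm.eq)
  exact (show Commute y x from mem_centralizer_singleton_iff.mp (hle hy)).symm

/-- The diagonal of an orbit of factors. -/
theorem Sym.exists_diag (sy : Sym q V H K X) (s : Setting p V H K) {a : G} (t : Trans p V H a) :
    ∃ Δ : yfac V K a →* G, Function.Injective Δ ∧ (∀ y, ∀ x ∈ X, Commute x (Δ y)) ∧
      (∀ y : yfac V K a, (y : G) ∈ ⁅V, fac K a⁆ → Δ y ∈ V) ∧
      (∀ y : yfac V K a, (y : G) ∈ fac K a → Δ y ∈ H) ∧
      (∀ y : yfac V K a, ∀ z ∈ yfac V K a, Δ y * z * (Δ y)⁻¹ = (y : G) * z * (y : G)⁻¹) := by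
  classical
  set F := fac K a
  set W := ⁅V, F⁆
  set Y := yfac V K a
  set S : Subgroup X := (normalizer (F : Set G)).subgroupOf X
  let ι := X ⧸ S
  haveI : Fintype ι := Fintype.ofFinite ι
  let r : ι → G := fun i => ((Quotient.out i : X) : G)
  have hr : ∀ i, r i ∈ X := fun i => SetLike.coe_mem _
  let φ : ι → (Y →* G) := fun i => (MulAut.conj (r i)).toMonoidHom.comp Y.subtype
  have hφ : ∀ i (y : Y), φ i y = r i * y * (r i)⁻¹ := fun i y => rfl
  set ai : ι → G := fun i => r i * a * (r i)⁻¹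
  have hai : ∀ i, Trans p V H (ai i) := fun i => (fac_conj s t (sy.nV (hr i)) (sy.nH (hr i)) (sy.nK (hr i))).1
  have hFi : ∀ i, ∀ y ∈ F, r i * y * (r i)⁻¹ ∈ fac K (ai i) :=
    fun i => (fac_conj s t (sy.nV (hr i)) (sy.nH (hr i)) (sy.nK (hr i))).2
  have hWi : ∀ i, ∀ w ∈ W, r i * w * (r i)⁻¹ ∈ ⁅V, fac K (ai i)⁆ := by
    intro i
    have hle : W ≤ (⁅V, fac K (ai i)⁆).comap (MulAut.conj (r i)).toMonoidHom :=
      commutator_le.mpr fun v hv e he => mem_comap.mpr (by
        rw [map_commutatorElement]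
        exact commutator_mem_commutator ((mem_normalizer_iff.mp (sy.nV (hr i)) v).mp hv) (hFi i e he))
    exact fun w hw => hle hw
  have hne : ∀ i j, i ≠ j → fac K (ai j) ≠ fac K (ai i) := by
    intro i j hij he
    refine hij (Quotient.out_equiv_out.mp (QuotientGroup.leftRel_apply.mpr ?_))
    show (r i)⁻¹ * r j ∈ normalizer (F : Set G)
    refine mem_normalizer_fintype fun y hy => ?_
    have h1 := hFi j y hy
    rw [he, fac_conj_iff s t (sy.nV (hr i)) (sy.nH (hr i)) (sy.nK (hr i))] at h1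
    rwa [show (r i)⁻¹ * r j * y * ((r i)⁻¹ * r j)⁻¹ = (r i)⁻¹ * (r j * y * (r j)⁻¹) * r i by group]
  have hgen : ∀ i j, i ≠ j → ∀ y ∈ Y, ∀ z ∈ Y, Commute (r i * y * (r i)⁻¹) (r j * z * (r j)⁻¹) := by
    intro i j hij
    obtain ⟨hc, hwj⟩ := (fac_dichotomy s (hai i) (hai j)).resolve_left (hne i j hij)
    obtain ⟨-, hwi⟩ := (fac_dichotomy s (hai j) (hai i)).resolve_left (hne j i hij.symm)
    have base : ∀ y, (y ∈ W ∨ y ∈ F) → ∀ z, (z ∈ W ∨ z ∈ F) →
        Commute (r i * y * (r i)⁻¹) (r j * z * (r j)⁻¹) := by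
      rintro y (hy | hy) z (hz | hz)
      · exact s.vcomm ((hai i).facW_le s (hWi i y hy)) ((hai j).facW_le s (hWi j z hz))
      · exact ((mem_fixV.mp (hwi (hWi i y hy))).2 _ (hFi j z hz)).symm
      · exact (mem_fixV.mp (hwj (hWi j z hz))).2 _ (hFi i y hy)
      · exact hc _ (hFi i y hy) _ (hFi j z hz)
    have step : ∀ y, (y ∈ W ∨ y ∈ F) → ∀ z ∈ Y, Commute (r i * y * (r i)⁻¹) (r j * z * (r j)⁻¹) := by
      intro y hy z hz
      have hle : Y ≤ (centralizer ({r i * y * (r i)⁻¹} : Set G)).comap (MulAut.conj (r j)).toMonoidHom :=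
        sup_le (fun z hz => mem_centralizer_singleton_iff.mpr (base y hy z (Or.inl hz)).symm.eq)
          (fun z hz => mem_centralizer_singleton_iff.mpr (base y hy z (Or.inr hz)).symm.eq)
      exact (show Commute (r j * z * (r j)⁻¹) _ from mem_centralizer_singleton_iff.mp (hle hz)).symm
    intro y hy z hz
    have hle : Y ≤ (centralizer ({r j * z * (r j)⁻¹} : Set G)).comap (MulAut.conj (r i)).toMonoidHom :=
      sup_le (fun y hy => mem_centralizer_singleton_iff.mpr (step y (Or.inl hy) z hz).eq)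
        (fun y hy => mem_centralizer_singleton_iff.mpr (step y (Or.inr hy) z hz).eq)
    exact mem_centralizer_singleton_iff.mp (hle hy)
  have hcomm : Pairwise fun i j => ∀ (x y : Y), Commute (φ i x) (φ j y) :=
    fun i j hij x y => hgen i j hij x x.2 y y.2
  set Φ := MonoidHom.noncommPiCoprod φ hcomm
  let Δ : Y →* G := Φ.comp (MonoidHom.pi fun _ : ι => MonoidHom.id Y)
  have hΔ : ∀ y, Δ y = Φ (fun _ => y) := fun y => rfl
  set i0 : ι := QuotientGroup.mk 1
  have hi0 : ∀ z ∈ Y, Commute (r i0) z := sy.centralizes s t (hr i0) (by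
    have : (Quotient.out i0 : X) ∈ S := by
      have h := QuotientGroup.out_eq' i0
      rw [eq_comm, QuotientGroup.eq, inv_one, one_mul] at h
      exact h
    exact this)
  have hφ0 : ∀ y : Y, φ i0 y = y := fun y => by
    rw [hφ, (hi0 y y.2).eq, mul_inv_cancel_right]
  refine ⟨Δ, ?_, ?_, ?_, ?_, ?_⟩
  · have hinj : Function.Injective Φ := by
      refine MonoidHom.injective_noncommPiCoprod_of_iSupIndep φ ?_ fun i x y h => ?_
      · intro i
        rw [disjoint_iff, eq_bot_iff]
        rintro _ ⟨⟨y, rfl⟩, hz⟩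
        refine mem_bot.mpr ?_
        have hcen : (⨆ (j) (_ : j ≠ i), (φ j).range) ≤ centralizer ((φ i).range : Set G) :=
          iSup₂_le fun j hj => by
            rintro _ ⟨x, rfl⟩
            refine mem_centralizer_iff.mpr ?_
            rintro _ ⟨x', rfl⟩
            exact (hcomm hj x x').symm.eq
        have hy : (y : G) = 1 := t.fac_center s y.2 fun z hz' => by
          have := mem_centralizer_iff.mp (hcen hz) _ ⟨⟨z, hz'⟩, rfl⟩
          rw [hφ, hφ] at this
          have := conj_commute (h := (r i)⁻¹) (show Commute _ _ from this.symm)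
          simpa [mul_assoc] using this
        rw [hφ, hy, mul_one, mul_inv_cancel]
      · rw [hφ, hφ] at h
        exact Subtype.ext (mul_left_cancel (mul_right_cancel h))
    intro x y h
    exact congrFun (hinj h) i0
  · intro y x hx
    let σ : ι ≃ ι := MulAction.toPerm (⟨x, hx⟩ : X)
    have key : (MulAut.conj x).toMonoidHom.comp Φ =
        Φ.comp (MonoidHom.pi fun i => Pi.evalMonoidHom (fun _ : ι => Y) (σ.symm i)) := by
      refine MonoidHom.ext fun f => pi_mulSingle_induction
        (fun f => (MulAut.conj x).toMonoidHom.comp Φ f =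
          Φ.comp (MonoidHom.pi fun i => Pi.evalMonoidHom (fun _ : ι => Y) (σ.symm i)) f)
        (by rw [map_one, map_one]) (fun f f' hf hf' => by rw [map_mul, map_mul, hf, hf']) (fun i z => ?_) f
      show x * Φ (Pi.mulSingle i z) * x⁻¹ = Φ (fun j => (Pi.mulSingle i z : ι → Y) (σ.symm j))
      have e : (fun j => (Pi.mulSingle i z : ι → Y) (σ.symm j)) = Pi.mulSingle (σ i) z := by
        funext j
        simp [Pi.mulSingle_apply, Equiv.symm_apply_eq]
      rw [e, MonoidHom.noncommPiCoprod_mulSingle, MonoidHom.noncommPiCoprod_mulSingle, hφ, hφ]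
      obtain ⟨hsX, hs⟩ : (x * r i)⁻¹ * r (σ i) ∈ X ∧ (x * r i)⁻¹ * r (σ i) ∈ normalizer (F : Set G) := by
        refine ⟨mul_mem (inv_mem (mul_mem hx (hr i))) (hr _), ?_⟩
        have h : QuotientGroup.mk (s := S) ((⟨x, hx⟩ : X) * Quotient.out i) =
            QuotientGroup.mk (Quotient.out (σ i)) := by
          rw [QuotientGroup.out_eq']
          conv_rhs => rw [← QuotientGroup.out_eq' i]
          rfl
        have h' := QuotientGroup.eq.mp h
        rw [mem_subgroupOf] at h'
        exact h'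
      have hc := sy.centralizes s t hsX hs z z.2
      calc x * (r i * (z : G) * (r i)⁻¹) * x⁻¹ = (x * r i) * z * (x * r i)⁻¹ := by group
        _ = (x * r i) * (((x * r i)⁻¹ * r (σ i)) * z * ((x * r i)⁻¹ * r (σ i))⁻¹) * (x * r i)⁻¹ := by
          rw [hc.eq, mul_inv_cancel_right]
        _ = _ := by group
    have h : x * Δ y * x⁻¹ = Δ y := DFunLike.congr_fun key (fun _ => y)
    exact mul_inv_eq_iff_eq_mul.mp h
  · intro y hy
    refine Subgroup.noncommProd_mem V (fun _ _ _ _ h => hcomm h _ _) fun i _ => ?_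
    exact (hai i).facW_le s (hWi i y hy)
  · intro y hy
    refine Subgroup.noncommProd_mem H (fun _ _ _ _ h => hcomm h _ _) fun i _ => ?_
    exact (hai i).fac_le s (hFi i y hy)
  · intro y
    have key : ∀ f : ι → Y, ∀ z ∈ Y, Φ f * z * (Φ f)⁻¹ = (f i0 : G) * z * (f i0 : G)⁻¹ := by
      intro f
      let P : (ι → Y) → Prop := fun f => ∀ z ∈ Y, Φ f * z * (Φ f)⁻¹ = (f i0 : G) * z * (f i0 : G)⁻¹
      refine pi_mulSingle_induction P ?_ ?_ ?_ f
      · intro z _; simp [P]
      · intro f f' hf hf' z hz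
        have hz' : (f' i0 : G) * z * (f' i0 : G)⁻¹ ∈ Y := mul_mem (mul_mem (f' i0).2 hz) (inv_mem (f' i0).2)
        calc Φ (f * f') * z * (Φ (f * f'))⁻¹ = Φ f * (Φ f' * z * (Φ f')⁻¹) * (Φ f)⁻¹ := by
              rw [map_mul]; group
          _ = _ := by
              rw [hf' z hz, hf _ hz', Pi.mul_apply, Subgroup.coe_mul]; group
      · intro i z' z hz
        rw [MonoidHom.noncommPiCoprod_mulSingle]
        by_cases hi : i = i0
        · subst hi
          rw [Pi.mulSingle_eq_same, hφ0]
        · have h1 := hcomm hi z' ⟨z, hz⟩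
          rw [hφ0] at h1
          rw [Pi.mulSingle_eq_of_ne (Ne.symm hi), h1.eq, mul_inv_cancel_right]
          simp
    exact key _

end Cfsg.Agent.Lib.Offender
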