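import Cfsg.Agent.Lib.Offender.Structure
import Cfsg.Agent.Lib.HallHigman.Prime
import Cfsg.Agent.Lib.LocalFusion.PSolvable
import Cfsg.Agent.Lib.GenStruct.PHall
import Cfsg.Agent.Lib.PLength.Basic
import Mathlib.GroupTheory.SemidirectProduct

/-!
The faithful model of a group acting on a normal elementary abelian subgroup.
-/

set_option autoImplicit false
open Subgroup
open scoped commutatorElement

namespace Cfsg.Agent.Lib.Offender

open Cfsg Cfsg.Agent.Lib.Thompson

variable {G : Type*} [Group G] (V : Subgroup G) [V.Normal]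

/-- The action of `G/C(V)` on `V`. -/
def act : G ⧸ centralizer (V : Set G) →* MulAut V :=
  QuotientGroup.lift _ MulAut.conjNormal fun g hg => by
    rw [MonoidHom.mem_ker]
    refine MulEquiv.ext fun v => Subtype.ext ?_
    show g * (v : G) * g⁻¹ = v
    rw [← mem_centralizer_iff.mp hg v v.2, mul_inv_cancel_right]

/-- `V ⋊ G/C(V)`. -/
abbrev Mdl := SemidirectProduct V (G ⧸ centralizer (V : Set G)) (act V)

/-- The embedding of `V`. -/
abbrev iV : V →* Mdl V := SemidirectProduct.inl

/-- The map from `G`. -/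
abbrev prj : G →* Mdl V := SemidirectProduct.inr.comp (QuotientGroup.mk' _)

theorem prj_conj (g : G) (v : V) : prj V g * iV V v * (prj V g)⁻¹ = iV V (MulAut.conjNormal g v) := by
  rw [← map_inv]
  exact (SemidirectProduct.inl_aut (φ := act V) (QuotientGroup.mk g) v).symm.trans rfl

theorem prj_eq_one_iff {g : G} : prj V g = 1 ↔ g ∈ centralizer (V : Set G) := by
  rw [MonoidHom.comp_apply, map_eq_one_iff _ SemidirectProduct.inr_injective, QuotientGroup.mk'_apply,
    QuotientGroup.eq_one_iff]

theorem prj_ker : (prj V).ker = centralizer (V : Set G) := by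
  ext g; rw [MonoidHom.mem_ker, prj_eq_one_iff]

theorem commute_prj_iff {g : G} {v : V} : Commute (prj V g) (iV V v) ↔ Commute g (v : G) := by
  have h := prj_conj V g v
  constructor
  · intro hc
    rw [hc.eq, mul_inv_cancel_right] at h
    exact mul_inv_eq_iff_eq_mul.mp (congrArg Subtype.val (SemidirectProduct.inl_injective h)).symm
  · intro hc
    have e : MulAut.conjNormal g v = v := Subtype.ext (by
      show g * (v : G) * g⁻¹ = v
      rw [hc.eq, mul_inv_cancel_right])
    rw [e] at h
    exact mul_inv_eq_iff_eq_mul.mp h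

theorem fixV_model (B : Subgroup G) :
    fixV (iV V).range (B.map (prj V)) = ((fixV V B).subgroupOf V).map (iV V) := by
  ext x
  rw [mem_fixV]
  constructor
  · rintro ⟨⟨v, rfl⟩, h⟩
    exact ⟨v, mem_fixV.mpr ⟨v.2, fun b hb => (commute_prj_iff V).mp (h _ (mem_map_of_mem _ hb))⟩, rfl⟩
  · rintro ⟨v, hv, rfl⟩
    refine ⟨⟨v, rfl⟩, ?_⟩
    rintro _ ⟨b, hb, rfl⟩
    exact (commute_prj_iff V).mpr ((mem_fixV.mp hv).2 b hb)

theorem range_normalized : (prj V).range ≤ normalizer ((iV V).range : Set (Mdl V)) := by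
  have hN : ((iV V).range).Normal := by
    rw [show (iV V).range = (SemidirectProduct.inl : V →* Mdl V).range from rfl,
      SemidirectProduct.range_inl_eq_ker_rightHom]
    infer_instance
  rw [normalizer_eq_top]
  exact le_top

variable [Finite G] {p : ℕ} [hp : Fact p.Prime]

instance : Finite (Mdl V) := Finite.of_equiv _ SemidirectProduct.equivProd.symm

theorem card_fixV_model (B : Subgroup G) :
    Nat.card (fixV (iV V).range (B.map (prj V))) = Nat.card (fixV V B) := by
  rw [fixV_model, card_map_of_injective SemidirectProduct.inl_injective,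
    Coprime.card_subgroupOf (inf_le_left : fixV V B ≤ V)]

omit hp in
theorem card_map_prj (B : Subgroup G) :
    Nat.card (B.map (prj V)) * Nat.card (B ⊓ centralizer (V : Set G) : Subgroup G) = Nat.card B := by
  have h1 : Nat.card ((prj V).comp B.subtype).ker * Nat.card (B.map (prj V)) = Nat.card B := by
    rw [show B.map (prj V) = ((prj V).comp B.subtype).range by
      rw [MonoidHom.range_comp, range_subtype],
      ← index_ker]
    exact card_mul_index _
  rw [← MonoidHom.comap_ker, prj_ker] at h1
  rw [mul_comm]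
  convert h1 using 2
  rw [show (centralizer (V : Set G)).comap B.subtype = (B ⊓ centralizer (V : Set G)).subgroupOf B from
    (inf_subgroupOf_left _ _).symm, Coprime.card_subgroupOf inf_le_left]

theorem elementary_model (hV : IsElementaryAbelian p V) : IsElementaryAbelian p (iV V).range := by
  refine ⟨⟨⟨?_⟩⟩, ?_⟩
  · rintro ⟨_, v, rfl⟩ ⟨_, w, rfl⟩
    exact Subtype.ext (((show Commute v w from Subtype.ext (commute_of_elementary hV v.2 w.2)).map (iV V)).eq)
  · rintro _ ⟨v, rfl⟩
    rw [← map_pow, show v ^ p = 1 from Subtype.ext (hV.2 v v.2), map_one]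

/-- Best offenders stay best offenders in the model. -/
theorem best_model {A : Subgroup G} (hA : IsBestOffenderOn p V A) :
    IsBestOffenderOn p (iV V).range (A.map (prj V)) := by
  obtain ⟨h1, h2, h3⟩ := hA
  refine ⟨fun B hB => ?_, ?_, ?_⟩
  · set B₀ := A ⊓ B.comap (prj V)
    have e : B₀.map (prj V) = B := by
      refine le_antisymm ((map_mono inf_le_right).trans (map_comap_le _ _)) fun x hx => ?_
      obtain ⟨a, ha, rfl⟩ := hB hx
      exact ⟨a, ⟨ha, hx⟩, rfl⟩
    have hk : B₀ ⊓ centralizer (V : Set G) = A ⊓ centralizer (V : Set G) := by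
      refine le_antisymm (inf_le_inf_right _ inf_le_left) ?_
      rintro g ⟨hg, hc⟩
      refine ⟨⟨hg, ?_⟩, hc⟩
      exact mem_comap.mpr (by rw [(prj_eq_one_iff V).mpr hc]; exact one_mem _)
    have h := h1 B₀ inf_le_left
    rw [← card_map_prj V B₀, ← card_map_prj V A, hk, e] at h
    have hb := card_fixV_model V B₀
    rw [e] at hb
    show Nat.card B * Nat.card (fixV (iV V).range B) ≤
      Nat.card (A.map (prj V)) * Nat.card (fixV (iV V).range (A.map (prj V)))
    rw [hb, card_fixV_model V A]
    refine le_of_mul_le_mul_left ?_ (Nat.card_pos (α := ↥(A ⊓ centralizer (V : Set G))))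
    calc _ = Nat.card B * Nat.card (A ⊓ centralizer (V : Set G) : Subgroup G) * Nat.card (fixV V B₀) := by ring
      _ ≤ _ := h
      _ = _ := by ring
  · rw [← map_commutator, map_le_iff_le_comap]
    intro g hg
    rw [mem_comap, (prj_eq_one_iff V).mpr (h2 hg)]
    exact one_mem _
  · rintro _ ⟨a, ha, rfl⟩
    rw [← map_pow, (prj_eq_one_iff V).mpr (h3 a ha)]
    exact one_mem _

/-- A normal `p`-solvable subgroup generated by best offenders gives a `Setting`. -/
theorem exists_setting (hV : IsElementaryAbelian p V) (J : Subgroup G) [hJ : J.Normal]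
    (hsol : IsPSolvable p ↥J) (hgen : J = sSup {A | A ≤ J ∧ IsBestOffenderOn p V A})
    (hcore : ∀ D : Subgroup G, D.Normal → D ≤ J → (∃ k, (J ⊓ centralizer (V : Set G)).relIndex D = p ^ k) →
      J ⊓ centralizer (V : Set G) ≤ D → D ≤ centralizer (V : Set G)) :
    ∃ K, Setting p (iV V).range (J.map (prj V)) K ∧
      (prj V).range ≤ normalizer (K : Set (Mdl V)) ∧
      J.map (prj V) = ⨆ A : {A : Subgroup (Mdl V) // A ≤ J.map (prj V) ∧
        IsBestOffenderOn p (iV V).range A}, (A : Subgroup (Mdl V)) := by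
  set π := QuotientGroup.mk' (centralizer (V : Set G))
  set Jb := J.map π with hJb
  have hJbn : Jb.Normal := hJ.map π (QuotientGroup.mk'_surjective _)
  have hcoreJ : pCore p ↥Jb = ⊥ := by
    set D := J ⊓ ((pCore p ↥Jb).map Jb.subtype).comap π
    have hPn : ((pCore p ↥Jb).map Jb.subtype).Normal := inferInstance
    have hDn : D.Normal := inferInstance
    have hJC : J ⊓ centralizer (V : Set G) ≤ D := fun g hg => ⟨hg.1, by
      exact mem_comap.mpr (by
        rw [show π g = 1 from (QuotientGroup.eq_one_iff g).mpr hg.2]; exact one_mem _)⟩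
    have hle : D ≤ centralizer (V : Set G) := by
      refine hcore D hDn inf_le_left ?_ hJC
      have hPp : IsPGroup p ((pCore p ↥Jb).map Jb.subtype) :=
        IsPGroup.map (Hall.isPGroup_pCore (G := ↥Jb) p) _
      obtain ⟨n, hn⟩ := IsPGroup.iff_card.mp (hPp.to_le (map_le_iff_le_comap.mpr inf_le_right : D.map π ≤ _))
      refine ⟨n, ?_⟩
      rw [relIndex, ← hn]
      have h1 := index_ker (π.comp D.subtype)
      rw [← MonoidHom.comap_ker, QuotientGroup.ker_mk', MonoidHom.range_eq_map, ← Subgroup.map_map,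
        ← MonoidHom.range_eq_map, range_subtype] at h1
      rw [← h1]
      congr 1
      ext x
      simp only [mem_subgroupOf, mem_inf, mem_comap, Subgroup.coe_subtype]
      exact ⟨fun h => h.2, fun h => ⟨(mem_inf.mp x.2).1, h⟩⟩
    refine (eq_bot_iff_forall _).mpr fun y hy => ?_
    obtain ⟨g, hgJ, hg⟩ := y.2
    have : g ∈ D := ⟨hgJ, by
      exact mem_comap.mpr (by rw [show π g = _ from hg]; exact mem_map_of_mem _ hy)⟩
    apply Subtype.ext
    show (y : G ⧸ centralizer (V : Set G)) = 1
    rw [← hg]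
    exact (QuotientGroup.eq_one_iff g).mpr (hle this)
  have hsolJb : IsPSolvable p ↥Jb :=
    PLength.isPSolvable_map (f := π.subgroupMap J) (π.subgroupMap_surjective J) hsol
  have hS1 := HallHigman.centralizer_pPrimeCore_le hsolJb hcoreJ
  set K0 := (pPrimeCore p ↥Jb).map Jb.subtype with hK0
  have hK0n : K0.Normal := by
    have : (pPrimeCore p ↥Jb).Characteristic := Hall.pPrimeCore_characteristic p
    infer_instance
  set inr : (G ⧸ centralizer (V : Set G)) →* Mdl V := SemidirectProduct.inr
  have eH : J.map (prj V) = Jb.map inr := (Subgroup.map_map _ _ _).symm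
  have hrange : (prj V).range ≤ normalizer ((K0.map inr : Subgroup (Mdl V)) : Set (Mdl V)) := by
    rintro _ ⟨g, rfl⟩
    refine mem_normalizer_fintype ?_
    rintro _ ⟨k, hk, rfl⟩
    refine ⟨π g * k * (π g)⁻¹, hK0n.conj_mem k hk _, ?_⟩
    rw [map_mul, map_mul, map_inv]; rfl
  refine ⟨K0.map inr, ?_, hrange, ?_⟩
  · refine ⟨elementary_model V hV, (map_le_range _ _).trans (range_normalized V), ?_, ?_, ?_,
      (map_le_range _ _).trans hrange, ?_⟩
    · rw [eq_bot_iff]
      rintro _ ⟨⟨g, -, rfl⟩, hc⟩
      refine mem_bot.mpr ((prj_eq_one_iff V).mpr (mem_centralizer_iff.mpr fun v hv => ?_))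
      exact ((commute_prj_iff V (v := ⟨v, hv⟩)).mp (mem_centralizer_iff.mp hc _ ⟨_, rfl⟩).symm).symm.eq
    · rw [eH]; exact map_mono (map_subtype_le _)
    · rw [card_map_of_injective SemidirectProduct.inr_injective, card_map_of_injective Jb.subtype_injective]
      exact Hall.coprime_card_pPrimeCore p
    · rw [eH]
      rintro _ ⟨⟨x, hx, rfl⟩, hc⟩
      refine ⟨x, ⟨⟨x, hx⟩, hS1 (mem_centralizer_iff.mpr fun y hy => Subtype.ext ?_), rfl⟩, rfl⟩
      refine SemidirectProduct.inr_injective (φ := act V) ?_
      have := mem_centralizer_iff.mp hc (inr y) (mem_map_of_mem _ (mem_map_of_mem _ hy))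
      rwa [← map_mul, ← map_mul] at this
  · refine le_antisymm ?_ (iSup_le fun A => A.2.1)
    conv_lhs => rw [hgen, sSup_eq_iSup', Subgroup.map_iSup]
    exact iSup_le fun A => le_iSup (fun A : {A : Subgroup (Mdl V) // A ≤ J.map (prj V) ∧
        IsBestOffenderOn p (iV V).range A} => (A : Subgroup (Mdl V)))
      ⟨A.1.map (prj V), map_mono A.2.1, best_model V A.2.2⟩

end Cfsg.Agent.Lib.Offender
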