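import Cfsg.Agent.Lib.Offender.Diag
import Cfsg.Agent.Lib.Coprime.Action
import Cfsg.Agent.Lib.Thompson.Stable

/-!
Coprime operator groups and Thompson factorization.
-/

set_option autoImplicit false
open Subgroup
open scoped commutatorElement MatrixGroups

namespace Cfsg.Agent.Lib.Offender

open Cfsg Cfsg.Agent.Lib.Thompson

section Factor

variable {G : Type*} [Group G] [Finite G] {p : ℕ} [hp : Fact p.Prime] {V H K : Subgroup G}

theorem pow_mul_inv_pow_mem (s : Setting p V H K) {b x : G} (hb : b ∈ H) (h : b * x⁻¹ ∈ K) :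
    ∀ n : ℕ, b ^ n * (x ^ n)⁻¹ ∈ K := by
  intro n
  induction n with
  | zero => simp
  | succ n ih =>
    rw [show b ^ (n + 1) * (x ^ (n + 1))⁻¹ = (b ^ n * (b * x⁻¹) * (b ^ n)⁻¹) * (b ^ n * (x ^ n)⁻¹) by
      rw [pow_succ, pow_succ']; group]
    exact mul_mem (s.mul_conj_mem_K (pow_mem hb n) h) ih

/-- An element of order `p` of a factor congruent to its transvection is a conjugate of it. -/
theorem Trans.exists_conj (s : Setting p V H K) {a c : G} (t : Trans p V H a) (hc : c ∈ fac K a)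
    (hcp : c ^ p = 1) (hcK : c * a⁻¹ ∈ K) : ∃ e ∈ fac K a, c = e * a * e⁻¹ := by
  set F := fac K a
  have ha : a ∈ F := mem_fac K a
  set Z : Subgroup F := (zpowers a).subgroupOf F
  have hle : zpowers a ≤ F := zpowers_le.mpr ha
  have hZc : Nat.card Z = p := by rw [Coprime.card_subgroupOf hle, card_zpowers_of_pow t.pow t.ne]
  have hZ : IsPGroup p Z := IsPGroup.of_card (n := 1) (by rw [hZc, pow_one])
  have hidx : ¬ p ∣ Z.index := by
    have h1 := card_mul_index Z
    rw [hZc, ← t.fac_card_inf s, mul_comm] at h1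
    rw [Nat.eq_of_mul_eq_mul_right hp.out.pos h1]
    exact hp.out.coprime_iff_not_dvd.mp (s.Kcop.coprime_dvd_left (card_dvd_of_le inf_le_right)).symm
  have hC : IsPGroup p (zpowers (⟨c, hc⟩ : F)) := isPGroup_of_elementary
    (isElementaryAbelian_zpowers (Subtype.ext (by simpa using hcp)))
  obtain ⟨P, hP⟩ := hC.exists_le_sylow
  obtain ⟨e, he⟩ := MulAction.exists_smul_eq F (hZ.toSylow hidx) P
  refine ⟨e, e.2, ?_⟩
  have hcm : (⟨c, hc⟩ : F) ∈ ((e • hZ.toSylow hidx : Sylow p F) : Subgroup F) := he ▸ hP (mem_zpowers _)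
  obtain ⟨z, hz, hze⟩ := hcm
  have hze' : (e : G) * z * (e : G)⁻¹ = c := congrArg Subtype.val hze
  have hcomm : Commute (z : G) a := by
    obtain ⟨i, hi⟩ := mem_subgroupOf.mp hz
    rw [← hi]; exact (Commute.refl a).zpow_left i
  have h1 : Commute c ((e : G) * a * (e : G)⁻¹) := hze' ▸ conj_commute hcomm
  have h2 : (e : G) * a * (e : G)⁻¹ * a⁻¹ ∈ K := by
    obtain ⟨d, h, hd, -⟩ := t.fac_pair s
    exact s.cong_conj t.mem (h.le_sup (hd ▸ e.2))
  refine (s.eq_of_commute hcp (by rw [conj_pow, t.pow, mul_one, mul_inv_cancel]) h1 ?_).symm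
  have := mul_mem h2 (inv_mem hcK)
  rwa [mul_inv_rev, inv_inv, mul_assoc, inv_mul_cancel_left] at this

/-- A factor is generated by a transvection and the conjugation of its own elements. -/
theorem Trans.fac_le_of (s : Setting p V H K) {a : G} (t : Trans p V H a) {M : Subgroup G} (ha : a ∈ M)
    (hD : ∀ e ∈ fac K a, ∃ D ∈ M, D * a * D⁻¹ = e * a * e⁻¹) : fac K a ≤ M := by
  obtain ⟨x, hx, hxa⟩ := t.exists_noncomm s
  have h := t.pair s hx hxa
  have hF : fac K a = gen₂ a (x * a * x⁻¹) := (h.commutator_K s ⟨x, hx, rfl⟩).2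
  set d := x * a * x⁻¹
  obtain ⟨u, hu, hu1⟩ := t.exists_cen_ne s
  obtain ⟨v, hv, hv1⟩ := h.td.exists_cen_ne s
  obtain ⟨q, hq, rfl⟩ := h.transitive s u (mem_sup_left hu) hu1 v (mem_sup_right hv) hv1
  have tq := t.conj s (h.le hq.1)
  have hcen : cen V d = cen V (q * a * q⁻¹) := by
    rw [cen_conj_eq s t (h.le hq.1) hu hu1, cen_eq_zpowers s h.td hv hv1]
  have hdq : d = q * a * q⁻¹ := by
    have hc := s.commute_of_trans tq h.td (hcen ▸ h.td.cen_le_fix s) (hcen.symm ▸ tq.cen_le_fix s)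
    refine s.eq_of_commute tq.pow h.td.pow hc ?_
    have := mul_mem h.cong (inv_mem (s.cong_conj t.mem (h.le_sup hq.1)))
    rwa [mul_inv_rev, inv_inv, mul_assoc, inv_mul_cancel_left] at this
  rw [hF]
  refine sup_le (zpowers_le.mpr ha) (zpowers_le.mpr ?_)
  obtain ⟨D, hD1, hD2⟩ := hD q (hF ▸ hq.1)
  rw [hdq, ← hD2]
  exact mul_mem (mul_mem hD1 ha) (inv_mem hD1)

end Factor

section Embedded

variable {K₀ G : Type*} [Group K₀] [Group G]

theorem map_char_normal (f : K₀ →* G) (hf : Function.Injective f) [hN : f.range.Normal] (C : Subgroup K₀)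
    [hC : C.Characteristic] : (C.map f).Normal := by
  refine ⟨?_⟩
  rintro _ ⟨x, hx, rfl⟩ g
  let σ : K₀ ≃* K₀ := ((MonoidHom.ofInjective hf).trans (MulAut.conjNormal g)).trans
    (MonoidHom.ofInjective hf).symm
  refine ⟨σ x, ?_, ?_⟩
  · exact characteristic_iff_le_comap.mp hC σ hx
  · have : f (σ x) = ((MonoidHom.ofInjective hf) (σ x) : G) := rfl
    rw [this]
    simp only [σ, MulEquiv.trans_apply, MulEquiv.apply_symm_apply]
    rfl

variable {p : ℕ}

theorem omegaSup_char [Finite K₀] [Fact p.Prime] : (omegaSup p K₀).Characteristic := by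
  refine characteristic_iff_map_le.mpr fun e => ?_
  rw [omegaSup, Subgroup.map_iSup]
  refine iSup_le fun S => le_trans ?_ (le_iSup _ (S.mapSurjective (f := e.toMonoidHom) e.surjective))
  rw [omegaOne, MonoidHom.map_closure, closure_le]
  rintro _ ⟨x, ⟨hx, hxp⟩, rfl⟩
  refine subset_closure ⟨⟨mem_map_of_mem _ hx.1, mem_centralizer_iff.mpr ?_⟩,
    by rw [← map_pow, hxp, map_one]⟩
  rintro _ ⟨y, hy, rfl⟩
  rw [← map_mul, ← map_mul, mem_centralizer_iff.mp hx.2 y hy]

variable [Finite K₀] [Finite G] [hp : Fact p.Prime]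

theorem fixV_map (f : K₀ →* G) (hf : Function.Injective f) (V A : Subgroup K₀) :
    fixV (V.map f) (A.map f) = (fixV V A).map f := by
  ext x
  rw [mem_fixV]
  constructor
  · rintro ⟨⟨v, hv, rfl⟩, h⟩
    refine ⟨v, mem_fixV.mpr ⟨hv, fun a ha => ?_⟩, rfl⟩
    exact hf (by rw [map_mul, map_mul]; exact h _ (mem_map_of_mem f ha))
  · rintro ⟨v, hv, rfl⟩
    refine ⟨mem_map_of_mem f hv.1, ?_⟩
    rintro _ ⟨a, ha, rfl⟩
    exact ((mem_fixV.mp hv).2 a ha).map f

theorem best_map (f : K₀ →* G) (hf : Function.Injective f) {V A : Subgroup K₀}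
    (hA : IsBestOffenderOn p V A) : IsBestOffenderOn p (V.map f) (A.map f) := by
  obtain ⟨h1, h2, h3⟩ := hA
  refine ⟨fun B hB => ?_, ?_, ?_⟩
  · have e : (A ⊓ B.comap f).map f = B := by
      refine le_antisymm ((map_mono inf_le_right).trans (map_comap_le _ _)) fun x hx => ?_
      obtain ⟨a, ha, rfl⟩ := hB hx
      exact ⟨a, ⟨ha, hx⟩, rfl⟩
    rw [← e]
    show _ * Nat.card (fixV (V.map f) _) ≤ _ * Nat.card (fixV (V.map f) _)
    rw [fixV_map f hf, fixV_map f hf, card_map_of_injective hf, card_map_of_injective hf,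
      card_map_of_injective hf, card_map_of_injective hf]
    exact h1 _ inf_le_left
  · rw [← map_commutator]
    rintro _ ⟨x, hx, rfl⟩
    refine mem_centralizer_iff.mpr ?_
    rintro _ ⟨v, hv, rfl⟩
    rw [← map_mul, ← map_mul, mem_centralizer_iff.mp (h2 hx) v hv]
  · rintro _ ⟨a, ha, rfl⟩
    refine mem_centralizer_iff.mpr ?_
    rintro _ ⟨v, hv, rfl⟩
    rw [← map_pow, ← map_mul, ← map_mul, mem_centralizer_iff.mp (h3 a ha) v hv]

theorem mem_centralizer_map_iff (f : K₀ →* G) (hf : Function.Injective f) (V : Subgroup K₀) {k : K₀} :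
    f k ∈ centralizer ((V.map f : Subgroup G) : Set G) ↔ k ∈ centralizer (V : Set K₀) := by
  rw [mem_centralizer_iff, mem_centralizer_iff]
  constructor
  · intro h v hv
    exact hf (by rw [map_mul, map_mul]; exact h _ (mem_map_of_mem f hv))
  · rintro h _ ⟨v, hv, rfl⟩
    rw [← map_mul, ← map_mul, h v hv]

/-- The data attached to an embedded group with an operator group. -/
structure OpData (p q : ℕ) {K₀ G : Type*} [Group K₀] [Group G] (f : K₀ →* G) (X : Subgroup G)
    (V : Subgroup G) [V.Normal] (H Kb : Subgroup (Mdl V)) : Prop where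
  s : Setting p (iV V).range H Kb
  hH : H = ((thompsonSubgroup p K₀).map f).map (prj V)
  hgen : H = ⨆ A : {A : Subgroup (Mdl V) // A ≤ H ∧ IsBestOffenderOn p (iV V).range A}, (A : Subgroup (Mdl V))
  nH : (prj V).range ≤ normalizer (H : Set (Mdl V))
  nK : (prj V).range ≤ normalizer (Kb : Set (Mdl V))
  hV : V = (omegaSup p K₀).map f

theorem exists_opData {q : ℕ} (f : K₀ →* G) (hf : Function.Injective f) [f.range.Normal] (X : Subgroup G)
    (hsep : IsPSolvable p K₀) (hO : pPrimeCore p K₀ = ⊥) :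
    ∃ (V : Subgroup G) (_ : V.Normal) (H Kb : Subgroup (Mdl V)), OpData p q f X V H Kb := by
  haveI := omegaSup_char (p := p) (K₀ := K₀)
  haveI hVn := map_char_normal f hf (omegaSup p K₀)
  obtain ⟨-, he, hc⟩ := omegaSup_spec hsep hO
  have hO' := hc inferInstance
  haveI : (thompsonSubgroup p K₀).Characteristic := thompsonSubgroup_characteristic
  haveI hJn := map_char_normal f hf (thompsonSubgroup p K₀)
  set V := (omegaSup p K₀).map f
  set J := (thompsonSubgroup p K₀).map f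
  have hsol : IsPSolvable p ↥J := PLength.isPSolvable_map
    (f := f.subgroupMap (thompsonSubgroup p K₀)) (f.subgroupMap_surjective _)
    (GenStruct.PHall.isPSolvable_subgroup hsep _)
  have hg1 : J = sSup {A | A ≤ J ∧ IsBestOffenderOn p V A} := by
    refine le_antisymm ?_ (sSup_le fun A hA => hA.1)
    rw [show J = (sSup (maxElementaryAbelianSubgroups p K₀)).map f from rfl, sSup_eq_iSup', Subgroup.map_iSup]
    exact iSup_le fun A => le_sSup ⟨le_iSup (fun A : maxElementaryAbelianSubgroups p K₀ =>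
      (A : Subgroup K₀).map f) A, best_map f hf (S0606.result _ he A.1 A.2)⟩
  have hg2 : ∀ D : Subgroup G, D.Normal → D ≤ J → (∃ k, (J ⊓ centralizer (V : Set G)).relIndex D = p ^ k) →
      J ⊓ centralizer (V : Set G) ≤ D → D ≤ centralizer (V : Set G) := by
    rintro D hD hDJ ⟨k, hk⟩ -
    have hDr : D ≤ f.range := hDJ.trans (map_le_range _ _)
    have eD : (D.comap f).map f = D := map_comap_eq_self hDr
    have h0 : D.comap f ≤ centralizer ((omegaSup p K₀ : Subgroup K₀) : Set K₀) := by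
      refine le_centralizer_of_pGroup_mod _ hO' _ (hD.comap f) (isPGroup_map_of_relIndex _
        (J := thompsonSubgroup p K₀) (k := k) ?_ ?_)
      · intro x hx
        exact (mem_map_iff_mem hf).mp (hDJ hx)
      · rw [← relIndex_map_map_of_injective _ _ hf, eD]
        convert hk using 2
        ext x
        constructor
        · rintro ⟨y, hy, rfl⟩
          exact ⟨mem_map_of_mem f hy.1, (mem_centralizer_map_iff f hf _).mpr hy.2⟩
        · rintro ⟨⟨y, hy, rfl⟩, hx⟩
          exact ⟨y, ⟨hy, (mem_centralizer_map_iff f hf _).mp hx⟩, rfl⟩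
    intro x hx
    obtain ⟨y, hy, rfl⟩ := eD.ge hx
    exact (mem_centralizer_map_iff f hf _).mpr (h0 hy)
  obtain ⟨Kb, s, hn, hgen⟩ := exists_setting V (isElementaryAbelian_map f he) J hsol hg1 hg2
  refine ⟨V, hVn, J.map (prj V), Kb, s, rfl, hgen, ?_, hn, rfl⟩
  rintro _ ⟨g, rfl⟩
  refine mem_normalizer_fintype ?_
  rintro _ ⟨j, hj, rfl⟩
  exact ⟨g * j * g⁻¹, hJn.conj_mem j hj g, by rw [map_mul, map_mul, map_inv]⟩

variable {q : ℕ} [hq : Fact q.Prime] {f : K₀ →* G} {X V : Subgroup G} [V.Normal] {H Kb : Subgroup (Mdl V)}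

theorem OpData.sym (d : OpData p q f X V H Kb) (hX : IsElementaryAbelian q X) (hqK : ¬ q ∣ Nat.card K₀)
    {a : Mdl V} (t : Trans p (iV V).range H a) : Sym q (iV V).range H Kb (X.map (prj V)) := by
  have hdvd : Nat.card SL(2, ZMod p) ∣ Nat.card K₀ := by
    rw [← t.fac_card d.s]
    refine (card_dvd_of_le (t.fac_le d.s)).trans ?_
    rw [d.hH]
    exact (card_map_dvd _ _).trans ((card_map_dvd _ _).trans (card_subgroup_dvd_card _))
  have h6 : 6 ∣ Nat.card K₀ := by
    rcases t.fac_pcases d.s with h | h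
    · subst h
      rwa [show Nat.card SL(2, ZMod 2) = 6 by rw [Nat.card_eq_fintype_card]; decide] at hdvd
    · subst h
      rw [show Nat.card SL(2, ZMod 3) = 24 by rw [Nat.card_eq_fintype_card]; decide] at hdvd
      exact dvd_trans (by norm_num) hdvd
  refine ⟨isElementaryAbelian_map _ hX, fun h => hqK (h ▸ dvd_trans (by norm_num) h6),
    fun h => hqK (h ▸ dvd_trans (by norm_num) h6), (map_le_range _ _).trans (range_normalized V),
    (map_le_range _ _).trans d.nH, (map_le_range _ _).trans d.nK⟩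

theorem OpData.lift (d : OpData p q f X V H Kb) (hf : Function.Injective f) [hN : f.range.Normal]
    (hX : IsElementaryAbelian q X) (hqK : ¬ q ∣ Nat.card K₀) {D : Mdl V} (hD : D ∈ H)
    (hc : ∀ x ∈ X.map (prj V), Commute x D) :
    ∃ k : K₀, f k ∈ centralizer (X : Set G) ∧ prj V (f k) = D := by
  rw [d.hH] at hD
  obtain ⟨_, ⟨k0, -, rfl⟩, rfl⟩ := hD
  set N := f.range ⊓ centralizer (V : Set G)
  haveI hNn : N.Normal := inferInstance
  have hcop : (Nat.card X).Coprime (Nat.card N) := by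
    obtain ⟨n, hn⟩ := IsPGroup.iff_card.mp (isPGroup_of_elementary hX)
    rw [hn]
    refine Nat.Coprime.pow_left n (hq.out.coprime_iff_not_dvd.mpr fun h => hqK (h.trans ?_))
    refine (card_dvd_of_le inf_le_left).trans ?_
    rw [← Nat.card_congr (MonoidHom.ofInjective hf).toEquiv]
  haveI := hX.1
  have hsolv : Group.IsSolvable X ∨ Group.IsSolvable N :=
    Or.inl (Group.isSolvable_of_comm fun a b => hX.1.is_comm.comm a b)
  obtain ⟨c, hc', hcN⟩ := Coprime.exists_centralizer_mem_coset (A := X) (N := N) (k := f k0)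
    (by rw [normalizer_eq_top]; exact le_top) hcop hsolv (fun x hx => by
      have hk0 : f k0 ∈ f.range := ⟨k0, rfl⟩
      have h1 : (f k0)⁻¹ * (x * f k0 * x⁻¹) ∈ f.range := mul_mem (inv_mem hk0) (hN.conj_mem _ hk0 x)
      refine ⟨h1, (prj_eq_one_iff V).mp ?_⟩
      rw [map_mul, map_mul, map_mul, map_inv, map_inv, (hc _ (mem_map_of_mem _ hx)).eq, mul_inv_cancel_right,
        inv_mul_cancel])
  obtain ⟨k', hk'⟩ : c ∈ f.range := by
    have := mul_mem (⟨k0, rfl⟩ : f k0 ∈ f.range) hcN.1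
    rwa [mul_inv_cancel_left] at this
  refine ⟨k', hk'.symm ▸ hc', ?_⟩
  have h1 := (prj_eq_one_iff V).mpr hcN.2
  rw [map_mul, map_inv, inv_mul_eq_one] at h1
  rw [hk', ← h1]

theorem card_SL_dvd_two_three : p ∣ Nat.card SL(2, ZMod p) ∨ ¬ (p = 2 ∨ p = 3) := by
  by_cases h : p = 2 ∨ p = 3
  · left
    rcases h with h | h <;> subst h <;> rw [Nat.card_eq_fintype_card] <;> decide
  · exact Or.inr h

/-- S0620 in embedded form. -/
theorem generation (hf : Function.Injective f) [hN : f.range.Normal]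
    (hX : IsElementaryAbelian q X) (hqK : ¬ q ∣ Nat.card K₀) (hsep : IsPSolvable p K₀)
    (hO : pPrimeCore p K₀ = ⊥) (S : Sylow p K₀) :
    normalizer (thompsonSubgroupOf p (S : Subgroup K₀) : Set K₀) ⊔
      centralizer (omegaOne p ((S : Subgroup K₀) ⊓ centralizer ((S : Subgroup K₀) : Set K₀)) : Set K₀) ⊔
      (centralizer (X : Set G)).comap f = ⊤ := by
  obtain ⟨V, hVn, H, Kb, d⟩ := exists_opData (q := q) f hf X hsep hO
  set J₀ := thompsonSubgroup p K₀
  haveI : J₀.Characteristic := thompsonSubgroup_characteristic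
  set M := normalizer (thompsonSubgroupOf p (S : Subgroup K₀) : Set K₀) ⊔
      centralizer (omegaOne p ((S : Subgroup K₀) ⊓ centralizer ((S : Subgroup K₀) : Set K₀)) : Set K₀) ⊔
      (centralizer (X : Set G)).comap f
  have hSM : (S : Subgroup K₀) ≤ M := by
    refine le_trans ?_ (le_sup_left.trans le_sup_left)
    haveI : (thompsonSubgroup p (S : Subgroup K₀)).Characteristic := thompsonSubgroup_characteristic
    intro x hx
    refine mem_normalizer_fintype ?_
    rintro _ ⟨y, hy, rfl⟩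
    exact ⟨(⟨x, hx⟩ : (S : Subgroup K₀)) * y * ⟨x, hx⟩⁻¹,
      Normal.conj_mem inferInstance y hy _, rfl⟩
  have hCM : centralizer ((omegaSup p K₀ : Subgroup K₀) : Set K₀) ≤ M :=
    le_trans (centralizer_le (le_iSup (fun S : Sylow p K₀ =>
      omegaOne p ((S : Subgroup K₀) ⊓ centralizer ((S : Subgroup K₀) : Set K₀))) S))
      (le_sup_right.trans le_sup_left)
  set g : K₀ →* Mdl V := (prj V).comp f
  have hHg : H = J₀.map g := by rw [d.hH, Subgroup.map_map]
  set Mb := M.map g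
  have key : ∀ a, Trans p (iV V).range H a → fac Kb a ≤ Mb := by
    intro a t
    set F := fac Kb a
    set P := (S : Subgroup K₀).map g ⊓ H
    obtain ⟨P0, hP0⟩ := exists_sylow_inf_normal S J₀
    have hr : ¬ p ∣ P.relIndex H := by
      intro h
      refine P0.not_dvd_index (h.trans ?_)
      have h1 : ((S : Subgroup K₀) ⊓ J₀).map g ≤ P :=
        le_inf (map_mono inf_le_left) (hHg ▸ map_mono inf_le_right)
      refine (relIndex_dvd_of_le_left H h1).trans ?_
      rw [hHg]
      refine (PLength.relIndex_map_dvd g inf_le_right).trans (dvd_of_eq ?_)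
      rw [← hP0, relIndex, subgroupOf, comap_map_eq_self_of_injective J₀.subtype_injective]
    have hFn : P ≤ normalizer (F : Set (Mdl V)) := inf_le_right.trans (t.H_normalizes_fac d.s d.hgen)
    have hdvd : p ∣ Nat.card (P ⊓ F : Subgroup (Mdl V)) := by
      have h1 := Coprime.card_sup_mul_card_inf_of_le_normalizer (A := P) (N := F) hFn
      obtain ⟨u, hu⟩ := card_dvd_of_le (sup_le inf_le_right (t.fac_le d.s) : P ⊔ F ≤ H)
      have h2 : Nat.card P * P.relIndex H = Nat.card H := by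
        rw [relIndex, ← Coprime.card_subgroupOf (inf_le_right : P ≤ H)]; exact card_mul_index _
      have h3 : P.relIndex H * Nat.card (P ⊓ F : Subgroup (Mdl V)) = Nat.card F * u := by
        refine Nat.eq_of_mul_eq_mul_left (Nat.card_pos (α := P)) ?_
        calc Nat.card P * (P.relIndex H * Nat.card (P ⊓ F : Subgroup (Mdl V)))
            = (Nat.card (P ⊔ F : Subgroup (Mdl V)) * Nat.card (P ⊓ F : Subgroup (Mdl V))) * u := by
              rw [← mul_assoc, h2, hu]; ring
          _ = _ := by rw [h1]; ring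
      have h4 : p ∣ Nat.card F := ⟨Nat.card (F ⊓ Kb : Subgroup (Mdl V)), by rw [← t.fac_card_inf d.s]; ring⟩
      have h5 : p ∣ P.relIndex H * Nat.card (P ⊓ F : Subgroup (Mdl V)) := h3 ▸ Dvd.dvd.mul_right h4 u
      exact (hp.out.dvd_mul.mp h5).resolve_left hr
    obtain ⟨b, hb⟩ := exists_prime_orderOf_dvd_card' p hdvd
    have hbF : (b : Mdl V) ∈ F := b.2.2
    have hbM : (b : Mdl V) ∈ Mb := map_mono hSM b.2.1.1
    have hbp : (b : Mdl V) ^ p = 1 := by
      have h := pow_orderOf_eq_one b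
      rw [hb] at h
      exact congrArg Subtype.val h
    obtain ⟨dd, hpair, hFe, -⟩ := t.fac_pair d.s
    have hbK := hpair.le_sup (hFe.le hbF)
    rw [← SetLike.mem_coe, coe_mul_of_right_le_normalizer_left _ _
      ((zpowers_le.mpr t.mem).trans d.s.Knorm)] at hbK
    obtain ⟨k, hk, x, hx, hkx⟩ := hbK
    obtain ⟨n, rfl⟩ := mem_powers_iff_mem_zpowers.mpr hx
    replace hkx : k * a ^ n = (b : Mdl V) := hkx
    have hcong : (b : Mdl V) * (a ^ n)⁻¹ ∈ Kb := by rw [← hkx, mul_inv_cancel_right]; exact hk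
    have hn : (n : ZMod p) ≠ 0 := by
      intro h
      obtain ⟨m, rfl⟩ := (ZMod.natCast_eq_zero_iff n p).mp h
      rw [pow_mul, t.pow, one_pow, inv_one, mul_one] at hcong
      have h1 : orderOf (b : Mdl V) ∣ 1 := by
        rw [← d.s.Kcop.gcd_eq_one]
        exact Nat.dvd_gcd (Kb.orderOf_dvd_natCard hcong) (orderOf_dvd_of_pow_eq_one hbp)
      rw [Subgroup.orderOf_coe, hb] at h1
      exact hp.out.ne_one (Nat.dvd_one.mp h1)
    set j := ((n : ZMod p)⁻¹).val
    have haj : (a ^ n) ^ j = a := by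
      rw [← pow_mul]
      have h : ((n * j : ℕ) : ZMod p) = 1 := by
        rw [Nat.cast_mul, ZMod.natCast_rightInverse, mul_inv_cancel₀ hn]
      calc a ^ (n * j) = a ^ ((n * j) % p) := pow_eq_pow_mod _ t.pow
        _ = a := by
          have h' := congrArg ZMod.val h
          rw [ZMod.val_natCast, ZMod.val_one] at h'
          rw [h', pow_one]
    set c := (b : Mdl V) ^ j
    have hcF : c ∈ F := pow_mem hbF j
    have hcM : c ∈ Mb := pow_mem hbM j
    have hcp : c ^ p = 1 := by rw [← pow_mul, mul_comm, pow_mul, hbp, one_pow]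
    have hcK : c * a⁻¹ ∈ Kb := by
      have := pow_mul_inv_pow_mem d.s (t.fac_le d.s hbF) hcong j
      rwa [haj] at this
    obtain ⟨e, he, hce⟩ := t.exists_conj d.s hcF hcp hcK
    have heH := t.fac_le d.s he
    have tc : Trans p (iV V).range H c := hce ▸ t.conj d.s heH
    have hFc : fac Kb c = F := by
      ext x
      rw [hce, fac_conj_iff d.s t (d.s.norm heH) (le_normalizer heH) (d.s.Knorm heH)]
      exact ⟨fun h => by simpa [mul_assoc] using mul_mem (mul_mem he h) (inv_mem he),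
        fun h => mul_mem (mul_mem (inv_mem he) h) he⟩
    rw [← hFc]
    obtain ⟨Δ, -, hΔX, -, hΔH, hΔc⟩ := (d.sym hX hqK t).exists_diag d.s tc
    refine tc.fac_le_of d.s hcM fun e he => ?_
    refine ⟨Δ ⟨e, mem_sup_right he⟩, ?_, hΔc _ c (mem_sup_right (mem_fac Kb c))⟩
    obtain ⟨k, hk1, hk2⟩ := d.lift hf hX hqK (hΔH ⟨e, mem_sup_right he⟩ he) fun x hx => hΔX _ x hx
    exact ⟨k, mem_sup_right (mem_comap.mpr hk1), hk2⟩
  have hH : H ≤ Mb := d.s.le_of_trans d.hgen fun A hA => by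
    obtain ⟨a, rfl, t⟩ := d.s.min_trans hA
    exact le_sup_right.trans (key a t)
  have hJM : J₀ ≤ M := by
    intro j hj
    obtain ⟨m, hm, hme⟩ := hH (hHg ▸ mem_map_of_mem g hj)
    have h1 : m⁻¹ * j ∈ centralizer ((omegaSup p K₀ : Subgroup K₀) : Set K₀) := by
      have h : f (m⁻¹ * j) ∈ centralizer (V : Set G) := by
        rw [← prj_eq_one_iff V]
        show g (m⁻¹ * j) = 1
        rw [map_mul, map_inv, hme, inv_mul_cancel]
      rw [d.hV] at h
      exact (mem_centralizer_map_iff f hf _).mp h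
    have := mul_mem hm (hCM h1)
    rwa [mul_inv_cancel_left] at this
  obtain ⟨P0, hP0⟩ := exists_sylow_inf_normal S J₀
  have hfr := Sylow.normalizer_sup_eq_top P0
  rw [hP0] at hfr
  rw [eq_top_iff, ← hfr]
  refine sup_le ?_ hJM
  refine le_trans ?_ (le_sup_left.trans le_sup_left)
  obtain ⟨A, hA, hAS⟩ := exists_maxElementary_le_sylow S
  have hAJ : A ≤ (S : Subgroup K₀) ⊓ J₀ := le_inf hAS (le_sSup hA)
  have hJS : thompsonSubgroupOf p (S : Subgroup K₀) = thompsonSubgroupOf p ((S : Subgroup K₀) ⊓ J₀) := by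
    rw [thompsonSubgroupOf_eq hA hAS, thompsonSubgroupOf_eq hA hAJ]
    exact congrArg sSup (Set.ext fun B => ⟨fun h => ⟨h.1, le_inf h.2 (le_sSup h.1)⟩,
      fun h => ⟨h.1, h.2.trans inf_le_left⟩⟩)
  rw [hJS]
  intro x hx
  set P := (S : Subgroup K₀) ⊓ J₀
  refine mem_normalizer_fintype fun y hy => ?_
  rw [thompsonSubgroupOf_eq hA hAJ] at hy ⊢
  have hle : sSup {B | B ∈ maxElementaryAbelianSubgroups p K₀ ∧ B ≤ P} ≤
      (sSup {B | B ∈ maxElementaryAbelianSubgroups p K₀ ∧ B ≤ P}).comap (MulAut.conj x).toMonoidHom := by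
    refine sSup_le fun B hB => map_le_iff_le_comap.mp ?_
    refine le_sSup ⟨map_mem_maxElementary (MulAut.conj x) hB.1, ?_⟩
    rintro _ ⟨z, hz, rfl⟩
    exact (mem_normalizer_iff.mp hx z).mp (hB.2 hz)
  exact hle hy

/-- S0621 in embedded form. -/
theorem fixed_plane (hf : Function.Injective f) [hN : f.range.Normal]
    (hX : IsElementaryAbelian q X) (hqK : ¬ q ∣ Nat.card K₀) (hsep : IsPSolvable p K₀)
    (hO : pPrimeCore p K₀ = ⊥) (hnf : ¬ IsThompsonFactorizable p K₀) :
    (p = 2 ∨ p = 3) ∧ ∃ W D : Subgroup G, W ≤ f.range ⊓ centralizer (X : Set G) ∧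
      D ≤ f.range ⊓ centralizer (X : Set G) ∧ IsElementaryAbelian p W ∧ Nat.card W = p ^ 2 ∧
      D ≤ normalizer (W : Set G) ∧
      ∃ ψ : D →* SL(2, ZMod p), Function.Surjective ψ ∧ ∀ x : D, ψ x = 1 ↔ (x : G) ∈ centralizer (W : Set G) := by
  obtain ⟨V, hVn, H, Kb, d⟩ := exists_opData (q := q) f hf X hsep hO
  obtain ⟨A, hA⟩ : ∃ A, IsMin p (iV V).range H A := by
    by_contra h
    push Not at h
    refine hnf ((S0608.result hO).mpr fun j hj => ?_)
    have h1 : prj V (f j) = 1 := mem_bot.mp (d.s.le_of_trans d.hgen (fun A hA => absurd hA (h A))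
      (d.hH ▸ mem_map_of_mem _ (mem_map_of_mem f hj)))
    rw [prj_eq_one_iff, d.hV] at h1
    exact (mem_centralizer_map_iff f hf _).mp h1
  obtain ⟨a, -, t⟩ := d.s.min_trans hA
  refine ⟨t.fac_pcases d.s, ?_⟩
  set F := fac Kb a
  set Y := yfac (iV V).range Kb a
  obtain ⟨Δ, hΔi, hΔX, hΔV, hΔH, -⟩ := (d.sym hX hqK t).exists_diag d.s t
  set WV : Subgroup (Mdl V) := ((⁅(iV V).range, F⁆ : Subgroup (Mdl V)).subgroupOf Y).map Δ
  set DV : Subgroup (Mdl V) := (F.subgroupOf Y).map Δ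
  have hWVle : WV ≤ (iV V).range := by
    rintro _ ⟨y, hy, rfl⟩; exact hΔV y hy
  set W := (WV.comap (iV V)).map V.subtype
  set D := (f.range ⊓ centralizer (X : Set G)) ⊓ DV.comap (prj V)
  have hWW : ∀ v : V, (v : G) ∈ W ↔ iV V v ∈ WV := fun v =>
    ⟨fun h => by obtain ⟨v', hv', e⟩ := h; rwa [← Subtype.ext e], fun h => ⟨v, h, rfl⟩⟩
  have hWV' : W ≤ V := map_subtype_le _
  refine ⟨W, D, ?_, inf_le_left, isElementaryAbelian_le (d.hV ▸ isElementaryAbelian_map f
    (omegaSup_spec hsep hO).2.1) hWV', ?_, ?_, ?_⟩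
  · rintro _ ⟨v, hv, rfl⟩
    refine ⟨?_, mem_centralizer_iff.mpr fun x hx => ?_⟩
    · have : (v : G) ∈ (omegaSup p K₀).map f := d.hV ▸ v.2
      exact map_le_range _ _ this
    · obtain ⟨y, -, hy⟩ := hv
      exact ((commute_prj_iff V).mp (hy ▸ hΔX y _ (mem_map_of_mem _ hx))).eq
  · rw [card_map_of_injective V.subtype_injective]
    have e : (WV.comap (iV V)).map (iV V) = WV := map_comap_eq_self hWVle
    rw [← card_map_of_injective (f := iV V) SemidirectProduct.inl_injective, e,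
      card_map_of_injective hΔi, Coprime.card_subgroupOf le_sup_left]
    exact t.facW_card d.s
  · rintro g ⟨-, hg⟩
    obtain ⟨e, he, heg⟩ := hg
    refine mem_normalizer_fintype ?_
    rintro _ ⟨v, hv, rfl⟩
    refine (hWW (MulAut.conjNormal g v)).mpr ?_
    rw [← prj_conj, ← heg]
    obtain ⟨w, hw, hwe⟩ := hv
    rw [← hwe, ← map_inv, ← map_mul, ← map_mul]
    exact mem_map_of_mem Δ ((mem_normalizer_iff.mp (t.facW_norm d.s he) w).mp hw)
  · obtain ⟨i⟩ := t.fac_iso d.s
    let π1 : D →* DV := ((prj V).comp D.subtype).codRestrict DV fun x => x.2.2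
    let j : DV ≃* F := ((F.subgroupOf Y).equivMapOfInjective Δ hΔi).symm.trans
      (Subgroup.subgroupOfEquivOfLe le_sup_right)
    refine ⟨(j.trans i).toMonoidHom.comp π1, (j.trans i).surjective.comp ?_, fun x => ?_⟩
    · rintro ⟨y, hy⟩
      obtain ⟨e, he, rfl⟩ := hy
      obtain ⟨k, hk1, hk2⟩ := d.lift hf hX hqK (hΔH e he) fun x hx => hΔX e x hx
      refine ⟨⟨f k, ⟨⟨k, rfl⟩, hk1⟩, ?_⟩, Subtype.ext hk2⟩
      exact mem_comap.mpr (hk2.symm ▸ mem_map_of_mem Δ he)
    · rw [MonoidHom.comp_apply, MulEquiv.coe_toMonoidHom, MulEquiv.map_eq_one_iff, Subtype.ext_iff]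
      show prj V (x : G) = 1 ↔ _
      rw [prj_eq_one_iff]
      refine ⟨fun h => centralizer_le (SetLike.coe_subset_coe.mpr hWV') h, fun h => ?_⟩
      obtain ⟨e, he, heg⟩ := x.2.2
      have he1 : (e : Mdl V) = 1 := by
        refine t.fac_faithful d.s (t.fac_le d.s he) (fun c hc => (mem_fixV.mp hc).2 _ he) fun w hw => ?_
        obtain ⟨v, hv⟩ := hΔV ⟨w, mem_sup_left hw⟩ hw
        have hcom : Commute (x : G) v := (mem_centralizer_iff.mp h v
          ((hWW v).mpr (hv ▸ mem_map_of_mem Δ hw))).symm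
        have h2 : Commute (prj V (x : G)) (iV V v) := (commute_prj_iff V).mpr hcom
        rw [← heg, hv] at h2
        exact congrArg Subtype.val (hΔi (a₁ := e * ⟨w, mem_sup_left hw⟩) (a₂ := ⟨w, mem_sup_left hw⟩ * e)
          (by rw [map_mul, map_mul]; exact h2.eq))
      rw [← prj_eq_one_iff V, ← heg, show e = 1 from Subtype.ext he1, map_one]

end Embedded

end Cfsg.Agent.Lib.Offender
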