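import Cfsg.Agent.Lib.Offender.Transvection

/-!
A non-commuting congruent pair of transvections generates SL(2,p) on a plane.
-/

set_option autoImplicit false
open Subgroup
open scoped commutatorElement MatrixGroups

namespace Cfsg.Agent.Lib.Offender

open Cfsg Cfsg.Agent.Lib.Thompson

variable {G : Type*} [Group G] [Finite G] {p : ℕ} [hp : Fact p.Prime] {V H K : Subgroup G}

theorem Setting.mul_conj_mem_K (s : Setting p V H K) {g k : G} (hg : g ∈ H) (hk : k ∈ K) :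
    g * k * g⁻¹ ∈ K := (mem_normalizer_iff.mp (s.Knorm hg) k).mp hk

/-- If the centre of `a` is fixed by the congruent transvection `d`, they commute. -/
theorem Setting.commute_of_cen_le (s : Setting p V H K) {a d : G} (ta : Trans p V H a) (td : Trans p V H d)
    (hK : d * a⁻¹ ∈ K) (hle : cen V a ≤ fixV V (zpowers d)) : Commute a d := by
  have hu : ⁅a, d⁆ ∈ K := by
    have e : ⁅a, d⁆ = (a * (d * a⁻¹) * a⁻¹) * (d * a⁻¹)⁻¹ := by simp only [commutatorElement_def]; group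
    rw [e]
    exact mul_mem (s.mul_conj_mem_K ta.mem hK) (inv_mem hK)
  have huH : ⁅a, d⁆ ∈ H := s.Kle hu
  have hfixu : ∀ x ∈ cen V a, Commute ⁅a, d⁆ x := by
    intro x hx
    have h1 := (mem_fix_zpowers.mp (ta.cen_le_fix s hx)).2
    have h2 := (mem_fix_zpowers.mp (hle hx)).2
    exact ((h1.mul_left h2).mul_left h1.inv_left).mul_left h2.inv_left
  have hcu : ∀ v ∈ V, ⁅⁅a, d⁆, v⁆ ∈ cen V a := by
    intro v hv
    set w := (d * a)⁻¹ * v * (d * a) with hw
    have hwV : w ∈ V := by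
      have := s.conj_mem_V (inv_mem (mul_mem td.mem ta.mem)) hv
      rwa [inv_inv] at this
    have e : ⁅⁅a, d⁆, v⁆ = ⁅a, ⁅d, w⁆⁆ := by
      have hv' : v = (d * a) * w * (d * a)⁻¹ := by rw [hw]; group
      have l : ⁅a, d⁆ * v * ⁅a, d⁆⁻¹ = ⁅a, ⁅d, w⁆⁆ * ⁅d, w⁆ * (⁅a, w⁆ * w) := by
        rw [hv']; simp only [commutatorElement_def]; group
      have r : v = ⁅a, w⁆ * (⁅d, w⁆ * w) := by
        rw [hv']
        have h2 := (mem_fix_zpowers.mp (hle (ta.comm_mem_cen s hwV))).2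
        calc d * a * w * (d * a)⁻¹ = (d * ⁅a, w⁆ * d⁻¹) * (d * w * d⁻¹) := by
              simp only [commutatorElement_def]; group
          _ = _ := by rw [h2.eq, mul_inv_cancel_right, conj_eq_comm_mul]
      rw [commutatorElement_def ⁅a, d⁆ v, l]
      conv_lhs => arg 2; rw [r]
      rw [← mul_assoc ⁅a, w⁆ ⁅d, w⁆ w, s.vcomm (s.comm_mem_V ta.mem hwV) (s.comm_mem_V td.mem hwV)]
      group
    rw [e]
    exact ta.comm_mem_cen s (s.comm_mem_V td.mem hwV)
  have hau : Commute a ⁅a, d⁆ := s.commute_of_fix ta.mem huH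
    (fun v hv => (mem_fix_zpowers.mp (ta.cen_le_fix s (hcu v hv))).2)
    (fun v hv => hfixu _ (ta.comm_mem_cen s hv))
  have hpow : ∀ n : ℕ, a ^ n * d * (a ^ n)⁻¹ = ⁅a, d⁆ ^ n * d := by
    intro n
    induction n with
    | zero => simp
    | succ n ih =>
      calc a ^ (n + 1) * d * (a ^ (n + 1))⁻¹ = a * (a ^ n * d * (a ^ n)⁻¹) * a⁻¹ := by
            rw [pow_succ']; group
        _ = (a * ⁅a, d⁆ ^ n * a⁻¹) * (a * d * a⁻¹) := by rw [ih]; group
        _ = _ := by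
          rw [(hau.pow_right n).eq, mul_inv_cancel_right, conj_eq_comm_mul a d, ← mul_assoc, ← pow_succ]
  have h := hpow p
  rw [ta.pow, one_mul, inv_one, mul_one] at h
  have h1 : orderOf ⁅a, d⁆ ∣ 1 := by
    rw [← s.Kcop.gcd_eq_one]
    exact Nat.dvd_gcd (K.orderOf_dvd_natCard hu) (orderOf_dvd_of_pow_eq_one (mul_eq_right.mp h.symm))
  exact commutatorElement_eq_one_iff_commute.mp (orderOf_eq_one_iff.mp (Nat.dvd_one.mp h1))

/-- A non-commuting congruent pair of transvections. -/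
structure Pair (p : ℕ) {G : Type*} [Group G] (V H K : Subgroup G) (a d : G) : Prop where
  ta : Trans p V H a
  td : Trans p V H d
  cong : d * a⁻¹ ∈ K
  ncomm : ¬ Commute a d

/-- The group generated by a pair. -/
abbrev gen₂ (a d : G) : Subgroup G := zpowers a ⊔ zpowers d

/-- The plane of a pair. -/
abbrev plane (V : Subgroup G) (a d : G) : Subgroup G := cen V a ⊔ cen V d

omit [Finite G] hp in
theorem mem_gen₂_left (a d : G) : a ∈ gen₂ a d := mem_sup_left (mem_zpowers a)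

omit [Finite G] hp in
theorem mem_gen₂_right (a d : G) : d ∈ gen₂ a d := mem_sup_right (mem_zpowers d)

variable {a d : G}

theorem Pair.symm (h : Pair p V H K a d) : Pair p V H K d a where
  ta := h.td
  td := h.ta
  cong := by have := inv_mem h.cong; rwa [mul_inv_rev, inv_inv] at this
  ncomm := fun hc => h.ncomm hc.symm

theorem Pair.le (h : Pair p V H K a d) : gen₂ a d ≤ H :=
  sup_le (zpowers_le.mpr h.ta.mem) (zpowers_le.mpr h.td.mem)

theorem Pair.disj_cen (h : Pair p V H K a d) (s : Setting p V H K) :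
    cen V a ⊓ fixV V (zpowers d) = ⊥ := by
  rcases (Nat.dvd_prime hp.out).mp (h.ta.card_cen s ▸ card_dvd_of_le
    (inf_le_left : cen V a ⊓ fixV V (zpowers d) ≤ cen V a)) with e | e
  · exact card_eq_one.mp e
  · exact absurd (s.commute_of_cen_le h.ta h.td h.cong
      (inf_eq_left.mp (eq_of_le_of_card_ge inf_le_left (by rw [e, h.ta.card_cen s])))) h.ncomm

theorem Pair.plane_le_V (h : Pair p V H K a d) (s : Setting p V H K) : plane V a d ≤ V :=
  sup_le (h.ta.cen_le_V s) (h.td.cen_le_V s)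

theorem Pair.card_plane (h : Pair p V H K a d) (s : Setting p V H K) : Nat.card (plane V a d) = p ^ 2 := by
  rw [card_sup_of_comm ?_ (fun x hx y hy => s.vcomm (h.ta.cen_le_V s hx) (h.td.cen_le_V s hy)),
    h.ta.card_cen s, h.td.card_cen s, sq]
  rw [eq_bot_iff, ← h.disj_cen s]
  exact inf_le_inf_left _ (h.td.cen_le_fix s)

theorem Pair.mem_plane (h : Pair p V H K a d) (s : Setting p V H K) {w : G} (hw : w ∈ plane V a d) :
    ∃ x ∈ cen V a, ∃ y ∈ cen V d, x * y = w := by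
  rw [plane, ← SetLike.mem_coe, coe_mul_of_right_le_normalizer_left _ _ (fun y hy =>
    centralizer_le_normalizer _ (mem_centralizer_iff.mpr fun x hx =>
      s.vcomm (h.ta.cen_le_V s hx) (h.td.cen_le_V s hy)))] at hw
  obtain ⟨x, hx, y, hy, e⟩ := hw
  exact ⟨x, hx, y, hy, e⟩

theorem Pair.plane_inf_fix (h : Pair p V H K a d) (s : Setting p V H K) :
    plane V a d ⊓ fixV V (gen₂ a d) = ⊥ := by
  rw [eq_bot_iff]
  rintro w ⟨hw, hwC⟩
  obtain ⟨x, hx, y, hy, rfl⟩ := h.mem_plane s hw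
  obtain ⟨-, hfix⟩ := mem_fixV.mp hwC
  have hxa := (mem_fix_zpowers.mp (h.ta.cen_le_fix s hx)).2
  have hyd := (mem_fix_zpowers.mp (h.td.cen_le_fix s hy)).2
  have hy1 : y = 1 := by
    have hc : Commute a y := by simpa using hxa.inv_right.mul_right (hfix a (mem_gen₂_left a d))
    have hm : y ∈ cen V d ⊓ fixV V (zpowers a) := ⟨hy, mem_fix_zpowers.mpr ⟨h.td.cen_le_V s hy, hc⟩⟩
    rwa [h.symm.disj_cen s, mem_bot] at hm
  have hx1 : x = 1 := by
    have hc : Commute d x := by simpa [hy1] using hfix d (mem_gen₂_right a d)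
    have hm : x ∈ cen V a ⊓ fixV V (zpowers d) := ⟨hx, mem_fix_zpowers.mpr ⟨h.ta.cen_le_V s hx, hc⟩⟩
    rwa [h.disj_cen s, mem_bot] at hm
  simp [hx1, hy1]

theorem Pair.plane_sup_fix (h : Pair p V H K a d) (s : Setting p V H K) :
    plane V a d ⊔ fixV V (gen₂ a d) = V := by
  refine eq_of_le_of_card_ge (sup_le (h.plane_le_V s) inf_le_left) ?_
  rw [card_sup_of_comm (h.plane_inf_fix s) (fun x hx y hy => s.vcomm (h.plane_le_V s hx) hy.1),
    h.card_plane s, gen₂, fixV_sup]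
  have h1 : (fixV V (zpowers a) ⊓ fixV V (zpowers d)).relIndex V ≤ p ^ 2 := by
    refine relIndex_inf_le.trans ?_
    rw [h.ta.idx, h.td.idx, sq]
  have hle : fixV V (zpowers a) ⊓ fixV V (zpowers d) ≤ V := inf_le_left.trans inf_le_left
  have h2 : Nat.card (fixV V (zpowers a) ⊓ fixV V (zpowers d) : Subgroup G) *
      (fixV V (zpowers a) ⊓ fixV V (zpowers d)).relIndex V = Nat.card V := by
    rw [relIndex, ← Coprime.card_subgroupOf hle]
    exact card_mul_index _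
  rw [← h2, mul_comm]
  exact Nat.mul_le_mul_right _ h1

theorem Pair.normalizes_plane (h : Pair p V H K a d) (s : Setting p V H K) :
    gen₂ a d ≤ normalizer (plane V a d : Set G) := by
  have key : ∀ a d : G, Pair p V H K a d → a ∈ normalizer (plane V a d : Set G) := by
    intro a d h
    refine mem_normalizer_fintype fun w hw => ?_
    rw [conj_eq_comm_mul]
    exact mul_mem (mem_sup_left (h.ta.comm_mem_cen s (h.plane_le_V s hw))) hw
  refine sup_le (zpowers_le.mpr (key a d h)) (zpowers_le.mpr ?_)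
  have := key d a h.symm
  rwa [plane, sup_comm] at this

theorem mem_sup_abelian (s : Setting p V H K) {A B : Subgroup G} (hA : A ≤ V) (hB : B ≤ V) {v : G}
    (hv : v ∈ A ⊔ B) : ∃ x ∈ A, ∃ y ∈ B, x * y = v := by
  rw [← SetLike.mem_coe, coe_mul_of_right_le_normalizer_left _ _ (fun y hy =>
    centralizer_le_normalizer _ (mem_centralizer_iff.mpr fun x hx => s.vcomm (hA hx) (hB hy)))] at hv
  obtain ⟨x, hx, y, hy, e⟩ := hv
  exact ⟨x, hx, y, hy, e⟩

theorem Pair.commutator_eq (h : Pair p V H K a d) (s : Setting p V H K) :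
    ⁅V, gen₂ a d⁆ = plane V a d := by
  refine le_antisymm ?_ (sup_le (commutator_mono le_rfl le_sup_left) (commutator_mono le_rfl le_sup_right))
  refine commutator_le.mpr fun v hv g hg => ?_
  rw [← h.plane_sup_fix s] at hv
  obtain ⟨w, hw, c, hc, rfl⟩ := mem_sup_abelian s (h.plane_le_V s) inf_le_left hv
  have hcg : Commute g c := (mem_fixV.mp hc).2 g hg
  have hgw : g * w⁻¹ * g⁻¹ ∈ plane V a d := (mem_normalizer_iff.mp (h.normalizes_plane s hg) _).mp (inv_mem hw)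
  have e : ⁅w * c, g⁆ = w * (g * w⁻¹ * g⁻¹) := by
    calc ⁅w * c, g⁆ = w * (c * g * c⁻¹) * w⁻¹ * g⁻¹ := by simp only [commutatorElement_def]; group
      _ = _ := by rw [← hcg.eq, mul_inv_cancel_right]; group
  rw [e]
  exact mul_mem hw hgw

theorem Pair.faithful (h : Pair p V H K a d) (s : Setting p V H K) {g : G} (hg : g ∈ H)
    (hC : ∀ c ∈ fixV V (gen₂ a d), Commute g c) (hW : ∀ w ∈ plane V a d, Commute g w) : g = 1 := by
  refine s.eq_one_of_fix hg fun v hv => ?_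
  rw [← h.plane_sup_fix s] at hv
  obtain ⟨w, hw, c, hc, rfl⟩ := mem_sup_abelian s (h.plane_le_V s) inf_le_left hv
  exact (hW w hw).mul_right (hC c hc)

/-- Coordinates on the plane of a pair. -/
structure Coord (p : ℕ) {G : Type*} [Group G] (V : Subgroup G) (a d e1 e2 : G) : Prop where
  m1 : e1 ∈ cen V a
  n1 : e1 ≠ 1
  m2 : e2 ∈ cen V d
  n2 : e2 ≠ 1

theorem Pair.exists_coord (h : Pair p V H K a d) (s : Setting p V H K) :
    ∃ e1 e2, Coord p V a d e1 e2 := by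
  obtain ⟨e1, m1, n1⟩ := h.ta.exists_cen_ne s
  obtain ⟨e2, m2, n2⟩ := h.td.exists_cen_ne s
  exact ⟨e1, e2, m1, n1, m2, n2⟩

variable {e1 e2 : G}

theorem Coord.mem_V (c : Coord p V a d e1 e2) (h : Pair p V H K a d) (s : Setting p V H K) :
    e1 ∈ V ∧ e2 ∈ V := ⟨h.ta.cen_le_V s c.m1, h.td.cen_le_V s c.m2⟩

theorem Coord.cmb_mem (c : Coord p V a d e1 e2) (v : Fin 2 → ZMod p) : cmb e1 e2 v ∈ plane V a d :=
  mul_mem (mem_sup_left (pow_mem c.m1 _)) (mem_sup_right (pow_mem c.m2 _))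

omit [Finite G] in
theorem cmb_one_zero (e1 e2 : G) : cmb e1 e2 (![1, 0] : Fin 2 → ZMod p) = e1 := by
  simp [cmb, pe_one, pe_zero]

omit [Finite G] in
theorem cmb_zero_one (e1 e2 : G) : cmb e1 e2 (![0, 1] : Fin 2 → ZMod p) = e2 := by
  simp [cmb, pe_one, pe_zero]

theorem Coord.cmb_add (c : Coord p V a d e1 e2) (h : Pair p V H K a d) (s : Setting p V H K)
    (v w : Fin 2 → ZMod p) : cmb e1 e2 (v + w) = cmb e1 e2 v * cmb e1 e2 w := by
  obtain ⟨v1, v2⟩ := c.mem_V h s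
  simp only [cmb, Pi.add_apply, pe_add (s.elemV.2 _ v1), pe_add (s.elemV.2 _ v2)]
  have hcm : Commute (pe e1 (w 0)) (pe e2 (v 1)) := s.vcomm (pow_mem v1 _) (pow_mem v2 _)
  rw [mul_assoc, mul_assoc, ← mul_assoc (pe e1 (w 0)), hcm.eq, mul_assoc]

theorem Coord.cmb_smul (c : Coord p V a d e1 e2) (h : Pair p V H K a d) (s : Setting p V H K)
    (v : Fin 2 → ZMod p) (i : ZMod p) : pe (cmb e1 e2 v) i = cmb e1 e2 (i • v) := by
  obtain ⟨v1, v2⟩ := c.mem_V h s
  simp only [cmb, Pi.smul_apply, smul_eq_mul]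
  rw [mul_comm i, mul_comm i, pe_mul (s.elemV.2 _ v1), pe_mul (s.elemV.2 _ v2), pe,
    (show Commute (pe e1 (v 0)) (pe e2 (v 1)) from s.vcomm (pow_mem v1 _) (pow_mem v2 _)).mul_pow]

theorem Coord.cmb_inj (c : Coord p V a d e1 e2) (h : Pair p V H K a d) (s : Setting p V H K)
    {v w : Fin 2 → ZMod p} (e : cmb e1 e2 v = cmb e1 e2 w) : v = w := by
  obtain ⟨v1, v2⟩ := c.mem_V h s
  have h0 : cmb e1 e2 (v - w) = 1 := by
    have := c.cmb_add h s (v - w) w
    rw [sub_add_cancel, e] at this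
    exact mul_eq_right.mp this.symm
  have hz : ∀ (x : G) (i : ZMod p), x ∈ V → x ≠ 1 → pe x i = 1 → i = 0 := by
    intro x i hx hx1 hi
    have := orderOf_dvd_of_pow_eq_one hi
    rw [orderOf_eq_prime (s.elemV.2 x hx) hx1] at this
    exact (ZMod.val_eq_zero i).mp (Nat.eq_zero_of_dvd_of_lt this (ZMod.val_lt i))
  have hm : pe e1 ((v - w) 0) ∈ cen V a ⊓ fixV V (zpowers d) := by
    refine ⟨pow_mem c.m1 _, ?_⟩
    rw [show pe e1 ((v - w) 0) = (pe e2 ((v - w) 1))⁻¹ from mul_eq_one_iff_eq_inv.mp h0]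
    exact h.td.cen_le_fix s (inv_mem (pow_mem c.m2 _))
  rw [h.disj_cen s, mem_bot] at hm
  have h1 := hz e1 _ v1 c.n1 hm
  have h2 : pe e2 ((v - w) 1) = 1 := by
    have := h0
    rwa [cmb, hm, one_mul] at this
  have h3 := hz e2 _ v2 c.n2 h2
  funext i
  exact sub_eq_zero.mp (by fin_cases i <;> assumption)

theorem Coord.exists_cmb (c : Coord p V a d e1 e2) (h : Pair p V H K a d) (s : Setting p V H K) {w : G}
    (hw : w ∈ plane V a d) : ∃ v : Fin 2 → ZMod p, cmb e1 e2 v = w := by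
  obtain ⟨x, hx, y, hy, rfl⟩ := h.mem_plane s hw
  obtain ⟨v1, v2⟩ := c.mem_V h s
  rw [cen_eq_zpowers s h.ta c.m1 c.n1] at hx
  rw [cen_eq_zpowers s h.td c.m2 c.n2] at hy
  obtain ⟨i, rfl⟩ := exists_pe (s.elemV.2 _ v1) hx
  obtain ⟨j, rfl⟩ := exists_pe (s.elemV.2 _ v2) hy
  exact ⟨![i, j], by simp [cmb]⟩

omit [Finite G] in
theorem conj_pe (g x : G) (i : ZMod p) : g * pe x i * g⁻¹ = pe (g * x * g⁻¹) i := (conj_pow).symm

theorem Coord.rel_of_basis (c : Coord p V a d e1 e2) (h : Pair p V H K a d) (s : Setting p V H K) {g : G}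
    {m : SL(2, ZMod p)} (h1 : g * e1 * g⁻¹ = cmb e1 e2 ((m : Matrix _ _ (ZMod p)).mulVec ![1, 0]))
    (h2 : g * e2 * g⁻¹ = cmb e1 e2 ((m : Matrix _ _ (ZMod p)).mulVec ![0, 1])) : Rel e1 e2 g m := by
  intro v
  calc g * cmb e1 e2 v * g⁻¹ = (g * pe e1 (v 0) * g⁻¹) * (g * pe e2 (v 1) * g⁻¹) := by
        rw [cmb]; group
    _ = cmb e1 e2 (v 0 • (m : Matrix _ _ (ZMod p)).mulVec ![1, 0] +
          v 1 • (m : Matrix _ _ (ZMod p)).mulVec ![0, 1]) := by
        rw [conj_pe, conj_pe, h1, h2, c.cmb_smul h s, c.cmb_smul h s, c.cmb_add h s]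
    _ = _ := by
        congr 1
        funext i
        fin_cases i <;> simp [Matrix.mulVec, dotProduct, Fin.sum_univ_two] <;> ring

omit [Finite G] hp in
theorem rel_one (e1 e2 : G) : Rel (p := p) e1 e2 1 1 := fun v => by simp

theorem Rel.mul {g g' : G} {m m' : SL(2, ZMod p)} (hg : Rel e1 e2 g m) (hg' : Rel e1 e2 g' m') :
    Rel e1 e2 (g * g') (m * m') := by
  intro v
  calc g * g' * cmb e1 e2 v * (g * g')⁻¹ = g * (g' * cmb e1 e2 v * g'⁻¹) * g⁻¹ := by group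
    _ = _ := by rw [hg' v, hg, Matrix.SpecialLinearGroup.coe_mul, Matrix.mulVec_mulVec]

theorem Rel.inv {g : G} {m : SL(2, ZMod p)} (hg : Rel e1 e2 g m) : Rel e1 e2 g⁻¹ m⁻¹ := by
  intro v
  have := hg (((m⁻¹ : SL(2, ZMod p)) : Matrix _ _ (ZMod p)).mulVec v)
  rw [Matrix.mulVec_mulVec, ← Matrix.SpecialLinearGroup.coe_mul, mul_inv_cancel,
    Matrix.SpecialLinearGroup.coe_one, Matrix.one_mulVec] at this
  rw [← this]
  group

theorem Coord.rel_unique (c : Coord p V a d e1 e2) (h : Pair p V H K a d) (s : Setting p V H K) {g : G}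
    {m m' : SL(2, ZMod p)} (hm : Rel e1 e2 g m) (hm' : Rel e1 e2 g m') : m = m' := by
  refine Subtype.ext (Matrix.ext_of_mulVec_single fun i => ?_)
  exact c.cmb_inj h s ((hm _).symm.trans (hm' _))

theorem Coord.rel_inj (c : Coord p V a d e1 e2) (h : Pair p V H K a d) (s : Setting p V H K) {g g' : G}
    {m : SL(2, ZMod p)} (hg : g ∈ H) (hg' : g' ∈ H) (hm : Rel e1 e2 g m) (hm' : Rel e1 e2 g' m)
    (hC : ∀ x ∈ fixV V (gen₂ a d), Commute g x) (hC' : ∀ x ∈ fixV V (gen₂ a d), Commute g' x) : g = g' := by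
  refine inv_mul_eq_one.mp (h.faithful s (g := g⁻¹ * g') (mul_mem (inv_mem hg) hg')
    (fun x hx => (hC x hx).inv_left.mul_left (hC' x hx)) fun w hw => ?_)
  obtain ⟨v, rfl⟩ := c.exists_cmb h s hw
  have := (hm.inv.mul hm') v
  rw [inv_mul_cancel, Matrix.SpecialLinearGroup.coe_one, Matrix.one_mulVec] at this
  exact mul_inv_eq_iff_eq_mul.mp this

/-- Upper transvection. -/
abbrev up (t : ZMod p) : SL(2, ZMod p) :=
  Matrix.SpecialLinearGroup.transvection (by decide : (0 : Fin 2) ≠ 1) t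

/-- Lower transvection. -/
abbrev dn (t : ZMod p) : SL(2, ZMod p) :=
  Matrix.SpecialLinearGroup.transvection (by decide : (1 : Fin 2) ≠ 0) t

theorem up_mulVec (t : ZMod p) (v : Fin 2 → ZMod p) :
    (up t : Matrix _ _ (ZMod p)).mulVec v = ![v 0 + t * v 1, v 1] := by
  funext i
  fin_cases i <;> simp [Matrix.SpecialLinearGroup.transvection_coe, Matrix.mulVec, dotProduct,
    Fin.sum_univ_two, Matrix.one_apply, Matrix.single_apply]

theorem dn_mulVec (t : ZMod p) (v : Fin 2 → ZMod p) :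
    (dn t : Matrix _ _ (ZMod p)).mulVec v = ![v 0, v 1 + t * v 0] := by
  funext i
  fin_cases i <;> simp [Matrix.SpecialLinearGroup.transvection_coe, Matrix.mulVec, dotProduct,
    Fin.sum_univ_two, Matrix.one_apply, Matrix.single_apply, add_comm]

theorem Coord.rel_a (c : Coord p V a d e1 e2) (h : Pair p V H K a d) (s : Setting p V H K) :
    ∃ t : ZMod p, t ≠ 0 ∧ Rel e1 e2 a (up t) := by
  obtain ⟨v1, v2⟩ := c.mem_V h s
  have hfix : a * e1 * a⁻¹ = e1 := by
    rw [((mem_fix_zpowers.mp (h.ta.cen_le_fix s c.m1)).2).eq, mul_inv_cancel_right]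
  obtain ⟨t, ht⟩ : ∃ t : ZMod p, pe e1 t = ⁅a, e2⁆ :=
    exists_pe (s.elemV.2 _ v1) (cen_eq_zpowers s h.ta c.m1 c.n1 ▸ h.ta.comm_mem_cen s v2)
  refine ⟨t, fun ht0 => ?_, c.rel_of_basis h s ?_ ?_⟩
  · rw [ht0, pe_zero, eq_comm, commutatorElement_eq_one_iff_commute] at ht
    have hm : e2 ∈ cen V d ⊓ fixV V (zpowers a) := ⟨c.m2, mem_fix_zpowers.mpr ⟨v2, ht⟩⟩
    rw [h.symm.disj_cen s, mem_bot] at hm
    exact c.n2 hm
  · rw [hfix, up_mulVec]; simp [cmb, pe_one, pe_zero]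
  · rw [conj_eq_comm_mul, ← ht, up_mulVec]; simp [cmb, pe_one]

theorem Coord.rel_d (c : Coord p V a d e1 e2) (h : Pair p V H K a d) (s : Setting p V H K) :
    ∃ t : ZMod p, t ≠ 0 ∧ Rel e1 e2 d (dn t) := by
  obtain ⟨v1, v2⟩ := c.mem_V h s
  have hfix : d * e2 * d⁻¹ = e2 := by
    rw [((mem_fix_zpowers.mp (h.td.cen_le_fix s c.m2)).2).eq, mul_inv_cancel_right]
  obtain ⟨t, ht⟩ : ∃ t : ZMod p, pe e2 t = ⁅d, e1⁆ :=
    exists_pe (s.elemV.2 _ v2) (cen_eq_zpowers s h.td c.m2 c.n2 ▸ h.td.comm_mem_cen s v1)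
  refine ⟨t, fun ht0 => ?_, c.rel_of_basis h s ?_ ?_⟩
  · rw [ht0, pe_zero, eq_comm, commutatorElement_eq_one_iff_commute] at ht
    have hm : e1 ∈ cen V a ⊓ fixV V (zpowers d) := ⟨c.m1, mem_fix_zpowers.mpr ⟨v1, ht⟩⟩
    rw [h.disj_cen s, mem_bot] at hm
    exact c.n1 hm
  · rw [conj_eq_comm_mul, ← ht, dn_mulVec, s.vcomm (show pe e2 t ∈ V from pow_mem v2 _) v1]; simp [cmb, pe_one]
  · rw [hfix, dn_mulVec]; simp [cmb, pe_one, pe_zero]

theorem Coord.exists_rel (c : Coord p V a d e1 e2) (h : Pair p V H K a d) (s : Setting p V H K)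
    (m : SL(2, ZMod p)) : ∃ g ∈ gen₂ a d, Rel e1 e2 g m := by
  have hmul : ∀ m m' : SL(2, ZMod p), (∃ g ∈ gen₂ a d, Rel e1 e2 g m) → (∃ g ∈ gen₂ a d, Rel e1 e2 g m') →
      ∃ g ∈ gen₂ a d, Rel e1 e2 g (m * m') := fun m m' ⟨g, hg, r⟩ ⟨g', hg', r'⟩ =>
    ⟨g * g', mul_mem hg hg', r.mul r'⟩
  have hpow : ∀ (m : SL(2, ZMod p)), (∃ g ∈ gen₂ a d, Rel e1 e2 g m) → ∀ n : ℕ,
      ∃ g ∈ gen₂ a d, Rel e1 e2 g (m ^ n) := by
    intro m hm n
    induction n with
    | zero => exact ⟨1, one_mem _, by rw [pow_zero]; exact rel_one e1 e2⟩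
    | succ n ih => rw [pow_succ]; exact hmul _ _ ih hm
  refine Cfsg.Agent.Lib.Classical.SL_transvection_induction _ ⟨1, one_mem _, rel_one e1 e2⟩ ?_ hmul m
  intro i j hij t
  have hnat : ∀ (i j : Fin 2) (hij : i ≠ j) (u : ZMod p) (n : ℕ),
      (Matrix.SpecialLinearGroup.transvection hij u : SL(2, ZMod p)) ^ n =
        Matrix.SpecialLinearGroup.transvection hij (n * u) := by
    intro i j hij u n
    induction n with
    | zero =>
      rw [pow_zero, Nat.cast_zero, zero_mul]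
      exact Subtype.ext (by simp [Matrix.SpecialLinearGroup.transvection_coe])
    | succ n ih =>
      rw [pow_succ, ih]
      refine Subtype.ext ?_
      simp [Matrix.SpecialLinearGroup.transvection_coe, mul_add, add_mul,
        Matrix.single_mul_single_of_ne _ _ _ _ hij.symm, ← Matrix.single_add, add_assoc]
  have scale : ∀ (i j : Fin 2) (hij : i ≠ j) (u : ZMod p), u ≠ 0 → ∀ t : ZMod p,
      (∃ g ∈ gen₂ a d, Rel e1 e2 g (Matrix.SpecialLinearGroup.transvection hij u)) →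
      ∃ g ∈ gen₂ a d, Rel e1 e2 g (Matrix.SpecialLinearGroup.transvection hij t) := by
    intro i j hij u hu t hm
    have := hpow _ hm (t * u⁻¹).val
    rwa [hnat, ZMod.natCast_rightInverse, mul_assoc, inv_mul_cancel₀ hu, mul_one] at this
  obtain ⟨ta, hta, ra⟩ := c.rel_a h s
  obtain ⟨td, htd, rd⟩ := c.rel_d h s
  fin_cases i <;> fin_cases j
  · exact absurd rfl hij
  · exact scale 0 1 (by decide) ta hta t ⟨a, mem_gen₂_left a d, ra⟩
  · exact scale 1 0 (by decide) td htd t ⟨d, mem_gen₂_right a d, rd⟩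
  · exact absurd rfl hij

theorem Coord.exists_mat (c : Coord p V a d e1 e2) (h : Pair p V H K a d) (s : Setting p V H K) {g : G}
    (hg : g ∈ gen₂ a d) : ∃ m : SL(2, ZMod p), Rel e1 e2 g m := by
  obtain ⟨ta, -, ra⟩ := c.rel_a h s
  obtain ⟨td, -, rd⟩ := c.rel_d h s
  rw [gen₂, zpowers_eq_closure, zpowers_eq_closure, ← Subgroup.closure_union] at hg
  induction hg using closure_induction with
  | mem x hx =>
    rcases hx with hx | hx
    · rw [Set.mem_singleton_iff.mp hx]; exact ⟨_, ra⟩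
    · rw [Set.mem_singleton_iff.mp hx]; exact ⟨_, rd⟩
  | one => exact ⟨1, rel_one e1 e2⟩
  | mul x y _ _ hx hy =>
    obtain ⟨m, hm⟩ := hx
    obtain ⟨m', hm'⟩ := hy
    exact ⟨_, hm.mul hm'⟩
  | inv x _ hx =>
    obtain ⟨m, hm⟩ := hx
    exact ⟨_, hm.inv⟩

theorem Pair.iso (h : Pair p V H K a d) (s : Setting p V H K) :
    Nonempty (gen₂ a d ≃* SL(2, ZMod p)) := by
  obtain ⟨e1, e2, c⟩ := h.exists_coord s
  choose f hf hr using fun g : gen₂ a d => (⟨_, g.2, c.exists_mat h s g.2⟩ :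
    ∃ x, x ∈ gen₂ a d ∧ ∃ m : SL(2, ZMod p), Rel e1 e2 (g : G) m)
  choose φ hφ using hr
  have hfix : ∀ g ∈ gen₂ a d, ∀ x ∈ fixV V (gen₂ a d), Commute g x := fun g hg x hx => (mem_fixV.mp hx).2 g hg
  refine ⟨MulEquiv.ofBijective (MonoidHom.mk' φ fun x y => c.rel_unique h s (hφ _) ((hφ x).mul (hφ y))) ?_⟩
  constructor
  · intro x y e
    refine Subtype.ext (c.rel_inj h s (h.le x.2) (h.le y.2) (hφ x) ?_ (hfix x x.2) (hfix y y.2))
    have e' : φ x = φ y := e
    rw [e']; exact hφ y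
  · intro m
    obtain ⟨g, hg, r⟩ := c.exists_rel h s m
    exact ⟨⟨g, hg⟩, c.rel_unique h s (hφ ⟨g, hg⟩) r⟩

theorem Pair.le_sup (h : Pair p V H K a d) : gen₂ a d ≤ K ⊔ zpowers a := by
  refine sup_le le_sup_right (zpowers_le.mpr ?_)
  rw [show d = (d * a⁻¹) * a by group]
  exact mul_mem (mem_sup_left h.cong) (mem_sup_right (mem_zpowers a))

theorem Setting.cong_conj (s : Setting p V H K) {a g : G} (ha : a ∈ H) (hg : g ∈ K ⊔ zpowers a) :
    g * a * g⁻¹ * a⁻¹ ∈ K := by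
  rw [← SetLike.mem_coe, coe_mul_of_right_le_normalizer_left _ _
    ((zpowers_le.mpr ha).trans s.Knorm)] at hg
  obtain ⟨k, hk, x, hx, rfl⟩ := hg
  obtain ⟨i, rfl⟩ := hx
  have e : k * a ^ i * a * (k * a ^ i)⁻¹ * a⁻¹ = k * (a * k⁻¹ * a⁻¹) := by group
  show k * a ^ i * a * (k * a ^ i)⁻¹ * a⁻¹ ∈ K
  rw [e]
  exact mul_mem hk (s.mul_conj_mem_K ha (inv_mem hk))

theorem Pair.pcases (h : Pair p V H K a d) (s : Setting p V H K) : p = 2 ∨ p = 3 := by
  by_cases h2 : p = 2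
  · exact Or.inl h2
  right
  obtain ⟨e1, e2, c⟩ := h.exists_coord s
  obtain ⟨t, ht, ra⟩ := c.rel_a h s
  have hfix : ∀ g ∈ gen₂ a d, ∀ x ∈ fixV V (gen₂ a d), Commute g x := fun g hg x hx => (mem_fixV.mp hx).2 g hg
  have h20 : (2 : ZMod p) ≠ 0 := by
    intro e
    have e' : ((2 : ℕ) : ZMod p) = 0 := by exact_mod_cast e
    exact h2 ((Nat.prime_dvd_prime_iff_eq hp.out Nat.prime_two).mp ((ZMod.natCast_eq_zero_iff _ _).mp e')
)
  let D : SL(2, ZMod p) := ⟨!![2, 0; 0, 2⁻¹], by simp [Matrix.det_fin_two, mul_inv_cancel₀ h20]⟩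
  obtain ⟨g, hg, rg⟩ := c.exists_rel h s D
  obtain ⟨b, hb, rb⟩ := c.exists_rel h s (up (4 * t))
  have hbg : g * a = b * g := by
    have hm : D * up t = up (4 * t) * D := by
      refine Subtype.ext (Matrix.ext_of_mulVec_single fun i => ?_)
      rw [Matrix.SpecialLinearGroup.coe_mul, Matrix.SpecialLinearGroup.coe_mul, ← Matrix.mulVec_mulVec,
        ← Matrix.mulVec_mulVec, up_mulVec, up_mulVec]
      funext j
      fin_cases j <;> simp [D, Matrix.mulVec, dotProduct, Fin.sum_univ_two] <;> field_simp <;> ring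
    have r' := rb.mul rg
    rw [← hm] at r'
    exact c.rel_inj h s (h.le (mul_mem hg (mem_gen₂_left a d))) (h.le (mul_mem hb hg)) (rg.mul ra) r'
      (hfix _ (mul_mem hg (mem_gen₂_left a d))) (hfix _ (mul_mem hb hg))
  have hba : Commute a b := by
    have hm : up t * up (4 * t) = up (4 * t) * up t := by
      refine Subtype.ext (Matrix.ext_of_mulVec_single fun i => ?_)
      rw [Matrix.SpecialLinearGroup.coe_mul, Matrix.SpecialLinearGroup.coe_mul, ← Matrix.mulVec_mulVec,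
        ← Matrix.mulVec_mulVec, up_mulVec, up_mulVec, up_mulVec, up_mulVec]
      funext j
      fin_cases j <;> simp <;> ring
    have r' := rb.mul ra
    rw [← hm] at r'
    exact c.rel_inj h s (h.le (mul_mem (mem_gen₂_left a d) hb)) (h.le (mul_mem hb (mem_gen₂_left a d)))
      (ra.mul rb) r' (hfix _ (mul_mem (mem_gen₂_left a d) hb)) (hfix _ (mul_mem hb (mem_gen₂_left a d)))
  have hb' : b = g * a * g⁻¹ := by rw [hbg, mul_inv_cancel_right]
  have hbeq : b = a := s.eq_of_commute h.ta.pow (by rw [hb', conj_pow, h.ta.pow, mul_one, mul_inv_cancel])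
    hba (hb' ▸ s.cong_conj h.ta.mem (h.le_sup hg))
  rw [hbeq] at rb
  have he := congrArg (fun m : SL(2, ZMod p) => (m : Matrix (Fin 2) (Fin 2) (ZMod p)) 0 1) (c.rel_unique h s ra rb)
  simp [Matrix.SpecialLinearGroup.transvection_coe, Matrix.single_apply] at he
  have h3 : ((3 : ℕ) : ZMod p) = 0 := by
    have : (3 : ZMod p) * t = 0 := by linear_combination -he
    simpa [ht] using this
  exact (Nat.prime_dvd_prime_iff_eq hp.out Nat.prime_three).mp ((ZMod.natCast_eq_zero_iff _ _).mp h3)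

theorem Pair.card_inf (h : Pair p V H K a d) (s : Setting p V H K) :
    Nat.card (gen₂ a d ⊓ K : Subgroup G) * p = Nat.card (gen₂ a d) := by
  have hbot : zpowers a ⊓ (gen₂ a d ⊓ K) = ⊥ := by
    have := inf_eq_bot_of_coprime (H := zpowers a) (K := K)
      (by rw [card_zpowers_of_pow h.ta.pow h.ta.ne]; exact s.Kcop.symm)
    rw [eq_bot_iff, ← this]
    exact inf_le_inf_left _ inf_le_right
  have h1 := Coprime.card_sup_mul_card_inf_of_le_normalizer (A := zpowers a) (N := gen₂ a d ⊓ K)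
    (le_trans (le_inf (le_sup_left.trans (le_normalizer (H := gen₂ a d)))
      ((zpowers_le.mpr h.ta.mem).trans s.Knorm)) (fun x hx => inf_normalizer_le_normalizer_inf ⟨hx.1, hx.2⟩))
  have hsup : zpowers a ⊔ (gen₂ a d ⊓ K) = gen₂ a d := by
    refine le_antisymm (sup_le le_sup_left inf_le_left) (sup_le le_sup_left (zpowers_le.mpr ?_))
    have hq1 : d * a⁻¹ ∈ gen₂ a d := mul_mem (mem_gen₂_right a d) (inv_mem (mem_gen₂_left a d))
    have hq : d * a⁻¹ ∈ gen₂ a d ⊓ K := ⟨hq1, h.cong⟩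
    simpa using mul_mem (mem_sup_right hq : d * a⁻¹ ∈ zpowers a ⊔ (gen₂ a d ⊓ K))
      (mem_sup_left (mem_zpowers a) : a ∈ zpowers a ⊔ (gen₂ a d ⊓ K))
  rw [hsup, hbot, card_bot, mul_one, card_zpowers_of_pow h.ta.pow h.ta.ne, mul_comm] at h1
  exact h1.symm

/-- A transvection with centre in the plane and fixing the complement lies in the group of the pair. -/
theorem Pair.full (h : Pair p V H K a d) (s : Setting p V H K) {b : G} (tb : Trans p V H b)
    (hc : cen V b ≤ plane V a d) (hf : fixV V (gen₂ a d) ≤ fixV V (zpowers b)) : b ∈ gen₂ a d := by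
  obtain ⟨e1, e2, c⟩ := h.exists_coord s
  obtain ⟨u, hu, hu1⟩ := tb.exists_cen_ne s
  obtain ⟨v, rfl⟩ := c.exists_cmb h s (hc hu)
  have hv : v 0 ≠ 0 ∨ v 1 ≠ 0 := by
    by_contra hv
    push Not at hv
    exact hu1 (by simp [cmb, hv.1, hv.2, pe_zero])
  obtain ⟨m, hm⟩ : ∃ m : SL(2, ZMod p), (m : Matrix _ _ (ZMod p)).mulVec ![1, 0] = v := by
    by_cases h0 : v 0 = 0
    · have h1 := hv.resolve_left (not_not.mpr h0)
      refine ⟨⟨!![0, -(v 1)⁻¹; v 1, 0], by simp [Matrix.det_fin_two, inv_mul_cancel₀ h1]⟩, ?_⟩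
      funext i; fin_cases i <;> simp [Matrix.mulVec, dotProduct, Fin.sum_univ_two, h0]
    · refine ⟨⟨!![v 0, 0; v 1, (v 0)⁻¹], by simp [Matrix.det_fin_two, mul_inv_cancel₀ h0]⟩, ?_⟩
      funext i; fin_cases i <;> simp [Matrix.mulVec, dotProduct, Fin.sum_univ_two]
  obtain ⟨g, hg, rg⟩ := c.exists_rel h s m
  have hge1 : g * e1 * g⁻¹ = cmb e1 e2 v := by
    conv_lhs => rw [← cmb_one_zero (p := p) e1 e2]
    rw [rg, hm]
  obtain ⟨v1, v2⟩ := c.mem_V h s
  set b' := g⁻¹ * b * g with hb'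
  have tb' : Trans p V H b' := by
    have := tb.conj s (h.le (inv_mem hg))
    rwa [inv_inv] at this
  have hcen : cen V b' = zpowers e1 := by
    have := cen_conj_eq s tb (h.le (inv_mem hg)) hu hu1
    rw [inv_inv, ← hge1] at this
    rw [hb', this]
    congr 1
    group
  have hb1 : b' * e1 * b'⁻¹ = e1 := by
    have : e1 ∈ cen V b' := hcen ▸ mem_zpowers e1
    rw [((mem_fix_zpowers.mp (tb'.cen_le_fix s this)).2).eq, mul_inv_cancel_right]
  obtain ⟨t, ht⟩ : ∃ t : ZMod p, pe e1 t = ⁅b', e2⁆ :=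
    exists_pe (s.elemV.2 _ v1) (hcen ▸ tb'.comm_mem_cen s v2)
  have rb : Rel e1 e2 b' (up t) := by
    refine c.rel_of_basis h s ?_ ?_
    · rw [hb1, up_mulVec]; simp [cmb, pe_one, pe_zero]
    · rw [conj_eq_comm_mul, ← ht, up_mulVec]; simp [cmb, pe_one]
  obtain ⟨x, hx, rx⟩ := c.exists_rel h s (up t)
  have hCb : ∀ y ∈ fixV V (gen₂ a d), Commute b' y := by
    intro y hy
    have hgy := (mem_fixV.mp hy).2 g hg
    exact (hgy.inv_left.mul_left (mem_fix_zpowers.mp (hf hy)).2).mul_left hgy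
  have heq : b' = x := c.rel_inj h s tb'.mem (h.le hx) rb rx hCb (fun y hy => (mem_fixV.mp hy).2 x hx)
  have : b = g * x * g⁻¹ := by rw [← heq, hb']; group
  rw [this]
  exact mul_mem (mul_mem hg hx) (inv_mem hg)

/-- The group of a pair is transitive on the non-trivial points of its plane. -/
theorem Pair.transitive (h : Pair p V H K a d) (s : Setting p V H K) :
    ∀ w ∈ plane V a d, w ≠ 1 → ∀ w' ∈ plane V a d, w' ≠ 1 → ∃ q ∈ gen₂ a d ⊓ K, q * w * q⁻¹ = w' := by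
  obtain ⟨e1, e2, c⟩ := h.exists_coord s
  suffices key : ∀ w ∈ plane V a d, w ≠ 1 → ∃ q ∈ gen₂ a d ⊓ K, q * e1 * q⁻¹ = w by
    intro w hw hw1 w' hw' hw1'
    obtain ⟨q, hq, rfl⟩ := key w hw hw1
    obtain ⟨q', hq', rfl⟩ := key w' hw' hw1'
    exact ⟨q' * q⁻¹, mul_mem hq' (inv_mem hq), by group⟩
  intro w hw hw1
  obtain ⟨v, rfl⟩ := c.exists_cmb h s hw
  have hv : v 0 ≠ 0 ∨ v 1 ≠ 0 := by
    by_contra hv
    push Not at hv
    exact hw1 (by simp [cmb, hv.1, hv.2, pe_zero])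
  obtain ⟨m, hm⟩ : ∃ m : SL(2, ZMod p), (m : Matrix _ _ (ZMod p)).mulVec ![1, 0] = v := by
    by_cases h0 : v 0 = 0
    · have h1 := hv.resolve_left (not_not.mpr h0)
      refine ⟨⟨!![0, -(v 1)⁻¹; v 1, 0], by simp [Matrix.det_fin_two, inv_mul_cancel₀ h1]⟩, ?_⟩
      funext i; fin_cases i <;> simp [Matrix.mulVec, dotProduct, Fin.sum_univ_two, h0]
    · refine ⟨⟨!![v 0, 0; v 1, (v 0)⁻¹], by simp [Matrix.det_fin_two, mul_inv_cancel₀ h0]⟩, ?_⟩
      funext i; fin_cases i <;> simp [Matrix.mulVec, dotProduct, Fin.sum_univ_two]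
  obtain ⟨g, hg, rg⟩ := c.exists_rel h s m
  have hge1 : g * e1 * g⁻¹ = cmb e1 e2 v := by
    conv_lhs => rw [← cmb_one_zero (p := p) e1 e2]
    rw [rg, hm]
  obtain ⟨k, hk, x, hx, rfl⟩ : ∃ k ∈ K, ∃ x ∈ zpowers a, k * x = g := by
    have := h.le_sup hg
    rw [← SetLike.mem_coe, coe_mul_of_right_le_normalizer_left _ _
      ((zpowers_le.mpr h.ta.mem).trans s.Knorm)] at this
    obtain ⟨k, hk, x, hx, e⟩ := this
    exact ⟨k, hk, x, hx, e⟩
  refine ⟨k, ⟨?_, hk⟩, ?_⟩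
  · simpa using mul_mem hg (inv_mem (mem_sup_left hx : x ∈ gen₂ a d))
  · rw [← hge1]
    have hxe : x * e1 * x⁻¹ = e1 := by
      rw [mem_centralizer_iff.mp (h.ta.cen_le_fix s c.m1).2 x hx, mul_inv_cancel_right]
    conv_lhs => rw [← hxe]
    group

theorem Pair.conj_mem (h : Pair p V H K a d) (s : Setting p V H K) {b : G} (tb : Trans p V H b)
    (hcong : b * a⁻¹ ∈ K) : b ∈ gen₂ a d := by
  obtain ⟨u, hu, hu1⟩ := tb.exists_cen_ne s
  have huV := tb.cen_le_V s hu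
  rw [← h.plane_sup_fix s] at huV
  obtain ⟨w, hw, c, hc, rfl⟩ := mem_sup_abelian s (h.plane_le_V s) inf_le_left huV
  obtain ⟨b', hb'L, tb', hb'K, hb'u⟩ : ∃ b' ∈ gen₂ a d, Trans p V H b' ∧ b' * a⁻¹ ∈ K ∧
      Commute b' (w * c) := by
    by_cases hw1 : w = 1
    · exact ⟨a, mem_gen₂_left a d, h.ta, by rw [mul_inv_cancel]; exact one_mem _,
        by rw [hw1, one_mul]; exact (mem_fixV.mp hc).2 a (mem_gen₂_left a d)⟩
    · obtain ⟨e, he, he1⟩ := h.ta.exists_cen_ne s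
      obtain ⟨q, hq, rfl⟩ := h.transitive s e (mem_sup_left he) he1 w hw hw1
      have hb : q * a * q⁻¹ ∈ gen₂ a d := mul_mem (mul_mem hq.1 (mem_gen₂_left a d)) (inv_mem hq.1)
      refine ⟨_, hb, h.ta.conj s (h.le hq.1), s.cong_conj h.ta.mem (h.le_sup hq.1), ?_⟩
      exact (conj_commute (mem_fix_zpowers.mp (h.ta.cen_le_fix s he)).2).mul_right ((mem_fixV.mp hc).2 _ hb)
  set b'' := b' * b * b'⁻¹ with hb''
  have tb'' : Trans p V H b'' := tb.conj s tb'.mem
  have hcen : cen V b'' = cen V b := by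
    rw [hb'', cen_conj_eq s tb tb'.mem hu hu1, cen_eq_zpowers s tb hu hu1, hb'u.eq, mul_inv_cancel_right]
  have hcomm : Commute b b'' := s.commute_of_trans tb tb''
    (hcen ▸ tb''.cen_le_fix s) (hcen.symm ▸ tb.cen_le_fix s)
  have hK : b'' * b⁻¹ ∈ K := by
    have h1 := s.mul_conj_mem_K tb'.mem (show b * b'⁻¹ ∈ K by
      have := mul_mem hcong (inv_mem hb'K)
      rwa [mul_inv_rev, inv_inv, mul_assoc, inv_mul_cancel_left] at this)
    have h2 : b' * b⁻¹ ∈ K := by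
      have := mul_mem hb'K (inv_mem hcong)
      rwa [mul_inv_rev, inv_inv, mul_assoc, inv_mul_cancel_left] at this
    have := mul_mem h1 h2
    rwa [show b' * (b * b'⁻¹) * b'⁻¹ * (b' * b⁻¹) = b' * b * b'⁻¹ * b⁻¹ by group] at this
  have hbb : b'' = b := s.eq_of_commute tb.pow tb''.pow hcomm hK
  have hc' : Commute b' b := mul_inv_eq_iff_eq_mul.mp hbb
  have : b = b' := s.eq_of_commute tb'.pow tb.pow hc' (by
    have := mul_mem hcong (inv_mem hb'K)
    rwa [mul_inv_rev, inv_inv, mul_assoc, inv_mul_cancel_left] at this)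
  rw [this]; exact hb'L

theorem Pair.commutator_K (h : Pair p V H K a d) (s : Setting p V H K)
    (hd : ∃ k ∈ K, d = k * a * k⁻¹) :
    ⁅K, zpowers a⁆ = gen₂ a d ⊓ K ∧ ⁅K, zpowers a⁆ ⊔ zpowers a = gen₂ a d := by
  have hle : ⁅K, zpowers a⁆ ≤ gen₂ a d ⊓ K := by
    refine commutator_le.mpr fun k hk x hx => ⟨?_, ?_⟩
    · have hc : k * a * k⁻¹ ∈ gen₂ a d := h.conj_mem s (h.ta.conj s (s.Kle hk))
        (s.cong_conj h.ta.mem (mem_sup_left hk))
      have hx' : k * x * k⁻¹ ∈ gen₂ a d := by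
        obtain ⟨i, rfl⟩ := hx
        rw [← conj_zpow]
        exact zpow_mem hc i
      have hxi : x⁻¹ ∈ gen₂ a d := inv_mem (mem_sup_left hx)
      have := mul_mem hx' hxi
      rwa [← commutatorElement_def] at this
    · have e : ⁅k, x⁆ = k * (x * k⁻¹ * x⁻¹) := by simp only [commutatorElement_def]; group
      rw [e]
      exact mul_mem hk (s.mul_conj_mem_K (zpowers_le.mpr h.ta.mem hx) (inv_mem hk))
  have hsup : ⁅K, zpowers a⁆ ⊔ zpowers a = gen₂ a d := by
    refine le_antisymm (sup_le (hle.trans inf_le_left) le_sup_left) (sup_le le_sup_right (zpowers_le.mpr ?_))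
    obtain ⟨k, hk, rfl⟩ := hd
    rw [show k * a * k⁻¹ = ⁅k, a⁆ * a from conj_eq_comm_mul k a]
    exact mul_mem (mem_sup_left (commutator_mem_commutator hk (mem_zpowers a))) (mem_sup_right (mem_zpowers a))
  refine ⟨eq_of_le_of_card_ge hle ?_, hsup⟩
  have h1 := h.card_inf s
  have h2 := Coprime.card_sup_mul_card_inf_of_le_normalizer (A := zpowers a) (N := ⁅K, zpowers a⁆)
    (Subgroup.normalizer_commutator_ge_right _ _)
  rw [sup_comm, hsup, card_zpowers_of_pow h.ta.pow h.ta.ne, ← h1] at h2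
  have h3 : Nat.card (gen₂ a d ⊓ K : Subgroup G) * p ≤ p * Nat.card (⁅K, zpowers a⁆ : Subgroup G) := by
    rw [← h2]; exact Nat.le_mul_of_pos_right _ Nat.card_pos
  rw [mul_comm p] at h3
  exact Nat.le_of_mul_le_mul_right h3 hp.out.pos

end Cfsg.Agent.Lib.Offender
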