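import Cfsg.Agent.Lib.Offender.Plane

/-!
Failure of factorization: the factors SL(2,p) of a group generated by best offenders.
-/

set_option autoImplicit false
open Subgroup
open scoped commutatorElement MatrixGroups

namespace Cfsg.Agent.Lib.Offender

open Cfsg Cfsg.Agent.Lib.Thompson

variable {G : Type*} [Group G] {p : ℕ}

/-- A minimal non-trivially acting best offender inside `H`. -/
def IsMin (p : ℕ) {G : Type*} [Group G] (V H A : Subgroup G) : Prop :=
  A ≤ H ∧ IsBestOffenderOn p V A ∧ ⁅V, A⁆ ≠ ⊥ ∧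
    ∀ B : Subgroup G, B ≤ A → IsBestOffenderOn p V B → ⁅V, B⁆ ≠ ⊥ → B = A

/-- The factor attached to a transvection. -/
abbrev fac (K : Subgroup G) (a : G) : Subgroup G := ⁅K, zpowers a⁆ ⊔ zpowers a

theorem mem_fac (K : Subgroup G) (a : G) : a ∈ fac K a := mem_sup_right (mem_zpowers a)

theorem sl23_noncomm : ∃ i j : SL(2, ZMod 3), i ^ 4 = 1 ∧ j ^ 4 = 1 ∧ i * j ≠ j * i :=
  ⟨⟨!![0, 1; -1, 0], by decide⟩, ⟨!![1, 1; 1, -1], by decide⟩, by decide, by decide, by decide⟩

variable [Finite G] [hp : Fact p.Prime] {V H K : Subgroup G}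

theorem Setting.min_trans (s : Setting p V H K) {A : Subgroup G} (hA : IsMin p V H A) :
    ∃ a, A = zpowers a ∧ Trans p V H a := by
  obtain ⟨hAH, hb, hne, hmin⟩ := hA
  have hA0 := (s.commutator_ne_bot_iff hAH).mp hne
  obtain ⟨hc, hidx⟩ := s.minimal_card hAH hb hA0 hmin
  obtain ⟨a, ha, ha1⟩ : ∃ a ∈ A, a ≠ 1 := by
    by_contra h; push Not at h; exact hA0 ((eq_bot_iff_forall _).mpr h)
  have hap := ((s.best_iff hAH).mp hb).1.2 a ha
  have hA' : A = zpowers a :=
    (eq_of_le_of_card_ge (zpowers_le.mpr ha) (by rw [hc, card_zpowers_of_pow hap ha1])).symm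
  exact ⟨a, hA', hAH ha, hap, ha1, hA' ▸ hidx⟩

theorem Trans.exists_noncomm {a : G} (t : Trans p V H a) (s : Setting p V H K) :
    ∃ x ∈ K, ¬ Commute x a := by
  by_contra h
  push Not at h
  exact t.ne (s.faithful_on_K t.mem t.pow fun k hk => mem_centralizer_singleton_iff.mpr (h k hk).eq)

theorem Trans.pair {a x : G} (t : Trans p V H a) (s : Setting p V H K) (hx : x ∈ K) (hxa : ¬ Commute x a) :
    Pair p V H K a (x * a * x⁻¹) where
  ta := t
  td := t.conj s (s.Kle hx)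
  cong := s.cong_conj t.mem (mem_sup_left hx)
  ncomm := fun hc => hxa (mul_inv_eq_iff_eq_mul.mp
    (s.eq_of_commute t.pow (by rw [conj_pow, t.pow, mul_one, mul_inv_cancel]) hc
      (s.cong_conj t.mem (mem_sup_left hx))))

theorem Trans.fac_pair {a : G} (t : Trans p V H a) (s : Setting p V H K) :
    ∃ d, Pair p V H K a d ∧ fac K a = gen₂ a d ∧ ⁅K, zpowers a⁆ = fac K a ⊓ K := by
  obtain ⟨x, hx, hxa⟩ := t.exists_noncomm s
  have h := t.pair s hx hxa
  obtain ⟨h1, h2⟩ := h.commutator_K s ⟨x, hx, rfl⟩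
  exact ⟨_, h, h2, by rw [h1, show fac K a = gen₂ a (x * a * x⁻¹) from h2]⟩

theorem Trans.fac_le {a : G} (t : Trans p V H a) (s : Setting p V H K) : fac K a ≤ H := by
  obtain ⟨d, h, e, -⟩ := t.fac_pair s
  rw [e]; exact h.le

theorem Trans.fac_pcases {a : G} (t : Trans p V H a) (s : Setting p V H K) : p = 2 ∨ p = 3 := by
  obtain ⟨d, h, -, -⟩ := t.fac_pair s
  exact h.pcases s

theorem Trans.fac_iso {a : G} (t : Trans p V H a) (s : Setting p V H K) :
    Nonempty (fac K a ≃* SL(2, ZMod p)) := by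
  obtain ⟨d, h, e, -⟩ := t.fac_pair s
  obtain ⟨i⟩ := h.iso s
  exact ⟨(MulEquiv.subgroupCongr e).trans i⟩

theorem Trans.fac_card {a : G} (t : Trans p V H a) (s : Setting p V H K) :
    Nat.card (fac K a) = Nat.card SL(2, ZMod p) := by
  obtain ⟨i⟩ := t.fac_iso s
  exact Nat.card_congr i.toEquiv

theorem Trans.fac_card_inf {a : G} (t : Trans p V H a) (s : Setting p V H K) :
    Nat.card (fac K a ⊓ K : Subgroup G) * p = Nat.card (fac K a) := by
  obtain ⟨d, h, e, -⟩ := t.fac_pair s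
  rw [e]; exact h.card_inf s

theorem Trans.facW_card {a : G} (t : Trans p V H a) (s : Setting p V H K) :
    Nat.card (⁅V, fac K a⁆ : Subgroup G) = p ^ 2 := by
  obtain ⟨d, h, e, -⟩ := t.fac_pair s
  rw [e, h.commutator_eq s]; exact h.card_plane s

theorem Trans.facW_le {a : G} (t : Trans p V H a) (s : Setting p V H K) : ⁅V, fac K a⁆ ≤ V := by
  obtain ⟨d, h, e, -⟩ := t.fac_pair s
  rw [e, h.commutator_eq s]; exact h.plane_le_V s

theorem Trans.facW_inf {a : G} (t : Trans p V H a) (s : Setting p V H K) :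
    ⁅V, fac K a⁆ ⊓ fixV V (fac K a) = ⊥ := by
  obtain ⟨d, h, e, -⟩ := t.fac_pair s
  rw [e, h.commutator_eq s]; exact h.plane_inf_fix s

theorem Trans.facW_sup {a : G} (t : Trans p V H a) (s : Setting p V H K) :
    ⁅V, fac K a⁆ ⊔ fixV V (fac K a) = V := by
  obtain ⟨d, h, e, -⟩ := t.fac_pair s
  rw [e, h.commutator_eq s]; exact h.plane_sup_fix s

theorem Trans.facW_norm {a : G} (t : Trans p V H a) (s : Setting p V H K) :
    fac K a ≤ normalizer ((⁅V, fac K a⁆ : Subgroup G) : Set G) := by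
  obtain ⟨d, h, e, -⟩ := t.fac_pair s
  rw [e, h.commutator_eq s]; exact h.normalizes_plane s

theorem Trans.fac_faithful {a g : G} (t : Trans p V H a) (s : Setting p V H K) (hg : g ∈ H)
    (hC : ∀ c ∈ fixV V (fac K a), Commute g c) (hW : ∀ w ∈ ⁅V, fac K a⁆, Commute g w) : g = 1 := by
  obtain ⟨d, h, e, -⟩ := t.fac_pair s
  rw [e] at hC
  rw [e, h.commutator_eq s] at hW
  exact h.faithful s hg hC hW

theorem Trans.fac_full {a b : G} (t : Trans p V H a) (s : Setting p V H K) (tb : Trans p V H b)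
    (hc : cen V b ≤ ⁅V, fac K a⁆) (hf : fixV V (fac K a) ≤ fixV V (zpowers b)) : b ∈ fac K a := by
  obtain ⟨d, h, e, -⟩ := t.fac_pair s
  rw [e] at hf ⊢
  rw [e, h.commutator_eq s] at hc
  exact h.full s tb hc hf

theorem Trans.fac_transitive {a : G} (t : Trans p V H a) (s : Setting p V H K) :
    ∀ w ∈ ⁅V, fac K a⁆, w ≠ 1 → ∀ w' ∈ ⁅V, fac K a⁆, w' ≠ 1 →
      ∃ q ∈ fac K a ⊓ K, q * w * q⁻¹ = w' := by
  obtain ⟨d, h, e, -⟩ := t.fac_pair s
  rw [e, h.commutator_eq s]; exact h.transitive s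

theorem Trans.K_normalizes_fac {a : G} (t : Trans p V H a) (s : Setting p V H K) :
    K ≤ normalizer (fac K a : Set G) := by
  obtain ⟨d, h, e, -⟩ := t.fac_pair s
  intro k hk
  refine mem_normalizer_fintype fun g hg => ?_
  have hle : fac K a ≤ (fac K a).comap (MulAut.conj k).toMonoidHom := by
    refine sup_le (fun x hx => ?_) (zpowers_le.mpr ?_)
    · exact mem_sup_left ((mem_normalizer_iff.mp (normalizer_commutator_ge_left _ _ hk) x).mp hx)
    · show k * a * k⁻¹ ∈ fac K a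
      rw [e]
      exact h.conj_mem s (t.conj s (s.Kle hk)) (s.cong_conj t.mem (mem_sup_left hk))
  exact hle hg

theorem conj_commutator_mem {A B : Subgroup G} {k g : G} (hA : k ∈ normalizer (A : Set G))
    (hB : k ∈ normalizer (B : Set G)) (hg : g ∈ ⁅A, B⁆) : k * g * k⁻¹ ∈ ⁅A, B⁆ := by
  have hle : ⁅A, B⁆ ≤ (⁅A, B⁆).comap (MulAut.conj k).toMonoidHom := commutator_le.mpr fun x hx y hy => by
    show k * ⁅x, y⁆ * k⁻¹ ∈ ⁅A, B⁆
    rw [show k * ⁅x, y⁆ * k⁻¹ = ⁅k * x * k⁻¹, k * y * k⁻¹⁆ by simp only [commutatorElement_def]; group]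
    exact commutator_mem_commutator ((mem_normalizer_iff.mp hA x).mp hx) ((mem_normalizer_iff.mp hB y).mp hy)
  exact hle hg

theorem Setting.conj_fix_mem (s : Setting p V H K) {E : Subgroup G} {k c : G} (hk : k ∈ H)
    (hE : k ∈ normalizer (E : Set G)) (hc : c ∈ fixV V E) : k * c * k⁻¹ ∈ fixV V E := by
  refine mem_fixV.mpr ⟨s.conj_mem_V hk hc.1, fun g hg => ?_⟩
  have hg' : k⁻¹ * g * k ∈ E := by simpa using (mem_normalizer_iff.mp (inv_mem hE) g).mp hg
  have := conj_commute (h := k) ((mem_fixV.mp hc).2 _ hg')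
  rwa [show k * (k⁻¹ * g * k) * k⁻¹ = g by group] at this

theorem Trans.fix_inf_K {a : G} (t : Trans p V H a) (s : Setting p V H K) {v : G} (hv : v ∈ V)
    (hf : ∀ q ∈ fac K a ⊓ K, Commute q v) : v ∈ fixV V (fac K a) := by
  rw [← t.facW_sup s] at hv
  obtain ⟨w, hw, c, hc, rfl⟩ := mem_sup_abelian s (t.facW_le s) inf_le_left hv
  by_cases hw1 : w = 1
  · rw [hw1, one_mul]; exact hc
  exfalso
  obtain ⟨w', hw', hw1', hne⟩ : ∃ w' ∈ ⁅V, fac K a⁆, w' ≠ 1 ∧ w' ≠ w := by
    by_contra hcon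
    push Not at hcon
    have hle : ⁅V, fac K a⁆ ≤ zpowers w := fun x hx => by
      by_cases hx1 : x = 1
      · rw [hx1]; exact one_mem _
      · rw [hcon x hx hx1]; exact mem_zpowers w
    have := card_le_of_le hle
    rw [t.facW_card s, card_zpowers_of_pow (s.elemV.2 w (t.facW_le s hw)) hw1] at this
    exact absurd this (by nlinarith [hp.out.two_le])
  obtain ⟨q, hq, hqw⟩ := t.fac_transitive s w hw hw1 w' hw' hw1'
  refine hne (hqw.symm.trans ?_)
  have hqc : Commute q c := (mem_fixV.mp hc).2 q hq.1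
  have : Commute q w := by simpa using (hf q hq).mul_right hqc.inv_right
  rw [this.eq, mul_inv_cancel_right]

theorem comm_mem_WE (s : Setting p V H K) {E : Subgroup G} {g v : G} (hg : g ∈ E) (hv : v ∈ V) :
    ⁅g, v⁆ ∈ ⁅V, E⁆ := by
  rw [commutator_comm]; exact commutator_mem_commutator hg hv

/-- Two factors coincide or commute. -/
theorem fac_dichotomy (s : Setting p V H K) {a b : G} (ta : Trans p V H a) (tb : Trans p V H b) :
    fac K b = fac K a ∨ ((∀ g ∈ fac K a, ∀ g' ∈ fac K b, Commute g g') ∧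
      ⁅V, fac K b⁆ ≤ fixV V (fac K a)) := by
  have normW : ∀ {c : G}, Trans p V H c → ∀ k ∈ K, ∀ w ∈ ⁅V, fac K c⁆, k * w * k⁻¹ ∈ ⁅V, fac K c⁆ :=
    fun {c} tc k hk w hw => conj_commutator_mem (s.norm (s.Kle hk)) (tc.K_normalizes_fac s hk) hw
  have normC : ∀ {c : G}, Trans p V H c → ∀ k ∈ K, ∀ w ∈ fixV V (fac K c), k * w * k⁻¹ ∈ fixV V (fac K c) :=
    fun {c} tc k hk w hw => s.conj_fix_mem (s.Kle hk) (tc.K_normalizes_fac s hk) hw
  by_cases hWW : ⁅V, fac K b⁆ = ⁅V, fac K a⁆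
  · left
    have hC : fixV V (fac K a) ≤ fixV V (zpowers b) := by
      intro c hc
      have hfix : ∀ q ∈ fac K b ⊓ K, Commute q c := by
        intro q hq
        have h1 : ⁅q, c⁆ ∈ ⁅V, fac K a⁆ := hWW ▸ comm_mem_WE s hq.1 hc.1
        have h2 : ⁅q, c⁆ ∈ fixV V (fac K a) := by
          rw [commutatorElement_def]; exact mul_mem (normC ta q hq.2 c hc) (inv_mem hc)
        have h3 : ⁅q, c⁆ ∈ ⁅V, fac K a⁆ ⊓ fixV V (fac K a) := ⟨h1, h2⟩
        rw [ta.facW_inf s, mem_bot, commutatorElement_eq_one_iff_commute] at h3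
        exact h3
      exact fixV_anti V le_sup_right (tb.fix_inf_K s hc.1 hfix)
    have hb : b ∈ fac K a := ta.fac_full s tb
      ((commutator_mono le_rfl le_sup_right).trans hWW.le) hC
    refine eq_of_le_of_card_ge (sup_le ?_ (zpowers_le.mpr hb)) (by rw [ta.fac_card s, tb.fac_card s])
    refine commutator_le.mpr fun k hk x hx => ?_
    have hxE : x ∈ fac K a := zpowers_le.mpr hb hx
    rw [commutatorElement_def]
    exact mul_mem ((mem_normalizer_iff.mp (ta.K_normalizes_fac s hk) x).mp hxE) (inv_mem hxE)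
  · right
    have key : ∀ {a b : G}, Trans p V H a → Trans p V H b → ⁅V, fac K b⁆ ≠ ⁅V, fac K a⁆ →
        ⁅V, fac K a⁆ ≤ fixV V (fac K b) := by
      intro a b ta tb hne w hw
      refine tb.fix_inf_K s (ta.facW_le s hw) fun q hq => ?_
      have h1 : ⁅q, w⁆ ∈ ⁅V, fac K b⁆ := comm_mem_WE s hq.1 (ta.facW_le s hw)
      have h2 : ⁅q, w⁆ ∈ ⁅V, fac K a⁆ := by
        rw [commutatorElement_def]; exact mul_mem (normW ta q hq.2 w hw) (inv_mem hw)
      by_contra hcom
      refine hne (eq_of_le_of_card_ge (fun w' hw' => ?_) (by rw [ta.facW_card s, tb.facW_card s]))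
      by_cases hw1 : w' = 1
      · rw [hw1]; exact one_mem _
      obtain ⟨q', hq', rfl⟩ := tb.fac_transitive s _ h1
        (fun e => hcom (commutatorElement_eq_one_iff_commute.mp e)) w' hw' hw1
      exact normW ta q' hq'.2 _ h2
    have h1 := key ta tb hWW
    have h2 := key tb ta (Ne.symm hWW)
    refine ⟨fun g hg g' hg' => ?_, h2⟩
    exact s.commute_of_fix (ta.fac_le s hg) (tb.fac_le s hg')
      (fun v hv => (mem_fixV.mp (h2 (comm_mem_WE s hg' hv))).2 g hg)
      (fun v hv => (mem_fixV.mp (h1 (comm_mem_WE s hg hv))).2 g' hg')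

/-- A group generated by best offenders is generated by transvections. -/
theorem Setting.le_of_trans (s : Setting p V H K)
    (hgen : H = ⨆ A : {A : Subgroup G // A ≤ H ∧ IsBestOffenderOn p V A}, (A : Subgroup G))
    {X : Subgroup G} (hX : ∀ A : Subgroup G, IsMin p V H A → A ≤ X) : H ≤ X := by
  rw [hgen]
  refine iSup_le fun A => (s.le_sSup_minimal A.1 A.2.1 A.2.2).trans (sSup_le fun B hB => hX B ?_)
  exact ⟨hB.1.trans A.2.1, hB.2.1, (s.commutator_ne_bot_iff (hB.1.trans A.2.1)).mpr hB.2.2.1, hB.2.2.2⟩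

theorem Trans.H_normalizes_fac (s : Setting p V H K)
    (hgen : H = ⨆ A : {A : Subgroup G // A ≤ H ∧ IsBestOffenderOn p V A}, (A : Subgroup G))
    {a : G} (ta : Trans p V H a) : H ≤ normalizer (fac K a : Set G) := by
  refine s.le_of_trans hgen fun A hA => ?_
  obtain ⟨b, rfl, tb⟩ := s.min_trans hA
  rw [zpowers_le]
  rcases fac_dichotomy s ta tb with h | ⟨h, -⟩
  · exact le_normalizer (h ▸ mem_fac K b)
  · exact centralizer_le_normalizer _ (mem_centralizer_iff.mpr fun g hg => (h g hg b (mem_fac K b)).eq)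

theorem Trans.fac_split (s : Setting p V H K)
    (hgen : H = ⨆ A : {A : Subgroup G // A ≤ H ∧ IsBestOffenderOn p V A}, (A : Subgroup G))
    {a : G} (ta : Trans p V H a) :
    let M := H ⊓ centralizer ((⁅V, fac K a⁆ : Subgroup G) : Set G)
    ⁅fac K a, M⁆ = ⊥ ∧ fac K a ⊓ M = ⊥ ∧ fac K a ⊔ M = H ∧ ⁅V, M⁆ ≤ fixV V (fac K a) := by
  intro M
  have hfaith : ∀ g ∈ fac K a, (∀ w ∈ ⁅V, fac K a⁆, Commute g w) → g = 1 := fun g hg hW =>
    ta.fac_faithful s (ta.fac_le s hg) (fun c hc => (mem_fixV.mp hc).2 g hg) hW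
  have hcm : ∀ g ∈ fac K a, ∀ m ∈ M, Commute g m := by
    intro g hg m hm
    refine commutatorElement_eq_one_iff_commute.mp (hfaith _ ?_ fun w hw => ?_)
    · have := (mem_normalizer_iff.mp (ta.H_normalizes_fac s hgen hm.1) g⁻¹).mp (inv_mem hg)
      rw [show ⁅g, m⁆ = g * (m * g⁻¹ * m⁻¹) by simp only [commutatorElement_def]; group]
      exact mul_mem hg this
    · have hmw : ∀ w ∈ ⁅V, fac K a⁆, Commute m w := fun w hw => (mem_centralizer_iff.mp hm.2 w hw).symm
      have hw' : g⁻¹ * w * g ∈ ⁅V, fac K a⁆ := by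
        simpa using (mem_normalizer_iff.mp (ta.facW_norm s (inv_mem hg)) w).mp hw
      have h1 : Commute (g * m * g⁻¹) w := by
        have := conj_commute (h := g) (hmw _ hw')
        rwa [show g * (g⁻¹ * w * g) * g⁻¹ = w by group] at this
      exact h1.mul_left (hmw w hw).inv_left
  refine ⟨?_, ?_, le_antisymm (sup_le (ta.fac_le s) inf_le_left) (s.le_of_trans hgen fun A hA => ?_), ?_⟩
  · rw [commutator_eq_bot_iff_le_centralizer]
    exact fun g hg => mem_centralizer_iff.mpr fun m hm => (hcm g hg m hm).symm.eq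
  · rw [eq_bot_iff]
    rintro g ⟨hg, hm⟩
    exact mem_bot.mpr (hfaith g hg fun w hw => (mem_centralizer_iff.mp hm.2 w hw).symm)
  · obtain ⟨b, rfl, tb⟩ := s.min_trans hA
    rw [zpowers_le]
    rcases fac_dichotomy s ta tb with h | ⟨-, h⟩
    · exact mem_sup_left (h ▸ mem_fac K b)
    · rcases fac_dichotomy s tb ta with h' | ⟨-, h'⟩
      · exact mem_sup_left (h'.symm ▸ mem_fac K b)
      · exact mem_sup_right ⟨tb.mem, mem_centralizer_iff.mpr fun w hw =>
          ((mem_fixV.mp (h' hw)).2 b (mem_fac K b)).symm.eq⟩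
  · refine commutator_le.mpr fun v hv m hm => mem_fixV.mpr ⟨?_, fun g hg => ?_⟩
    · rw [← commutatorElement_inv]; exact inv_mem (s.comm_mem_V hm.1 hv)
    · have hu : ⁅g, v⁆ ∈ ⁅V, fac K a⁆ := comm_mem_WE s hg hv
      have hmu : Commute m ⁅g, v⁆ := (mem_centralizer_iff.mp hm.2 _ hu).symm
      have hvm : ⁅v, m⁆ ∈ V := by rw [← commutatorElement_inv]; exact inv_mem (s.comm_mem_V hm.1 hv)
      have e : g * ⁅v, m⁆ * g⁻¹ = ⁅g, v⁆ * ⁅v, m⁆ * ⁅g, v⁆⁻¹ := by
        calc g * ⁅v, m⁆ * g⁻¹ = (g * v * g⁻¹) * (g * m * g⁻¹) * (g * v * g⁻¹)⁻¹ * (g * m * g⁻¹)⁻¹ := by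
              simp only [commutatorElement_def]; group
          _ = ⁅g, v⁆ * (v * m * v⁻¹) * (⁅g, v⁆⁻¹ * m⁻¹) := by
              rw [(hcm g hg m hm).eq, mul_inv_cancel_right, conj_eq_comm_mul g v]; group
          _ = _ := by rw [← (hmu.inv_left.inv_right).eq]; simp only [commutatorElement_def]; group
      rw [s.vcomm (s.comm_mem_V (ta.fac_le s hg) hv) hvm, mul_inv_cancel_right] at e
      exact mul_inv_eq_iff_eq_mul.mp e

section Family

variable {ι : Type*} (f : ι → G)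

theorem indep_family (s : Setting p V H K) (ht : ∀ i, Trans p V H (f i))
    (hinj : ∀ i j, fac K (f i) = fac K (f j) → i = j) : iSupIndep fun i => fac K (f i) := by
  intro i
  rw [disjoint_iff, eq_bot_iff]
  have hle : (⨆ (j) (_ : j ≠ i), fac K (f j)) ≤ centralizer ((⁅V, fac K (f i)⁆ : Subgroup G) : Set G) := by
    refine iSup₂_le fun j hj g hg => mem_centralizer_iff.mpr fun w hw => ?_
    rcases fac_dichotomy s (ht j) (ht i) with h | ⟨-, h⟩
    · exact absurd (hinj _ _ h.symm) hj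
    · exact ((mem_fixV.mp (h hw)).2 g hg).symm.eq
  rintro g ⟨hg, hg'⟩
  exact mem_bot.mpr ((ht i).fac_faithful s ((ht i).fac_le s hg) (fun c hc => (mem_fixV.mp hc).2 g hg)
    fun w hw => (mem_centralizer_iff.mp (hle hg') w hw).symm)

theorem planes_family (s : Setting p V H K) [Finite ι] (ht : ∀ i, Trans p V H (f i))
    (hinj : ∀ i j, fac K (f i) = fac K (f j) → i = j) (hH : ⨆ i, fac K (f i) = H) :
    iSupIndep (fun o : Option ι => o.elim (fixV V H) fun i => ⁅V, fac K (f i)⁆) ∧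
      fixV V H ⊔ (⨆ i, ⁅V, fac K (f i)⁆) = V := by
  classical
  have := Fintype.ofFinite ι
  have hcross : ∀ i j, j ≠ i → ⁅V, fac K (f j)⁆ ≤ fixV V (fac K (f i)) := fun i j hj => by
    rcases fac_dichotomy s (ht i) (ht j) with h | ⟨-, h⟩
    · exact absurd (hinj _ _ h) hj
    · exact h
  have hle : ∀ T : Finset ι, (⨆ i ∈ T, ⁅V, fac K (f i)⁆) ≤ V := fun T =>
    iSup₂_le fun i _ => (ht i).facW_le s
  have hzero : ∀ T : Finset ι, ∀ v ∈ (⨆ i ∈ T, ⁅V, fac K (f i)⁆), (∀ i ∈ T, v ∈ fixV V (fac K (f i))) →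
      v = 1 := by
    intro T
    induction T using Finset.induction_on with
    | empty =>
      intro v hv _
      simpa using hv
    | insert i T hi ih =>
      intro v hv hfix
      rw [Finset.iSup_insert] at hv
      obtain ⟨w, hw, r, hr, rfl⟩ := mem_sup_abelian s ((ht i).facW_le s) (hle T) hv
      have hri : r ∈ fixV V (fac K (f i)) :=
        (iSup₂_le fun j hj => hcross i j (fun e => hi (e ▸ hj))) hr
      have hwi : w ∈ fixV V (fac K (f i)) := by
        simpa using mul_mem (hfix i (Finset.mem_insert_self i T)) (inv_mem hri)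
      have hw1 : w = 1 := by
        have h : w ∈ ⁅V, fac K (f i)⁆ ⊓ fixV V (fac K (f i)) := ⟨hw, hwi⟩
        rwa [(ht i).facW_inf s, mem_bot] at h
      rw [hw1, one_mul] at hfix ⊢
      exact ih r hr fun j hj => hfix j (Finset.mem_insert_of_mem hj)
  have hproj : ∀ T : Finset ι, ∀ v ∈ V, ∃ r ∈ (⨆ i ∈ T, ⁅V, fac K (f i)⁆),
      ∀ i ∈ T, r⁻¹ * v ∈ fixV V (fac K (f i)) := by
    intro T
    induction T using Finset.induction_on with
    | empty => exact fun v _ => ⟨1, one_mem _, fun i hi => absurd hi (Finset.notMem_empty i)⟩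
    | insert i T hi ih =>
      intro v hv
      obtain ⟨r, hr, hfix⟩ := ih v hv
      have hu : r⁻¹ * v ∈ ⁅V, fac K (f i)⁆ ⊔ fixV V (fac K (f i)) := by
        rw [(ht i).facW_sup s]; exact mul_mem (inv_mem (hle T hr)) hv
      obtain ⟨w, hw, c, hc, e⟩ := mem_sup_abelian s ((ht i).facW_le s) inf_le_left hu
      rw [Finset.iSup_insert]
      refine ⟨r * w, mul_mem (mem_sup_right hr) (mem_sup_left hw), fun j hj => ?_⟩
      have e' : (r * w)⁻¹ * v = c := by rw [mul_inv_rev, mul_assoc, ← e, inv_mul_cancel_left]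
      rw [e']
      rcases Finset.mem_insert.mp hj with rfl | hj
      · exact hc
      · have h2 : w * c ∈ fixV V (fac K (f j)) := e.symm ▸ hfix j hj
        simpa using mul_mem (inv_mem (hcross j i (fun e' => hi (e' ▸ hj)) hw)) h2
  refine ⟨?_, le_antisymm (sup_le inf_le_left (iSup_le fun i => (ht i).facW_le s)) fun v hv => ?_⟩
  · intro o
    rw [disjoint_iff, eq_bot_iff]
    cases o with
    | none =>
      rintro v ⟨hv, hv'⟩
      refine mem_bot.mpr (hzero Finset.univ v ?_ fun i _ => fixV_anti V (hH ▸ le_iSup (fun i => fac K (f i)) i) hv)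
      have hle' : (⨆ (j : Option ι) (_ : j ≠ none), j.elim (fixV V H) fun i => ⁅V, fac K (f i)⁆) ≤
          ⨆ i ∈ (Finset.univ : Finset ι), ⁅V, fac K (f i)⁆ := iSup₂_le fun j hj => by
        cases j with
        | none => exact absurd rfl hj
        | some i => exact le_iSup₂_of_le i (Finset.mem_univ i) le_rfl
      exact hle' hv'
    | some i =>
      refine (inf_le_inf_left _ (iSup₂_le fun j hj => ?_)).trans ((ht i).facW_inf s).le
      cases j with
      | none => exact fixV_anti V (hH ▸ le_iSup (fun i => fac K (f i)) i)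
      | some j => exact hcross i j fun e => hj (congrArg some e)
  · obtain ⟨r, hr, hfix⟩ := hproj Finset.univ v hv
    have hc : r⁻¹ * v ∈ fixV V H := by
      refine mem_fixV.mpr ⟨mul_mem (inv_mem (hle _ hr)) hv, fun g hg => ?_⟩
      have hle' : H ≤ centralizer ({r⁻¹ * v} : Set G) := hH ▸ iSup_le fun i g hg =>
        mem_centralizer_singleton_iff.mpr ((mem_fixV.mp (hfix i (Finset.mem_univ i))).2 g hg).eq
      exact mem_centralizer_singleton_iff.mp (hle' hg)
    have hr' : r ∈ ⨆ i, ⁅V, fac K (f i)⁆ := (iSup₂_le fun i _ => le_iSup (fun i => ⁅V, fac K (f i)⁆) i) hr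
    simpa using mul_mem (mem_sup_right hr' : r ∈ fixV V H ⊔ _) (mem_sup_left hc)

end Family

theorem Trans.commutator_pgroup {a : G} (t : Trans p V H a) (s : Setting p V H K) :
    (p = 2 ∧ IsPGroup 3 ↥(⁅K, zpowers a⁆)) ∨
      (p = 3 ∧ IsPGroup 2 ↥(⁅K, zpowers a⁆) ∧ ¬ IsMulCommutative ↥(⁅K, zpowers a⁆)) := by
  obtain ⟨d, h, -, e⟩ := t.fac_pair s
  have hc := t.fac_card_inf s
  rw [t.fac_card s, ← e] at hc
  rcases t.fac_pcases s with hp2 | hp3
  · left
    refine ⟨hp2, IsPGroup.of_card (n := 1) ?_⟩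
    subst hp2
    have h6 : Nat.card SL(2, ZMod 2) = 6 := by rw [Nat.card_eq_fintype_card]; decide
    rw [h6] at hc
    omega
  · right
    subst hp3
    have h24 : Nat.card SL(2, ZMod 3) = 24 := by rw [Nat.card_eq_fintype_card]; decide
    rw [h24] at hc
    refine ⟨rfl, IsPGroup.of_card (n := 3) (by omega), fun hcomm => ?_⟩
    obtain ⟨φ⟩ := t.fac_iso s
    set Q := (fac K a ⊓ K).subgroupOf (fac K a) with hQ
    have hQn : Q.Normal := by
      refine normal_subgroupOf_iff_le_normalizer_inf.mpr ?_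
      intro g hg
      have hn := inf_normalizer_le_normalizer_inf
        (⟨le_normalizer hg, s.Knorm (t.fac_le s hg)⟩ :
          g ∈ normalizer (fac K a : Set G) ⊓ normalizer (K : Set G))
      simpa [inf_left_idem] using hn
    have hidx : Q.index = 3 := by
      have h1 := card_mul_index Q
      rw [hQ, Coprime.card_subgroupOf inf_le_left, t.fac_card s, h24] at h1
      rw [e] at hc
      have h8 : Nat.card (fac K a ⊓ K : Subgroup G) = 8 := by omega
      rw [h8, ← hQ] at h1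
      omega
    have hmem : ∀ m : SL(2, ZMod 3), m ^ 4 = 1 → ((φ.symm m : fac K a) : G) ∈ ⁅K, zpowers a⁆ := by
      intro m hm
      have h3 := Subgroup.pow_index_mem Q (φ.symm m)
      rw [hidx] at h3
      have h4 : φ.symm m ^ 4 = 1 := by rw [← map_pow, hm, map_one]
      have : φ.symm m ∈ Q := by
        have e1 : φ.symm m = φ.symm m ^ 4 * (φ.symm m ^ 3)⁻¹ := by group
        rw [e1, h4, one_mul]; exact inv_mem h3
      rw [e]
      exact this
    obtain ⟨i, j, hi, hj, hij⟩ := sl23_noncomm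
    refine hij (φ.symm.injective (Subtype.ext ?_))
    have := congrArg Subtype.val (hcomm.is_comm.comm ⟨_, hmem i hi⟩ ⟨_, hmem j hj⟩)
    simpa using this

end Cfsg.Agent.Lib.Offender
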