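import Cfsg.Agent.Lib.Offender.Abelian
import Mathlib.GroupTheory.NoncommPiCoprod
import Mathlib.Data.Fintype.Perm

/-!
A group generated by offenders for the prime 2 is a direct power of the symmetric group on three points.
-/

set_option autoImplicit false
open Subgroup
open scoped commutatorElement MatrixGroups

namespace Cfsg.Agent.Lib.Offender

open Cfsg Cfsg.Agent.Lib.Thompson

/-- The three nonzero vectors. -/
def nzVec : Fin 3 → Fin 2 → ZMod 2 := ![![1, 0], ![0, 1], ![1, 1]]

/-- The index of a nonzero vector. -/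
def nzIdx (v : Fin 2 → ZMod 2) : Fin 3 := if v 1 = 0 then 0 else if v 0 = 0 then 1 else 2

/-- The permutation of the nonzero vectors. -/
def permOfSL (m : SL(2, ZMod 2)) : Equiv.Perm (Fin 3) where
  toFun i := nzIdx ((m : Matrix (Fin 2) (Fin 2) (ZMod 2)).mulVec (nzVec i))
  invFun i := nzIdx ((m⁻¹ : SL(2, ZMod 2)).1.mulVec (nzVec i))
  left_inv := by revert m; decide +kernel
  right_inv := by revert m; decide +kernel

theorem permOfSL_mul : ∀ a b : SL(2, ZMod 2), permOfSL (a * b) = permOfSL a * permOfSL b := by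
  decide +kernel

theorem permOfSL_bijective : Function.Bijective permOfSL := by decide +kernel

/-- `SL₂(2) ≅ S₃`. -/
noncomputable def slTwoEquiv : SL(2, ZMod 2) ≃* Equiv.Perm (Fin 3) :=
  MulEquiv.ofBijective (MonoidHom.mk' permOfSL permOfSL_mul) permOfSL_bijective

variable {G : Type*} [Group G] [Finite G] [hp : Fact (Nat.Prime 2)] {V H K : Subgroup G}

theorem Setting.equiv_symThree (s : Setting 2 V H K)
    (hgen : H = ⨆ A : {A : Subgroup G // A ≤ H ∧ IsBestOffenderOn 2 V A}, (A : Subgroup G)) (hH : H ≠ ⊥) :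
    ∃ n : ℕ, 1 ≤ n ∧ Nonempty (↥H ≃* (Fin n → Equiv.Perm (Fin 3))) := by
  classical
  set S := {F : Subgroup G // ∃ a, Trans 2 V H a ∧ fac K a = F}
  haveI : Finite S := Subtype.finite
  obtain ⟨n, ⟨σ⟩⟩ := Finite.exists_equiv_fin S
  choose f hf hfF using fun i : Fin n => (σ.symm i).2
  have hinj : ∀ i j, fac K (f i) = fac K (f j) → i = j := fun i j h =>
    σ.symm.injective (Subtype.ext (by rw [← hfF i, ← hfF j, h]))
  have hHsup : ⨆ i, fac K (f i) = H := by
    refine le_antisymm (iSup_le fun i => (hf i).fac_le s) (s.le_of_trans hgen fun A hA => ?_)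
    obtain ⟨a, rfl, ta⟩ := s.min_trans hA
    rw [zpowers_le]
    refine (le_iSup (fun i => fac K (f i)) (σ ⟨fac K a, a, ta, rfl⟩)) ?_
    show a ∈ fac K (f (σ ⟨fac K a, a, ta, rfl⟩))
    rw [hfF, Equiv.symm_apply_apply]
    exact mem_fac K a
  have hcomm : Pairwise fun i j => ∀ x y : G, x ∈ fac K (f i) → y ∈ fac K (f j) → Commute x y := by
    intro i j hij x y hx hy
    rcases fac_dichotomy s (hf i) (hf j) with h | ⟨h, -⟩
    · exact absurd (hinj i j h.symm) hij
    · exact h x hx y hy
  let φ := Subgroup.noncommPiCoprod hcomm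
  have hφ : Function.Injective φ :=
    Subgroup.injective_noncommPiCoprod_of_iSupIndep (indep_family f s hf hinj)
  have hr : φ.range = H := by rw [Subgroup.noncommPiCoprod_range, hHsup]
  refine ⟨n, ?_, ⟨?_⟩⟩
  · by_contra h0
    obtain rfl : n = 0 := by omega
    exact hH (by rw [← hHsup, iSup_of_empty])
  · exact ((MulEquiv.subgroupCongr hr.symm).trans (MonoidHom.ofInjective hφ).symm).trans
      (MulEquiv.piCongrRight fun i => ((hf i).fac_iso s).some.trans slTwoEquiv)

end Cfsg.Agent.Lib.Offender
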