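import Cfsg.Agent.Lib.Offender.Basic
import Cfsg.Agent.Lib.Thompson.Replace
import Cfsg.Agent.Lib.Classical.Simple

/-!
Transvections on an elementary abelian group: a non-commuting congruent pair generates SL(2,p).
-/

set_option autoImplicit false
open Subgroup
open scoped commutatorElement MatrixGroups

namespace Cfsg.Agent.Lib.Offender

open Cfsg Cfsg.Agent.Lib.Thompson

variable {G : Type*} [Group G] {p : ℕ}

/-- An element of order `p` fixing a hyperplane of `V`. -/
structure Trans (p : ℕ) {G : Type*} [Group G] (V H : Subgroup G) (a : G) : Prop where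
  mem : a ∈ H
  pow : a ^ p = 1
  ne : a ≠ 1
  idx : (fixV V (zpowers a)).relIndex V = p

/-- The centre of a transvection. -/
abbrev cen (V : Subgroup G) (a : G) : Subgroup G := ⁅V, zpowers a⁆

theorem mem_fix_zpowers {V : Subgroup G} {a v : G} : v ∈ fixV V (zpowers a) ↔ v ∈ V ∧ Commute a v := by
  constructor
  · exact fun h => ⟨h.1, mem_centralizer_iff.mp h.2 a (mem_zpowers a)⟩
  · rintro ⟨h1, h2⟩
    refine ⟨h1, mem_centralizer_iff.mpr ?_⟩
    rintro _ ⟨i, rfl⟩
    exact (h2.zpow_left i).eq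

theorem mem_fixV {V A : Subgroup G} {v : G} : v ∈ fixV V A ↔ v ∈ V ∧ ∀ a ∈ A, Commute a v :=
  ⟨fun h => ⟨h.1, fun a ha => mem_centralizer_iff.mp h.2 a ha⟩,
    fun h => ⟨h.1, mem_centralizer_iff.mpr fun a ha => (h.2 a ha).eq⟩⟩

theorem conj_eq_comm_mul (g v : G) : g * v * g⁻¹ = ⁅g, v⁆ * v := by
  simp [commutatorElement_def]

/-- `e` raised to a residue modulo `p`. -/
def pe (e : G) (i : ZMod p) : G := e ^ i.val

theorem pe_zero [Fact p.Prime] (e : G) : pe e (0 : ZMod p) = 1 := by simp [pe]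

theorem pe_one [Fact p.Prime] (e : G) : pe e (1 : ZMod p) = e := by simp [pe, ZMod.val_one]

theorem pe_add [hp : Fact p.Prime] {e : G} (he : e ^ p = 1) (i j : ZMod p) :
    pe e (i + j) = pe e i * pe e j := by
  rw [pe, pe, pe, ← pow_add, ZMod.val_add]; exact (pow_eq_pow_mod _ he).symm

theorem pe_mul [hp : Fact p.Prime] {e : G} (he : e ^ p = 1) (i j : ZMod p) :
    pe e (i * j) = (pe e i) ^ j.val := by
  rw [pe, pe, ← pow_mul, ZMod.val_mul]; exact (pow_eq_pow_mod _ he).symm

theorem exists_pe [Finite G] [hp : Fact p.Prime] {e u : G} (he : e ^ p = 1) (hu : u ∈ zpowers e) :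
    ∃ i : ZMod p, pe e i = u := by
  rw [← mem_powers_iff_mem_zpowers] at hu
  obtain ⟨n, rfl⟩ := hu
  exact ⟨n, by rw [pe, ZMod.val_natCast]; exact (pow_eq_pow_mod _ he).symm⟩

variable [Finite G] [hp : Fact p.Prime] {V H K : Subgroup G}

theorem Setting.vcomm (s : Setting p V H K) {x y : G} (hx : x ∈ V) (hy : y ∈ V) : x * y = y * x :=
  commute_of_elementary s.elemV hx hy

theorem Setting.conj_mem_V (s : Setting p V H K) {g v : G} (hg : g ∈ H) (hv : v ∈ V) : g * v * g⁻¹ ∈ V :=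
  (mem_normalizer_iff.mp (s.norm hg) v).mp hv

theorem Setting.comm_mem_V (s : Setting p V H K) {g v : G} (hg : g ∈ H) (hv : v ∈ V) : ⁅g, v⁆ ∈ V := by
  rw [commutatorElement_def]; exact mul_mem (s.conj_mem_V hg hv) (inv_mem hv)

theorem Setting.comm_mul (s : Setting p V H K) {g v w : G} (hg : g ∈ H) (hv : v ∈ V) (hw : w ∈ V) :
    ⁅g, v * w⁆ = ⁅g, v⁆ * ⁅g, w⁆ := by
  have e1 : ⁅g, v * w⁆ = (g * v * g⁻¹) * ⁅g, w⁆ * v⁻¹ := by simp only [commutatorElement_def]; group
  have e2 : ⁅g, v⁆ = g * v * g⁻¹ * v⁻¹ := rfl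
  rw [e1, e2, mul_assoc, mul_assoc, s.vcomm (s.comm_mem_V hg hw) (inv_mem hv)]
  group

theorem Setting.eq_one_of_fix (s : Setting p V H K) {g : G} (hg : g ∈ H) (h : ∀ v ∈ V, Commute g v) : g = 1 := by
  have hm : g ∈ H ⊓ centralizer (V : Set G) := ⟨hg, mem_centralizer_iff.mpr fun v hv => (h v hv).symm.eq⟩
  rwa [s.faith, mem_bot] at hm

/-- The commutator homomorphism of `g` on `V`. -/
def tauHom (s : Setting p V H K) {g : G} (hg : g ∈ H) : V →* G where
  toFun v := ⁅g, (v : G)⁆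
  map_one' := commutatorElement_one_right g
  map_mul' v w := s.comm_mul hg v.2 w.2

theorem cen_eq_range (s : Setting p V H K) {a : G} (ha : a ∈ H) : cen V a = (tauHom s ha).range := by
  apply le_antisymm
  · refine commutator_le.mpr fun v hv g hg => ?_
    rw [← mem_powers_iff_mem_zpowers] at hg
    obtain ⟨n, rfl⟩ := hg
    rw [← commutatorElement_inv]
    refine inv_mem ?_
    show ⁅a ^ n, v⁆ ∈ _
    induction n with
    | zero => rw [pow_zero, commutatorElement_one_left]; exact one_mem _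
    | succ n ih =>
      have e : ⁅a ^ (n + 1), v⁆ = (a * ⁅a ^ n, v⁆ * a⁻¹) * ⁅a, v⁆ := by
        rw [pow_succ']; simp only [commutatorElement_def]; group
      rw [e]
      refine mul_mem ?_ ⟨⟨v, hv⟩, rfl⟩
      rw [conj_eq_comm_mul]
      exact mul_mem ⟨⟨_, s.comm_mem_V (pow_mem ha n) hv⟩, rfl⟩ ih
  · rintro _ ⟨v, rfl⟩
    show ⁅a, (v : G)⁆ ∈ _
    rw [cen, commutator_comm]
    exact commutator_mem_commutator (mem_zpowers a) v.2

theorem mem_cen (s : Setting p V H K) {a u : G} (ha : a ∈ H) : u ∈ cen V a ↔ ∃ v ∈ V, ⁅a, v⁆ = u := by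
  rw [cen_eq_range s ha]
  exact ⟨fun ⟨v, hv⟩ => ⟨v, v.2, hv⟩, fun ⟨v, hv, e⟩ => ⟨⟨v, hv⟩, e⟩⟩

theorem tauHom_ker (s : Setting p V H K) {a : G} (ha : a ∈ H) :
    (tauHom s ha).ker = (fixV V (zpowers a)).subgroupOf V := by
  ext v
  rw [MonoidHom.mem_ker, mem_subgroupOf, mem_fix_zpowers]
  show ⁅a, (v : G)⁆ = 1 ↔ _
  rw [commutatorElement_eq_one_iff_commute]
  exact ⟨fun h => ⟨v.2, h⟩, And.right⟩

theorem Trans.card_cen {a : G} (t : Trans p V H a) (s : Setting p V H K) : Nat.card (cen V a) = p := by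
  rw [cen_eq_range s t.mem, ← index_ker, tauHom_ker]
  exact t.idx

theorem Trans.cen_le_V {a : G} (t : Trans p V H a) (s : Setting p V H K) : cen V a ≤ V := by
  intro u hu
  obtain ⟨v, hv, rfl⟩ := (mem_cen s t.mem).mp hu
  exact s.comm_mem_V t.mem hv

theorem Trans.comm_mem_cen {a v : G} (t : Trans p V H a) (s : Setting p V H K) (hv : v ∈ V) :
    ⁅a, v⁆ ∈ cen V a := (mem_cen s t.mem).mpr ⟨v, hv, rfl⟩

theorem Trans.normalizes_cen {a : G} (t : Trans p V H a) (s : Setting p V H K) :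
    zpowers a ≤ normalizer (cen V a : Set G) :=
  zpowers_le.mpr (mem_normalizer_fintype fun u hu => by
    rw [conj_eq_comm_mul]
    exact mul_mem (t.comm_mem_cen s (t.cen_le_V s hu)) hu)

theorem Trans.cen_le_fix {a : G} (t : Trans p V H a) (s : Setting p V H K) :
    cen V a ≤ fixV V (zpowers a) := by
  refine le_inf (t.cen_le_V s) ?_
  by_contra hne
  have hX : IsPGroup p (cen V a) := (isPGroup_of_elementary s.elemV).to_le (t.cen_le_V s)
  have hle : cen V a ≤ ⁅cen V a, zpowers a⁆ := by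
    have hsub : ⁅cen V a, zpowers a⁆ ≤ cen V a := commutator_le.mpr fun u hu g hg => by
      have := (mem_normalizer_iff.mp (t.normalizes_cen s hg) u⁻¹).mp (inv_mem hu)
      rw [commutatorElement_def, mul_assoc, mul_assoc, ← mul_assoc g]
      exact mul_mem hu this
    refine (eq_of_le_of_card_ge hsub ?_).ge
    rw [t.card_cen s]
    rcases (Nat.dvd_prime hp.out).mp (t.card_cen s ▸ card_dvd_of_le hsub) with h | h
    · exact absurd (commutator_eq_bot_iff_le_centralizer.mp (card_eq_one.mp h)) hne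
    · exact h.ge
  have h0 := eq_bot_of_le_commutator hX (t.normalizes_cen s) (fun g hg => ⟨1, by
    obtain ⟨i, rfl⟩ := hg
    show (a ^ i) ^ p ^ 1 ∈ _
    rw [pow_one, ← zpow_natCast, ← zpow_mul, mul_comm, zpow_mul, zpow_natCast, t.pow, one_zpow]
    exact one_mem _⟩) hle
  have := t.card_cen s
  rw [h0, card_bot] at this
  exact hp.out.ne_one this.symm

theorem cen_eq_zpowers (s : Setting p V H K) {a u : G} (t : Trans p V H a) (hu : u ∈ cen V a) (hu1 : u ≠ 1) :
    cen V a = zpowers u := by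
  refine (eq_of_le_of_card_ge (zpowers_le.mpr hu) ?_).symm
  rw [t.card_cen s, card_zpowers_of_pow (s.elemV.2 u (t.cen_le_V s hu)) hu1]

theorem Trans.exists_cen_ne {a : G} (t : Trans p V H a) (s : Setting p V H K) :
    ∃ u ∈ cen V a, u ≠ 1 := by
  by_contra h
  push Not at h
  have := t.card_cen s
  rw [(eq_bot_iff_forall _).mpr h, card_bot] at this
  exact hp.out.ne_one this.symm

theorem conj_commute {h x y : G} (hc : Commute x y) : Commute (h * x * h⁻¹) (h * y * h⁻¹) :=
  hc.map (MulAut.conj h).toMonoidHom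

theorem Trans.conj {a h : G} (t : Trans p V H a) (s : Setting p V H K) (hh : h ∈ H) :
    Trans p V H (h * a * h⁻¹) where
  mem := mul_mem (mul_mem hh t.mem) (inv_mem hh)
  pow := by rw [conj_pow, t.pow, mul_one, mul_inv_cancel]
  ne := fun e => t.ne (by rwa [mul_inv_eq_one, mul_eq_left] at e)
  idx := by
    have hV : V.map (MulAut.conj h).toMonoidHom = V := by
      ext x
      rw [mem_map_equiv, MulAut.conj_symm_apply]
      simpa using (mem_normalizer_iff.mp (s.norm (inv_mem hh)) x).symm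
    have hF : (fixV V (zpowers a)).map (MulAut.conj h).toMonoidHom = fixV V (zpowers (h * a * h⁻¹)) := by
      ext x
      rw [mem_map_equiv, MulAut.conj_symm_apply, mem_fix_zpowers, mem_fix_zpowers]
      constructor
      · rintro ⟨h1, h2⟩
        refine ⟨?_, ?_⟩
        · have := s.conj_mem_V hh h1; simpa [mul_assoc] using this
        · have := conj_commute (h := h) h2; simpa [mul_assoc] using this
      · rintro ⟨h1, h2⟩
        refine ⟨?_, ?_⟩
        · have := s.conj_mem_V (inv_mem hh) h1; simpa [mul_assoc] using this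
        · have := conj_commute (h := h⁻¹) h2; simpa [mul_assoc] using this
    rw [← hF]
    conv_lhs => arg 2; rw [← hV]
    rw [relIndex_map_map_of_injective _ _ (MulAut.conj h).injective]
    exact t.idx

theorem mem_cen_conj (s : Setting p V H K) {a h u : G} (ha : a ∈ H) (hh : h ∈ H) (hu : u ∈ cen V a) :
    h * u * h⁻¹ ∈ cen V (h * a * h⁻¹) := by
  obtain ⟨v, hv, rfl⟩ := (mem_cen s ha).mp hu
  refine (mem_cen s (mul_mem (mul_mem hh ha) (inv_mem hh))).mpr ⟨h * v * h⁻¹, s.conj_mem_V hh hv, ?_⟩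
  simp only [commutatorElement_def]; group

theorem cen_conj_eq (s : Setting p V H K) {a h u : G} (t : Trans p V H a) (hh : h ∈ H) (hu : u ∈ cen V a)
    (hu1 : u ≠ 1) : cen V (h * a * h⁻¹) = zpowers (h * u * h⁻¹) :=
  cen_eq_zpowers s (t.conj s hh) (mem_cen_conj s t.mem hh hu)
    (fun e => hu1 (by rwa [mul_inv_eq_one, mul_eq_left] at e))

/-- Elements fixing each other's commutators on `V` commute. -/
theorem Setting.commute_of_fix (s : Setting p V H K) {g h : G} (hg : g ∈ H) (hh : h ∈ H)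
    (h1 : ∀ v ∈ V, Commute g ⁅h, v⁆) (h2 : ∀ v ∈ V, Commute h ⁅g, v⁆) : Commute g h := by
  have hk : (h * g)⁻¹ * (g * h) = 1 := by
    refine s.eq_one_of_fix (mul_mem (inv_mem (mul_mem hh hg)) (mul_mem hg hh)) fun v hv => ?_
    have e : (g * h) * v * (g * h)⁻¹ = (h * g) * v * (h * g)⁻¹ := by
      have l : (g * h) * v * (g * h)⁻¹ = (g * ⁅h, v⁆ * g⁻¹) * (g * v * g⁻¹) := by
        simp only [commutatorElement_def]; group
      have r : (h * g) * v * (h * g)⁻¹ = (h * ⁅g, v⁆ * h⁻¹) * (h * v * h⁻¹) := by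
        simp only [commutatorElement_def]; group
      rw [l, r, (h1 v hv).eq, (h2 v hv).eq,
        mul_inv_cancel_right, mul_inv_cancel_right, conj_eq_comm_mul g v, conj_eq_comm_mul h v,
        ← mul_assoc, ← mul_assoc, s.vcomm (s.comm_mem_V hh hv) (s.comm_mem_V hg hv)]
    refine mul_inv_eq_iff_eq_mul.mp ?_
    calc (h * g)⁻¹ * (g * h) * v * ((h * g)⁻¹ * (g * h))⁻¹
        = (h * g)⁻¹ * ((g * h) * v * (g * h)⁻¹) * (h * g) := by group
      _ = v := by rw [e]; group
  exact (inv_mul_eq_one.mp hk).symm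

/-- Two transvections commute when each centre is fixed by the other. -/
theorem Setting.commute_of_trans (s : Setting p V H K) {a d : G} (ta : Trans p V H a) (td : Trans p V H d)
    (h1 : cen V a ≤ fixV V (zpowers d)) (h2 : cen V d ≤ fixV V (zpowers a)) : Commute a d :=
  s.commute_of_fix ta.mem td.mem (fun _ hv => (mem_fix_zpowers.mp (h2 (td.comm_mem_cen s hv))).2)
    (fun _ hv => (mem_fix_zpowers.mp (h1 (ta.comm_mem_cen s hv))).2)

/-- Congruent commuting elements of order `p` are equal. -/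
theorem Setting.eq_of_commute (s : Setting p V H K) {a d : G} (hap : a ^ p = 1) (hdp : d ^ p = 1)
    (hc : Commute a d) (hK : d * a⁻¹ ∈ K) : d = a := by
  have h1 : (d * a⁻¹) ^ p = 1 := by
    rw [hc.symm.inv_right.mul_pow, hdp, inv_pow, hap, inv_one, mul_one]
  have h2 : orderOf (d * a⁻¹) ∣ 1 := by
    rw [← s.Kcop.gcd_eq_one]
    exact Nat.dvd_gcd (K.orderOf_dvd_natCard hK) (orderOf_dvd_of_pow_eq_one h1)
  exact mul_inv_eq_one.mp (orderOf_eq_one_iff.mp (Nat.dvd_one.mp h2))

/-- The standard vector coordinates. -/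
def cmb (e1 e2 : G) (v : Fin 2 → ZMod p) : G := pe e1 (v 0) * pe e2 (v 1)

/-- `g` acts on the plane as the matrix `m`. -/
def Rel (e1 e2 : G) (g : G) (m : SL(2, ZMod p)) : Prop :=
  ∀ v : Fin 2 → ZMod p, g * cmb e1 e2 v * g⁻¹ = cmb e1 e2 ((m : Matrix (Fin 2) (Fin 2) (ZMod p)).mulVec v)

end Cfsg.Agent.Lib.Offender
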